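import Cfsg.Agent.S2535
import Cfsg.Agent.H553.OddHall_m3
import Cfsg.Prelude.Def_Classical
import Cfsg.Agent.H167.OP.MinD2
import Cfsg.Agent.Lib.Cores
import Cfsg.Agent.S0044
import Mathlib
import Cfsg.Agent.H575.Dim
import Cfsg.Agent.Blocks.ModularTraces
import Cfsg.Agent.H892.FixDim
import Cfsg.Agent.ClassicalGeometry.SympInvolutions
import Cfsg.Agent.ClassicalGeometry.SiegelGen
import Cfsg.Agent.ClassicalGeometry.OrthDickson
import Cfsg.Agent.LieClassical.OmegaCenter
import Cfsg.Agent.LieClassical.OrthForms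
import Cfsg.Agent.S2536
import Mathlib.LinearAlgebra.QuadraticForm.Basic
import Mathlib.GroupTheory.SpecificGroups.Alternating
import Mathlib.FieldTheory.Finite.Basic
import Cfsg.Agent.FastGrp
import Cfsg.Agent.Prune
set_option linter.all false

section
prune_inst 0x7ffca8f8abb839dedfff7e7faed4dffc3b901fffa4dfe94bffe063ff0b9f030049c5fbad89e090fc0f96c21410a87843f97ecabfea6bdc7ffffd5ff41ffbee0ff5f7b508519488340fbc2ff603f0778e7f3fffffffffffffffffffffffffffbeffbfffffffff

-- part: H553/OddAlt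
section
set_option linter.all false
open scoped Cfsg.Agent.FastGrp

/-!
# The alternating row of S4350 (helper553)
-/

set_option autoImplicit false

namespace Cfsg.Agent.H553.OddAlt

open Subgroup Cfsg Cfsg.Agent.H553.OddHall Cfsg.Agent.H988.CPi

theorem oddC_alt (n : ℕ) : OddC (alternatingGroup (Fin n)) := by
  intro π _ H K hH hK
  obtain ⟨-, -, h⟩ := Cfsg.Agent.S2535.result n π
  obtain ⟨g, hg⟩ := (h.mp ⟨H, hH⟩).2 H K hH hK
  exact ⟨g, by rw [hg, conj_eq]⟩

theorem oddC_alternating {G : Type*} [Group G] (h : IsAlternating G) : OddC G := by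
  obtain ⟨n, -, ⟨e⟩⟩ := h
  exact (oddC_alt n).of_equiv e.symm

end Cfsg.Agent.H553.OddAlt
end

-- part: H167/OP/Alpha
section
prune_inst 0x146001405862120000180512a0001c46da0004200100000008800d020e892a220041206184802504120a80c5003100281154001002100000000004000119008000a912063150ad0010009e000080000000000000000000000000000000000004000000000
set_option linter.all false
open scoped Cfsg.Agent.FastGrp

/-!
# The linear lemma, abelian case (helper167)

`rk ρ y = dim [V,y]`.  If `y` is a `t`-element normalising, but not centralising, an abelian `s`-group,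
`s < t`, then `rk ρ y ≥ (t - 1) dim V_E` for a nonzero space `V_E`.
-/

set_option autoImplicit false

namespace Cfsg.Agent.H167.OP

open Module

variable {F : Type*} [Field F] {V : Type*} [AddCommGroup V] [Module F V] {G : Type*} [Group G]

theorem mul_ap (ρ : Representation F G V) (g h : G) (v : V) : ρ (g * h) v = ρ g (ρ h v) := by
  rw [map_mul]; rfl

theorem inv_ap (ρ : Representation F G V) (g : G) (v : V) : ρ g⁻¹ (ρ g v) = v := by
  rw [← mul_ap, inv_mul_cancel, map_one]; rfl

theorem ap_inv (ρ : Representation F G V) (g : G) (v : V) : ρ g (ρ g⁻¹ v) = v := by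
  rw [← mul_ap, mul_inv_cancel, map_one]; rfl

theorem one_ap (ρ : Representation F G V) (v : V) : ρ 1 v = v := by
  rw [map_one]; rfl

/-- `dim [V,y]` -/
noncomputable def rk (ρ : Representation F G V) (y : G) : ℕ := finrank F (LinearMap.range (ρ y - 1))

theorem sub_mem_range (ρ : Representation F G V) (y : G) (v : V) :
    ρ y v - v ∈ LinearMap.range (ρ y - 1) := ⟨v, rfl⟩

theorem pow_sub_mem_range (ρ : Representation F G V) (y : G) (n : ℕ) (v : V) :
    ρ (y ^ (n + 1)) v - ρ (y ^ n) v ∈ LinearMap.range (ρ y - 1) := by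
  rw [pow_succ', mul_ap]
  exact sub_mem_range ρ y _

/-- independent translates give a lower bound of the rank -/
theorem le_rk [FiniteDimensional F V] (ρ : Representation F G V) (y : G) (W : Submodule F V) (m : ℕ)
    (hW : ∀ w : ℕ → V, (∀ i, w i ∈ W) → ∑ i ∈ Finset.range (m + 1), ρ (y ^ i) (w i) = 0 →
      ∀ i ≤ m, w i = 0) : m * finrank F W ≤ rk ρ y := by
  classical
  let φ : (Fin m → W) →ₗ[F] LinearMap.range (ρ y - 1) :=
    { toFun := fun w => ⟨∑ i : Fin m, (ρ (y ^ ((i : ℕ) + 1)) (w i) - ρ (y ^ (i : ℕ)) (w i)),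
        Submodule.sum_mem _ fun i _ => pow_sub_mem_range ρ y i _⟩
      map_add' := fun a b => Subtype.ext (by
        simp only [Pi.add_apply, Submodule.coe_add, map_add, ← Finset.sum_add_distrib]
        refine Finset.sum_congr rfl fun i _ => ?_
        abel)
      map_smul' := fun c a => Subtype.ext (by
        simp only [Pi.smul_apply, Submodule.coe_smul, map_smul, RingHom.id_apply, Finset.smul_sum,
          smul_sub]) }
  have hinj : Function.Injective φ := by
    rw [← LinearMap.ker_eq_bot, LinearMap.ker_eq_bot']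
    intro w hw
    have h0 : ∑ i : Fin m, (ρ (y ^ ((i : ℕ) + 1)) (w i) - ρ (y ^ (i : ℕ)) (w i)) = 0 :=
      congrArg Subtype.val hw
    let w' : ℕ → V := fun i => if h : i < m then (w ⟨i, h⟩ : V) else 0
    have hw' : ∀ i, w' i ∈ W := by
      intro i
      by_cases h : i < m
      · simp only [w', h, dif_pos]; exact (w ⟨i, h⟩).2
      · simp only [w', h, dif_neg, not_false_iff]; exact W.zero_mem
    have h1 : ∑ i ∈ Finset.range m, (ρ (y ^ (i + 1)) (w' i) - ρ (y ^ i) (w' i)) = 0 := by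
      rw [Finset.sum_range]
      rw [← h0]
      refine Finset.sum_congr rfl fun i _ => ?_
      simp only [w', i.2, dif_pos]
    let u : ℕ → V := fun i => if i = 0 then - w' 0 else w' (i - 1) - w' i
    have hu : ∀ i, u i ∈ W := by
      intro i
      by_cases h : i = 0
      · simp only [u, h, if_true]; exact W.neg_mem (hw' _)
      · simp only [u, h, if_false]; exact W.sub_mem (hw' _) (hw' _)
    have h2 : ∑ i ∈ Finset.range (m + 1), ρ (y ^ i) (u i) = 0 := by
      rw [Finset.sum_range_succ']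
      have h3 : ∀ i ∈ Finset.range m, ρ (y ^ (i + 1)) (u (i + 1)) =
          ρ (y ^ (i + 1)) (w' i) - ρ (y ^ (i + 1)) (w' (i + 1)) := by
        intro i _
        simp only [u, Nat.succ_ne_zero, if_false, Nat.add_sub_cancel, map_sub]
      rw [Finset.sum_congr rfl h3, Finset.sum_sub_distrib]
      rw [Finset.sum_sub_distrib] at h1
      have h4 : ∑ i ∈ Finset.range m, ρ (y ^ (i + 1)) (w' (i + 1)) + ρ (y ^ 0) (w' 0) =
          ∑ i ∈ Finset.range m, ρ (y ^ i) (w' i) := by
        rw [← Finset.sum_range_succ' (fun i => ρ (y ^ i) (w' i)), Finset.sum_range_succ]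
        have : w' m = 0 := by simp only [w', lt_irrefl, dif_neg, not_false_iff]
        rw [this, map_zero, add_zero]
      have h5 : ρ (y ^ 0) (u 0) = - ρ (y ^ 0) (w' 0) := by
        simp only [u, if_true, map_neg]
      rw [h5]
      rw [sub_eq_zero] at h1
      rw [h1, ← h4]
      abel
    have h3 := hW u hu h2
    have h4 : ∀ i, i ≤ m → w' i = 0 := by
      intro i
      induction i with
      | zero =>
        intro _
        have := h3 0 (Nat.zero_le _)
        simp only [u, if_true, neg_eq_zero] at this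
        exact this
      | succ i ih =>
        intro hi
        have h5 := h3 (i + 1) hi
        simp only [u, Nat.succ_ne_zero, if_false, Nat.add_sub_cancel] at h5
        rw [ih (by omega), zero_sub, neg_eq_zero] at h5
        exact h5
    funext i
    apply Subtype.ext
    have := h4 i (by omega)
    simp only [w', i.2, dif_pos] at this
    exact this
  have h1 := LinearMap.finrank_le_finrank_of_injective hinj
  rw [Module.finrank_pi_fintype, Finset.sum_const, Finset.card_univ, Fintype.card_fin,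
    smul_eq_mul] at h1
  exact h1

section avg

variable (ρ : Representation F G V) (E : Subgroup G) [Finite G]

/-- the projection onto the fixed space of `E` -/
noncomputable def avg : Module.End F V :=
  letI : Fintype E := Fintype.ofFinite E
  (Nat.card E : F)⁻¹ • ∑ e : E, ρ e

theorem avg_apply [Fintype E] (v : V) : avg ρ E v = (Nat.card E : F)⁻¹ • ∑ e : E, ρ e v := by
  unfold avg
  rw [LinearMap.smul_apply, LinearMap.sum_apply]
  congr 1
  refine Finset.sum_congr ?_ fun _ _ => rfl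
  ext
  simp

theorem avg_fixed (hE : (Nat.card E : F) ≠ 0) {v : V} (hv : ∀ e ∈ E, ρ e v = v) :
    avg ρ E v = v := by
  have : Fintype E := Fintype.ofFinite E
  rw [avg_apply, Finset.sum_congr rfl fun (e : E) _ => hv e e.2, Finset.sum_const,
    Finset.card_univ, ← Nat.card_eq_fintype_card, ← Nat.cast_smul_eq_nsmul F, smul_smul,
    inv_mul_cancel₀ hE, one_smul]

theorem map_avg {e : G} (he : e ∈ E) (v : V) : ρ e (avg ρ E v) = avg ρ E v := by
  have : Fintype E := Fintype.ofFinite E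
  rw [avg_apply, map_smul, map_sum]
  congr 1
  refine Fintype.sum_equiv (Equiv.mulLeft (⟨e, he⟩ : E)) _ _ fun x => ?_
  rw [← mul_ap]
  rfl

theorem avg_map {e : G} (he : e ∈ E) (v : V) : avg ρ E (ρ e v) = avg ρ E v := by
  have : Fintype E := Fintype.ofFinite E
  rw [avg_apply, avg_apply]
  congr 1
  refine Fintype.sum_equiv (Equiv.mulRight (⟨e, he⟩ : E)) _ _ fun x => ?_
  rw [← mul_ap]
  rfl

theorem avg_comm {g : G} (hg : ∀ e ∈ E, g * e = e * g) (v : V) :
    ρ g (avg ρ E v) = avg ρ E (ρ g v) := by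
  have : Fintype E := Fintype.ofFinite E
  rw [avg_apply, map_smul, map_sum, avg_apply]
  congr 1
  refine Finset.sum_congr rfl fun x _ => ?_
  rw [← mul_ap, hg x x.2, mul_ap]

theorem avg_avg {E' : Subgroup G} (hg : ∀ g ∈ E', ∀ e ∈ E, g * e = e * g) (v : V) :
    avg ρ E' (avg ρ E v) = avg ρ E (avg ρ E' v) := by
  have : Fintype E' := Fintype.ofFinite E'
  rw [avg_apply ρ E', avg_apply ρ E', map_smul, map_sum]
  congr 1
  refine Finset.sum_congr rfl fun x _ => ?_
  exact avg_comm ρ E (hg x x.2) v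

theorem avg_conj {D' : Subgroup G} (g : G) (hD : ∀ x, x ∈ D' ↔ g⁻¹ * x * g ∈ E) (v : V) :
    ρ g (avg ρ E v) = avg ρ D' (ρ g v) := by
  have : Fintype E := Fintype.ofFinite E
  have : Fintype D' := Fintype.ofFinite D'
  let e : E ≃ D' :=
    { toFun := fun x => ⟨g * x * g⁻¹, by rw [hD]; convert x.2 using 1; group⟩
      invFun := fun x => ⟨g⁻¹ * x * g, (hD x).mp x.2⟩
      left_inv := fun x => Subtype.ext (by
        show g⁻¹ * (g * x * g⁻¹) * g = x
        group)
      right_inv := fun x => Subtype.ext (by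
        show g * (g⁻¹ * x * g) * g⁻¹ = x
        group) }
  rw [avg_apply, map_smul, map_sum, avg_apply, Nat.card_congr e]
  congr 1
  refine Fintype.sum_equiv e _ _ fun x => ?_
  rw [← mul_ap, ← mul_ap]
  congr 2
  show g * x = g * x * g⁻¹ * g
  group

/-- the part of the fixed space of `E` outside the fixed space of `D` -/
noncomputable def VE (D : Subgroup G) : Submodule F V where
  carrier := {w | (∀ e ∈ E, ρ e w = w) ∧ avg ρ D w = 0}
  zero_mem' := ⟨fun _ _ => map_zero _, map_zero _⟩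
  add_mem' := by
    rintro a b ⟨ha, ha1⟩ ⟨hb, hb1⟩
    exact ⟨fun e he => by rw [map_add, ha e he, hb e he], by rw [map_add, ha1, hb1, add_zero]⟩
  smul_mem' := by
    rintro c a ⟨ha, ha1⟩
    exact ⟨fun e he => by rw [map_smul, ha e he], by rw [map_smul, ha1, smul_zero]⟩

end avg

variable {s t : ℕ} {y : G} {D : Subgroup G}

/-- `E` is a maximal subgroup of the abelian group `D`, in the form used here -/
def MaxIn (E D : Subgroup G) : Prop := E ≤ D ∧ ∀ x ∈ D, x ∉ E → D ≤ E ⊔ Subgroup.zpowers x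

theorem VE_avg_zero [Finite G] (ρ : Representation F G V) {D E E' : Subgroup G}
    (hD : (Nat.card D : F) ≠ 0) (hab : ∀ a ∈ D, ∀ b ∈ D, a * b = b * a) (hE : MaxIn E D)
    (hE' : MaxIn E' D) (hne : E ≠ E') {w : V} (hw : w ∈ VE ρ E' D) : avg ρ E w = 0 := by
  have h1 : ∀ e ∈ E, ρ e (avg ρ E w) = avg ρ E w := fun e he => map_avg ρ E he w
  have h2 : ∀ e ∈ E', ρ e (avg ρ E w) = avg ρ E w := by
    intro e he
    rw [avg_comm ρ E (fun x hx => hab _ (hE'.1 he) _ (hE.1 hx)), hw.1 e he]
  have h3 : D ≤ E ⊔ E' := by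
    by_cases h : E' ≤ E
    · -- then `E' < E`, so `D ≤ E`
      obtain ⟨x, hx, hx'⟩ : ∃ x ∈ E, x ∉ E' := by
        by_contra hcon
        push Not at hcon
        exact hne (le_antisymm hcon h)
      refine (hE'.2 x (hE.1 hx) hx').trans ?_
      exact sup_le le_sup_right ((Subgroup.zpowers_le.mpr hx).trans le_sup_left)
    · obtain ⟨x, hx, hx'⟩ := Set.not_subset.mp h
      refine (hE.2 x (hE'.1 hx) hx').trans ?_
      exact sup_le_sup_left (Subgroup.zpowers_le.mpr hx) _
  let S : Subgroup G :=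
    { carrier := {g | ρ g (avg ρ E w) = avg ρ E w}
      one_mem' := one_ap ρ _
      mul_mem' := by
        intro a b ha hb
        show ρ (a * b) _ = _
        rw [mul_ap, hb, ha]
      inv_mem' := by
        intro a ha
        show ρ a⁻¹ _ = _
        have : ρ a (avg ρ E w) = avg ρ E w := ha
        conv_lhs => rw [← this]
        rw [inv_ap] }
  have h4 : D ≤ S := h3.trans (sup_le h1 h2)
  have h5 := avg_fixed ρ D hD (v := avg ρ E w) (fun e he => h4 he)
  rw [← h5, avg_avg ρ E (fun g hg e he => hab _ hg _ (hE.1 he)), hw.2, map_zero]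

/-- existence of `V_E ≠ 0` -/
theorem exists_VE [Finite G] (ρ : Representation F G V) {D : Subgroup G} {s : ℕ} (hs : s.Prime)
    (hsF : (s : F) ≠ 0) (hD : (Nat.card D : F) ≠ 0) (hab : ∀ a ∈ D, ∀ b ∈ D, a * b = b * a)
    (hexp : ∀ a ∈ D, a ^ s = 1) (hρ : ∃ d ∈ D, ρ d ≠ 1) :
    ∃ E : Subgroup G, MaxIn E D ∧ E ≠ D ∧ VE ρ E D ≠ ⊥ := by
  classical
  obtain ⟨d, hd, hd1⟩ := hρ
  have hW0 : ∃ w : V, w ≠ 0 ∧ avg ρ D w = 0 := by
    by_contra hcon
    push Not at hcon
    apply hd1
    apply LinearMap.ext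
    intro v
    by_contra hv
    refine hcon (ρ d v - v) (sub_ne_zero.mpr hv) ?_
    rw [map_sub, avg_map ρ D hd, sub_self]
  let S : Set (Subgroup G) := {E | E ≤ D ∧ ∃ w ∈ VE ρ E D, w ≠ 0}
  have hS : S.Nonempty := by
    obtain ⟨w, hw, hw1⟩ := hW0
    refine ⟨⊥, bot_le, w, ⟨?_, hw1⟩, hw⟩
    intro e he
    rw [Subgroup.mem_bot] at he
    rw [he, one_ap]
  obtain ⟨E, hES, hEmax⟩ := (Set.toFinite S).exists_maximal hS
  obtain ⟨hED, w, hw, hw0⟩ := hES
  have hmax : ∀ x ∈ D, x ∉ E → ∀ u : V, u ∈ VE ρ E D → ρ x u = u → u = 0 := by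
    intro x hx hxE u hu hxu
    by_contra hu0
    have h1 : E ⊔ Subgroup.zpowers x ∈ S := by
      refine ⟨sup_le hED (Subgroup.zpowers_le.mpr hx), u, ⟨?_, hu.2⟩, hu0⟩
      let T : Subgroup G :=
        { carrier := {g | ρ g u = u}
          one_mem' := one_ap ρ _
          mul_mem' := by
            intro a b ha hb
            show ρ (a * b) _ = _
            rw [mul_ap, hb, ha]
          inv_mem' := by
            intro a ha
            show ρ a⁻¹ _ = _
            have : ρ a u = u := ha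
            conv_lhs => rw [← this]
            rw [inv_ap] }
      have : E ⊔ Subgroup.zpowers x ≤ T := sup_le (fun e he => hu.1 e he) (Subgroup.zpowers_le.mpr hxu)
      exact fun e he => this he
    have h2 := hEmax h1 le_sup_left
    exact hxE (h2 ((le_sup_right : Subgroup.zpowers x ≤ _) (Subgroup.mem_zpowers x)))
  have hinv : ∀ x ∈ D, ∀ u ∈ VE ρ E D, ρ x u ∈ VE ρ E D := by
    intro x hx u hu
    refine ⟨fun e he => ?_, ?_⟩
    · rw [← mul_ap, hab e (hED he) x hx, mul_ap, hu.1 e he]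
    · rw [avg_map ρ D hx, hu.2]
  have hN : ∀ x ∈ D, x ∉ E → ∀ u ∈ VE ρ E D, ∑ j ∈ Finset.range s, ρ (x ^ j) u = 0 := by
    intro x hx hxE u hu
    refine hmax x hx hxE _ (Submodule.sum_mem _ fun j _ => hinv _ (D.pow_mem hx _) u hu) ?_
    rw [map_sum]
    have h1 : ∀ j ∈ Finset.range s, ρ x (ρ (x ^ j) u) = ρ (x ^ (j + 1)) u := by
      intro j _
      rw [← mul_ap, ← pow_succ']
    rw [Finset.sum_congr rfl h1]
    have h2 := Finset.sum_range_succ (fun j => ρ (x ^ j) u) s
    have h3 := Finset.sum_range_succ' (fun j => ρ (x ^ j) u) s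
    rw [h2] at h3
    rw [hexp x hx, pow_zero] at h3
    exact (add_right_cancel h3).symm
  refine ⟨E, ⟨hED, ?_⟩, ?_, ?_⟩
  · intro a ha haE b hb
    by_contra hbE
    have hbE' : ∀ i j : ℕ, j ≠ 0 → j < s → a ^ i * b ^ j ∉ E := by
      intro i j hj hjs hmem
      apply hbE
      -- `b ^ j` is in the join
      have h1 : b ^ j ∈ E ⊔ Subgroup.zpowers a := by
        have h2 : b ^ j = (a ^ i)⁻¹ * (a ^ i * b ^ j) := by group
        rw [h2]
        exact Subgroup.mul_mem _ (Subgroup.inv_mem _ ((le_sup_right : Subgroup.zpowers a ≤ _)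
          (Subgroup.pow_mem _ (Subgroup.mem_zpowers a) _))) ((le_sup_left : E ≤ _) hmem)
      have hcop : j.Coprime s := by
        rw [Nat.coprime_comm, Nat.Prime.coprime_iff_not_dvd hs]
        intro hdv
        have := Nat.le_of_dvd (Nat.pos_of_ne_zero hj) hdv
        omega
      obtain ⟨m, -, hm⟩ := Nat.exists_mul_mod_eq_one_of_coprime hcop hs.one_lt
      have h3 : b = (b ^ j) ^ m := by
        rw [← pow_mul]
        conv_rhs => rw [← Nat.div_add_mod (j * m) s, hm, pow_add, pow_mul, hexp b hb, one_pow,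
          one_mul, pow_one]
      rw [h3]
      exact Subgroup.pow_mem _ h1 _
    have h1 : ∑ i ∈ Finset.range s, ∑ j ∈ Finset.range s, ρ ((a ^ i * b) ^ j) w = 0 := by
      refine Finset.sum_eq_zero fun i _ => ?_
      refine hN _ (D.mul_mem (D.pow_mem ha _) hb) ?_ w hw
      have := hbE' i 1 one_ne_zero hs.one_lt
      rwa [pow_one] at this
    rw [Finset.sum_comm] at h1
    rw [Finset.sum_eq_single_of_mem 0 (Finset.mem_range.mpr hs.pos)] at h1
    · simp only [pow_zero, one_ap, Finset.sum_const, Finset.card_range] at h1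
      rw [← Nat.cast_smul_eq_nsmul F, smul_eq_zero] at h1
      exact hw0 (h1.resolve_left hsF)
    · intro j hj hj0
      rw [Finset.mem_range] at hj
      have h2 : ∀ i ∈ Finset.range s, ρ ((a ^ i * b) ^ j) w = ρ ((a ^ j) ^ i) (ρ (b ^ j) w) := by
        intro i _
        rw [(show Commute (a ^ i) b from hab _ (D.pow_mem ha _) _ hb).mul_pow, mul_ap, ← pow_mul,
          ← pow_mul, mul_comm i j]
      rw [Finset.sum_congr rfl h2]
      refine hN _ (D.pow_mem ha _) ?_ _ (hinv _ (D.pow_mem hb _) w hw)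
      intro hmem
      -- `a ∈ E`
      apply haE
      have hcop : j.Coprime s := by
        rw [Nat.coprime_comm, Nat.Prime.coprime_iff_not_dvd hs]
        intro hdv
        have := Nat.le_of_dvd (Nat.pos_of_ne_zero hj0) hdv
        omega
      obtain ⟨m, -, hm⟩ := Nat.exists_mul_mod_eq_one_of_coprime hcop hs.one_lt
      have h3 : a = (a ^ j) ^ m := by
        rw [← pow_mul]
        conv_rhs => rw [← Nat.div_add_mod (j * m) s, hm, pow_add, pow_mul, hexp a ha, one_pow,
          one_mul, pow_one]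
      rw [h3]
      exact E.pow_mem hmem _
  · rintro rfl
    exact hw0 (by rw [← avg_fixed ρ E hD hw.1, hw.2])
  · intro hbot
    rw [hbot, Submodule.mem_bot] at hw
    exact hw0 hw

theorem card_ne_zero_of_MinD [Finite G] (h : MinD s t y D) (hsF : (s : F) ≠ 0)
    {E : Subgroup G} (hE : E ≤ D) : (Nat.card E : F) ≠ 0 := by
  have hs : Fact s.Prime := ⟨h.hs⟩
  have h1 : IsPGroup s E := h.isPGroup.to_le hE
  obtain ⟨n, hn⟩ := IsPGroup.iff_card.mp h1
  rw [hn, Nat.cast_pow]
  exact pow_ne_zero _ hsF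

/-- the index of a maximal subgroup -/
theorem relIndex_le [Finite G] {D E : Subgroup G} {s : ℕ} (hs : s.Prime)
    (hab : ∀ a ∈ D, ∀ b ∈ D, a * b = b * a) (hexp : ∀ a ∈ D, a ^ s = 1) (hE : MaxIn E D) :
    E.relIndex D ≤ s := by
  classical
  by_cases h0 : D ≤ E
  · rw [Subgroup.relIndex_eq_one.mpr h0]
    exact hs.one_lt.le
  obtain ⟨x, hx, hxE⟩ := Set.not_subset.mp h0
  have hx : x ∈ D := hx
  let T : Subgroup G :=
    { carrier := {g | g ∈ D ∧ ∃ n : ℕ, (x ^ n)⁻¹ * g ∈ E}
      one_mem' := ⟨D.one_mem, 0, by simp⟩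
      mul_mem' := by
        rintro a b ⟨ha, n, hn⟩ ⟨hb, m, hm⟩
        refine ⟨D.mul_mem ha hb, n + m, ?_⟩
        have h1 : (x ^ (n + m))⁻¹ * (a * b) = ((x ^ n)⁻¹ * a) * ((x ^ m)⁻¹ * b) := by
          have h2 : (x ^ m)⁻¹ * a = a * (x ^ m)⁻¹ := hab _ (D.inv_mem (D.pow_mem hx _)) _ ha
          have h3 : (x ^ m)⁻¹ * (x ^ n)⁻¹ = (x ^ n)⁻¹ * (x ^ m)⁻¹ :=
            hab _ (D.inv_mem (D.pow_mem hx _)) _ (D.inv_mem (D.pow_mem hx _))
          calc (x ^ (n + m))⁻¹ * (a * b) = (x ^ m)⁻¹ * (x ^ n)⁻¹ * (a * b) := by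
                rw [pow_add, mul_inv_rev]
            _ = (x ^ n)⁻¹ * ((x ^ m)⁻¹ * a) * b := by rw [h3]; group
            _ = (x ^ n)⁻¹ * (a * (x ^ m)⁻¹) * b := by rw [h2]
            _ = _ := by group
        rw [h1]
        exact E.mul_mem hn hm
      inv_mem' := by
        rintro a ⟨ha, n, hn⟩
        refine ⟨D.inv_mem ha, n * (s - 1), ?_⟩
        have h1 : (x ^ (n * (s - 1)))⁻¹ = x ^ n := by
          rw [inv_eq_iff_mul_eq_one, ← pow_add]
          have : n * (s - 1) + n = s * n := by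
            obtain ⟨k, rfl⟩ := Nat.exists_eq_add_of_le hs.one_lt.le
            simp
            ring
          rw [this, pow_mul, hexp x hx, one_pow]
        rw [h1]
        have h2 : x ^ n * a⁻¹ = ((x ^ n)⁻¹ * a)⁻¹ := by
          rw [mul_inv_rev, inv_inv]
          exact hab _ (D.pow_mem hx _) _ (D.inv_mem ha)
        rw [h2]
        exact E.inv_mem hn }
  have hT : D ≤ T := by
    refine (hE.2 x hx hxE).trans (sup_le ?_ (Subgroup.zpowers_le.mpr ?_))
    · intro e he
      exact ⟨hE.1 he, 0, by simpa using he⟩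
    · exact ⟨hx, 1, by simp⟩
  rw [Subgroup.relIndex, Subgroup.index]
  let f : Fin s → D ⧸ E.subgroupOf D := fun j => QuotientGroup.mk ⟨x ^ (j : ℕ), D.pow_mem hx _⟩
  have hf : Function.Surjective f := by
    intro q
    induction q using QuotientGroup.induction_on with
    | H d =>
      obtain ⟨-, n, hn⟩ := hT d.2
      refine ⟨⟨n % s, Nat.mod_lt _ hs.pos⟩, ?_⟩
      show (QuotientGroup.mk _ : D ⧸ E.subgroupOf D) = QuotientGroup.mk d
      rw [QuotientGroup.eq, Subgroup.mem_subgroupOf]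
      show (x ^ (n % s))⁻¹ * (d : G) ∈ E
      have : x ^ (n % s) = x ^ n := by
        conv_rhs => rw [← Nat.div_add_mod n s, pow_add, pow_mul, hexp x hx, one_pow, one_mul]
      rw [this]
      exact hn
  have h1 := Nat.card_le_card_of_surjective f hf
  rwa [Nat.card_fin] at h1

theorem MinD.not_nrm_max [Finite G] (h : MinD s t y D) (hst : s < t)
    (hab : ∀ a ∈ D, ∀ b ∈ D, a * b = b * a) {E : Subgroup G} (hE : MaxIn E D) (hne : E ≠ D)
    (hn : Nrm y E) : False := by
  have h1 := h.relIndex_modEq hn (fun a ha b hb => by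
    rw [hab a ha b hb, mul_inv_cancel_right, mul_inv_cancel]
    exact E.one_mem)
  have h2 := relIndex_le h.hs hab (fun a ha => h.pow_eq_one hab ha) hE
  have h3 : E.relIndex D ≠ 1 := by
    intro h4
    rw [Subgroup.relIndex_eq_one] at h4
    exact hne (le_antisymm hE.1 h4)
  have h4 : E.relIndex D < t := lt_of_le_of_lt h2 hst
  have h5 : (1 : ℕ) < t := h.ht.one_lt
  rw [Nat.ModEq, Nat.mod_eq_of_lt h4, Nat.mod_eq_of_lt h5] at h1
  exact h3 h1

/-- the conjugate of a subgroup -/
def cj (g : G) (E : Subgroup G) : Subgroup G := E.map (MulAut.conj g).toMonoidHom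

theorem mem_cj {g x : G} {E : Subgroup G} : x ∈ cj g E ↔ g⁻¹ * x * g ∈ E := by
  constructor
  · rintro ⟨e, he, rfl⟩
    have : g⁻¹ * (g * e * g⁻¹) * g = e := by group
    show g⁻¹ * (g * e * g⁻¹) * g ∈ E
    rw [this]
    exact he
  · intro hx
    refine ⟨_, hx, ?_⟩
    show g * (g⁻¹ * x * g) * g⁻¹ = x
    group

theorem nrm_pow {y : G} {D : Subgroup G} (h : Nrm y D) (n : ℕ) : Nrm (y ^ n) D := by
  induction n with
  | zero => intro d hd; simpa using hd
  | succ n ih =>
    intro d hd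
    have : y ^ (n + 1) * d * (y ^ (n + 1))⁻¹ = y * (y ^ n * d * (y ^ n)⁻¹) * y⁻¹ := by
      rw [pow_succ']; group
    rw [this]
    exact h _ (ih d hd)

theorem nrm_inv [Finite G] {y : G} {D : Subgroup G} (h : Nrm y D) {d : G} (hd : d ∈ D) :
    y⁻¹ * d * y ∈ D := by
  have h1 : y⁻¹ = y ^ (orderOf y - 1) := by
    rw [inv_eq_iff_mul_eq_one, ← pow_succ']
    have := orderOf_pos y
    rw [Nat.sub_add_cancel this, pow_orderOf_eq_one]
  have h2 := nrm_pow h (orderOf y - 1) d hd
  rw [← h1, inv_inv] at h2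
  exact h2

theorem cj_self [Finite G] {y : G} {D : Subgroup G} (h : Nrm y D) (n : ℕ) (x : G) :
    x ∈ D ↔ (y ^ n)⁻¹ * x * y ^ n ∈ D := by
  constructor
  · exact fun hx => nrm_inv (nrm_pow h n) hx
  · intro hx
    have := nrm_pow h n _ hx
    convert this using 1
    group

theorem nrm_of_pow {y : G} {E : Subgroup G} {t a k : ℕ} (ht : t.Prime) (hy : y ^ t ^ a = 1)
    (hk : ¬ t ∣ k) (h : Nrm (y ^ k) E) : Nrm y E := by
  by_cases ha : t ^ a = 1
  · rw [ha, pow_one] at hy
    intro d hd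
    rw [hy]
    simpa using hd
  have hcop : k.Coprime (t ^ a) := by
    apply Nat.Coprime.pow_right
    rw [Nat.coprime_comm]
    exact (Nat.Prime.coprime_iff_not_dvd ht).mpr hk
  have hpos : 0 < t ^ a := Nat.pow_pos ht.pos
  obtain ⟨m, -, hm⟩ := Nat.exists_mul_mod_eq_one_of_coprime hcop (by omega)
  have h3 : y = (y ^ k) ^ m := by
    rw [← pow_mul]
    conv_rhs => rw [← Nat.div_add_mod (k * m) (t ^ a), hm, pow_add, pow_mul, hy, one_pow,
      one_mul, pow_one]
  rw [h3]
  exact nrm_pow h m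

/-- **The abelian case**: the translates of `V_E` are independent. -/
theorem alpha [Finite G] [FiniteDimensional F V] (ρ : Representation F G V) (h : MinD s t y D)
    (hst : s < t) (hsF : (s : F) ≠ 0) (hab : ∀ a ∈ D, ∀ b ∈ D, a * b = b * a)
    (hρ : ∃ d ∈ D, ρ d ≠ 1) :
    ∃ E : Subgroup G, MaxIn E D ∧ E ≠ D ∧ VE ρ E D ≠ ⊥ ∧
      (t - 1) * finrank F (VE ρ E D) ≤ rk ρ y := by
  have hcD := card_ne_zero_of_MinD h hsF (le_refl D)
  obtain ⟨E, hE, hne, hV⟩ := exists_VE ρ h.hs hsF hcD hab (fun a ha => h.pow_eq_one hab ha) hρ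
  refine ⟨E, hE, hne, hV, le_rk ρ y _ (t - 1) ?_⟩
  intro w hw hsum
  have htt : t - 1 + 1 = t := Nat.sub_add_cancel h.ht.one_lt.le
  rw [htt] at hsum
  have hmax : ∀ n : ℕ, MaxIn (cj (y ^ n) E) D := by
    intro n
    refine ⟨fun x hx => ?_, fun x hx hxE => ?_⟩
    · rw [mem_cj] at hx
      exact (cj_self h.nrm n x).mpr (hE.1 hx)
    · rw [mem_cj] at hxE
      have h1 := hE.2 _ ((cj_self h.nrm n x).mp hx) hxE
      intro z hz
      have h2 := h1 ((cj_self h.nrm n z).mp hz)
      have h3 : z ∈ cj (y ^ n) (E ⊔ Subgroup.zpowers ((y ^ n)⁻¹ * x * y ^ n)) := mem_cj.mpr h2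
      rw [cj, Subgroup.map_sup, MonoidHom.map_zpowers] at h3
      have h4 : (MulAut.conj (y ^ n)).toMonoidHom ((y ^ n)⁻¹ * x * y ^ n) = x := by
        show y ^ n * ((y ^ n)⁻¹ * x * y ^ n) * (y ^ n)⁻¹ = x
        group
      rw [h4] at h3
      exact h3
  have hdist : ∀ i j : ℕ, i < j → j < t → cj (y ^ i) E ≠ cj (y ^ j) E := by
    intro i j hij hj heq
    obtain ⟨a, ha⟩ := h.hy
    have h1 : Nrm (y ^ (j - i)) E := by
      intro d hd
      have h2 : y ^ j * d * (y ^ j)⁻¹ ∈ cj (y ^ j) E := by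
        rw [mem_cj]
        convert hd using 1
        group
      rw [← heq, mem_cj] at h2
      convert h2 using 1
      have h3 : y ^ j = y ^ i * y ^ (j - i) := by rw [← pow_add]; congr 1; omega
      rw [h3]
      group
    refine h.not_nrm_max hst hab hE hne (nrm_of_pow h.ht ha ?_ h1)
    intro hdv
    have := Nat.le_of_dvd (by omega) hdv
    omega
  have hdist' : ∀ i j : ℕ, i ≠ j → i < t → j < t → cj (y ^ i) E ≠ cj (y ^ j) E := by
    intro i j hij hi hj
    rcases lt_or_gt_of_ne hij with h1 | h1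
    · exact hdist i j h1 hj
    · exact (hdist j i h1 hi).symm
  have hmem : ∀ n : ℕ, ∀ u ∈ VE ρ E D, ρ (y ^ n) u ∈ VE ρ (cj (y ^ n) E) D := by
    intro n u hu
    refine ⟨fun e he => ?_, ?_⟩
    · rw [mem_cj] at he
      have h1 := hu.1 _ he
      have h2 : e * y ^ n = y ^ n * ((y ^ n)⁻¹ * e * y ^ n) := by group
      rw [← mul_ap, h2, mul_ap, h1]
    · rw [← avg_conj ρ D (y ^ n) (cj_self h.nrm n), hu.2, map_zero]
  intro j hj
  have h1 := congrArg (avg ρ (cj (y ^ j) E)) hsum
  rw [map_sum, map_zero, Finset.sum_eq_single_of_mem j (Finset.mem_range.mpr (by omega))] at h1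
  · have h2 := hmem j _ (hw j)
    rw [avg_fixed ρ _ (card_ne_zero_of_MinD h hsF (hmax j).1) h2.1] at h1
    rw [← inv_ap ρ (y ^ j) (w j), h1, map_zero]
  · intro i hi hij
    rw [Finset.mem_range] at hi
    exact VE_avg_zero ρ hcD hab (hmax j) (hmax i) (hdist' j i (Ne.symm hij) (by omega) hi)
      (hmem i _ (hw i))

end Cfsg.Agent.H167.OP

private theorem dce_64f0bff1e64a : _root_.True := by
  try have : _root_.True := by simp only [_root_.Cfsg.Agent.H167.OP.avg.congr_simp]
  try have : _root_.True := by simp only [_root_.Cfsg.Agent.H167.OP.cj.eq_1]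
  exact _root_.True.intro
end

-- part: H170/HL/PZ
section
set_option linter.all false
open scoped Cfsg.Agent.FastGrp

/-!
# The linear theorem behind `P(z)` (helper170)

`CV ρ D = [V, D]`.
-/

set_option autoImplicit false

namespace Cfsg.Agent.H170.HL

open Module Cfsg.Agent.H167.OP

variable {F : Type*} [Field F] {V : Type*} [AddCommGroup V] [Module F V] {G : Type*} [Group G]

/-- `[V, D]` -/
noncomputable def CV (ρ : Representation F G V) (D : Subgroup G) : Submodule F V :=
  ⨆ d : D, LinearMap.range (ρ d - 1)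

theorem range_le_CV (ρ : Representation F G V) {D : Subgroup G} {d : G} (hd : d ∈ D) :
    LinearMap.range (ρ d - 1) ≤ CV ρ D :=
  le_iSup (fun d : D => LinearMap.range (ρ d - 1)) ⟨d, hd⟩

theorem sub_mem_CV (ρ : Representation F G V) {D : Subgroup G} {d : G} (hd : d ∈ D) (v : V) :
    ρ d v - v ∈ CV ρ D := range_le_CV ρ hd ⟨v, rfl⟩

theorem CV_le {ρ : Representation F G V} {D : Subgroup G} {W : Submodule F V}
    (h : ∀ d ∈ D, LinearMap.range (ρ d - 1) ≤ W) : CV ρ D ≤ W :=
  iSup_le fun d => h d d.2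

theorem CV_mono (ρ : Representation F G V) {D L : Subgroup G} (h : D ≤ L) : CV ρ D ≤ CV ρ L :=
  CV_le fun _ hd => range_le_CV ρ (h hd)

theorem CV_closure_le {ρ : Representation F G V} {S : Set G} {W : Submodule F V}
    (h : ∀ s ∈ S, LinearMap.range (ρ s - 1) ≤ W) : CV ρ (Subgroup.closure S) ≤ W := by
  refine CV_le fun d hd => ?_
  induction hd using Subgroup.closure_induction with
  | mem x hx => exact h x hx
  | one =>
    rw [map_one, sub_self, LinearMap.range_zero]
    exact bot_le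
  | mul a b _ _ ha hb =>
    rintro _ ⟨v, rfl⟩
    have h1 : (ρ (a * b) - 1) v = (ρ a - 1) (ρ b v) + (ρ b - 1) v := by
      show ρ (a * b) v - v = (ρ a (ρ b v) - ρ b v) + (ρ b v - v)
      rw [mul_ap]
      abel
    rw [h1]
    exact W.add_mem (ha ⟨_, rfl⟩) (hb ⟨_, rfl⟩)
  | inv a _ ha =>
    rintro _ ⟨v, rfl⟩
    have h1 : (ρ a⁻¹ - 1) v = -((ρ a - 1) (ρ a⁻¹ v)) := by
      show ρ a⁻¹ v - v = -(ρ a (ρ a⁻¹ v) - ρ a⁻¹ v)
      rw [ap_inv]
      abel
    rw [h1]
    exact W.neg_mem (ha ⟨_, rfl⟩)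

theorem rk_conj_le [FiniteDimensional F V] (ρ : Representation F G V) (g z : G) :
    rk ρ (g * z * g⁻¹) ≤ rk ρ z := by
  have h1 : LinearMap.range (ρ (g * z * g⁻¹) - 1) ≤ (LinearMap.range (ρ z - 1)).map (ρ g) := by
    rintro _ ⟨v, rfl⟩
    refine ⟨(ρ z - 1) (ρ g⁻¹ v), ⟨_, rfl⟩, ?_⟩
    show ρ g (ρ z (ρ g⁻¹ v) - ρ g⁻¹ v) = ρ (g * z * g⁻¹) v - v
    rw [map_sub, ap_inv, mul_ap, mul_ap]
  exact (Submodule.finrank_mono h1).trans (Submodule.finrank_map_le _ _)

theorem finrank_CV_pair [FiniteDimensional F V] (ρ : Representation F G V) (g z : G) :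
    finrank F (CV ρ (Subgroup.closure {z, g * z * g⁻¹})) ≤ 2 * rk ρ z := by
  have h1 : CV ρ (Subgroup.closure {z, g * z * g⁻¹}) ≤
      LinearMap.range (ρ z - 1) ⊔ LinearMap.range (ρ (g * z * g⁻¹) - 1) := by
    refine CV_closure_le ?_
    intro s hs
    rcases hs with rfl | hs
    · exact le_sup_left
    · rw [Set.mem_singleton_iff] at hs
      rw [hs]
      exact le_sup_right
  refine (Submodule.finrank_mono h1).trans ((Submodule.finrank_add_le_finrank_add_finrank _ _).trans ?_)
  have := rk_conj_le ρ g z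
  unfold rk at this ⊢
  omega

theorem VE_le_CV [Finite G] (ρ : Representation F G V) {D E : Subgroup G}
    (hD : (Nat.card D : F) ≠ 0) : VE ρ E D ≤ CV ρ D := by
  classical
  intro w hw
  have : Fintype D := Fintype.ofFinite D
  have h1 : avg ρ D w = 0 := hw.2
  rw [avg_apply] at h1
  have h2 : ∑ e : D, ρ e w = 0 := by
    rcases smul_eq_zero.mp h1 with h3 | h3
    · exact absurd (inv_eq_zero.mp h3) hD
    · exact h3
  have h3 : (Nat.card D : F) • w = -∑ e : D, (ρ e w - w) := by
    rw [Finset.sum_sub_distrib, h2, Finset.sum_const, Finset.card_univ, zero_sub, neg_neg,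
      Nat.card_eq_fintype_card, Nat.cast_smul_eq_nsmul]
  have h4 : (Nat.card D : F) • w ∈ CV ρ D := by
    rw [h3]
    exact Submodule.neg_mem _ (Submodule.sum_mem _ fun e _ => sub_mem_CV ρ e.2 w)
  have h5 := (CV ρ D).smul_mem (Nat.card D : F)⁻¹ h4
  rwa [smul_smul, inv_mul_cancel₀ hD, one_smul] at h5

/-- independent translates inside a subspace -/
theorem mul_finrank_le [FiniteDimensional F V] (ρ : Representation F G V) (y : G)
    (W U : Submodule F V) (m : ℕ) (hU : ∀ i < m, ∀ w ∈ W, ρ (y ^ i) w ∈ U)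
    (hW : ∀ w : ℕ → V, (∀ i, w i ∈ W) → ∑ i ∈ Finset.range m, ρ (y ^ i) (w i) = 0 →
      ∀ i < m, w i = 0) : m * finrank F W ≤ finrank F U := by
  classical
  let φ : (Fin m → W) →ₗ[F] U :=
    { toFun := fun w => ⟨∑ i : Fin m, ρ (y ^ (i : ℕ)) (w i),
        Submodule.sum_mem _ fun i _ => hU i i.2 _ (w i).2⟩
      map_add' := fun a b => Subtype.ext (by
        simp only [Pi.add_apply, Submodule.coe_add, map_add, ← Finset.sum_add_distrib])
      map_smul' := fun c a => Subtype.ext (by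
        simp only [Pi.smul_apply, Submodule.coe_smul, map_smul, RingHom.id_apply,
          Finset.smul_sum]) }
  have hinj : Function.Injective φ := by
    rw [← LinearMap.ker_eq_bot, LinearMap.ker_eq_bot']
    intro w hw
    have h0 : ∑ i : Fin m, ρ (y ^ (i : ℕ)) (w i) = 0 := congrArg Subtype.val hw
    let w' : ℕ → V := fun i => if h : i < m then (w ⟨i, h⟩ : V) else 0
    have hw' : ∀ i, w' i ∈ W := by
      intro i
      by_cases h : i < m
      · simp only [w', h, dif_pos]; exact (w ⟨i, h⟩).2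
      · simp only [w', h, dif_neg, not_false_iff]; exact W.zero_mem
    have h1 : ∑ i ∈ Finset.range m, ρ (y ^ i) (w' i) = 0 := by
      rw [Finset.sum_range, ← h0]
      refine Finset.sum_congr rfl fun i _ => ?_
      simp only [w', i.2, dif_pos]
    have h3 := hW w' hw' h1
    funext i
    apply Subtype.ext
    have := h3 i i.2
    simp only [w', i.2, dif_pos] at this
    exact this
  have h1 := LinearMap.finrank_le_finrank_of_injective hinj
  rw [Module.finrank_pi_fintype, Finset.sum_const, Finset.card_univ, Fintype.card_fin,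
    smul_eq_mul] at h1
  exact h1

variable {s t : ℕ} {y : G} {D : Subgroup G}

/-- **The abelian case**: the translates of `V_E` are independent inside `[V, D]`; here `E` is any
maximal subgroup of `D` not normalised by `y`. -/
theorem mul_finrank_VE_le [Finite G] [FiniteDimensional F V] (ρ : Representation F G V)
    (h : MinD s t y D) (hsF : (s : F) ≠ 0) (hab : ∀ a ∈ D, ∀ b ∈ D, a * b = b * a)
    {E : Subgroup G} (hE : MaxIn E D) (hnE : ¬ Nrm y E) :
    t * finrank F (VE ρ E D) ≤ finrank F (CV ρ D) := by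
  have hcD := card_ne_zero_of_MinD h hsF (le_refl D)
  have hmax : ∀ n : ℕ, MaxIn (cj (y ^ n) E) D := by
    intro n
    refine ⟨fun x hx => ?_, fun x hx hxE => ?_⟩
    · rw [mem_cj] at hx
      exact (cj_self h.nrm n x).mpr (hE.1 hx)
    · rw [mem_cj] at hxE
      have h1 := hE.2 _ ((cj_self h.nrm n x).mp hx) hxE
      intro z hz
      have h2 := h1 ((cj_self h.nrm n z).mp hz)
      have h3 : z ∈ cj (y ^ n) (E ⊔ Subgroup.zpowers ((y ^ n)⁻¹ * x * y ^ n)) := mem_cj.mpr h2
      rw [cj, Subgroup.map_sup, MonoidHom.map_zpowers] at h3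
      have h4 : (MulAut.conj (y ^ n)).toMonoidHom ((y ^ n)⁻¹ * x * y ^ n) = x := by
        show y ^ n * ((y ^ n)⁻¹ * x * y ^ n) * (y ^ n)⁻¹ = x
        group
      rw [h4] at h3
      exact h3
  have hmem : ∀ n : ℕ, ∀ u ∈ VE ρ E D, ρ (y ^ n) u ∈ VE ρ (cj (y ^ n) E) D := by
    intro n u hu
    refine ⟨fun e he => ?_, ?_⟩
    · rw [mem_cj] at he
      have h1 := hu.1 _ he
      have h2 : e * y ^ n = y ^ n * ((y ^ n)⁻¹ * e * y ^ n) := by group
      rw [← mul_ap, h2, mul_ap, h1]
    · rw [← avg_conj ρ D (y ^ n) (cj_self h.nrm n), hu.2, map_zero]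
  refine mul_finrank_le ρ y _ _ t (fun i _ w hw => VE_le_CV ρ hcD (hmem i w hw)) ?_
  intro w hw hsum
  have hdist : ∀ i j : ℕ, i < j → j < t → cj (y ^ i) E ≠ cj (y ^ j) E := by
    intro i j hij hj heq
    obtain ⟨a, ha⟩ := h.hy
    have h1 : Nrm (y ^ (j - i)) E := by
      intro d hd
      have h2 : y ^ j * d * (y ^ j)⁻¹ ∈ cj (y ^ j) E := by
        rw [mem_cj]
        convert hd using 1
        group
      rw [← heq, mem_cj] at h2
      convert h2 using 1
      have h3 : y ^ j = y ^ i * y ^ (j - i) := by rw [← pow_add]; congr 1; omega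
      rw [h3]
      group
    refine hnE (nrm_of_pow h.ht ha ?_ h1)
    intro hdv
    have := Nat.le_of_dvd (by omega) hdv
    omega
  have hdist' : ∀ i j : ℕ, i ≠ j → i < t → j < t → cj (y ^ i) E ≠ cj (y ^ j) E := by
    intro i j hij hi hj
    rcases lt_or_gt_of_ne hij with h1 | h1
    · exact hdist i j h1 hj
    · exact (hdist j i h1 hi).symm
  intro j hj
  have h1 := congrArg (avg ρ (cj (y ^ j) E)) hsum
  rw [map_sum, map_zero, Finset.sum_eq_single_of_mem j (Finset.mem_range.mpr (by omega))] at h1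
  · have h2 := hmem j _ (hw j)
    rw [avg_fixed ρ _ (card_ne_zero_of_MinD h hsF (hmax j).1) h2.1] at h1
    rw [← inv_ap ρ (y ^ j) (w j), h1, map_zero]
  · intro i hi hij
    rw [Finset.mem_range] at hi
    exact VE_avg_zero ρ hcD hab (hmax j) (hmax i) (hdist' j i (Ne.symm hij) (by omega) hi)
      (hmem i _ (hw i))

/-- the abelian case for `s < t` -/
theorem alpha2 [Finite G] [FiniteDimensional F V] (ρ : Representation F G V) (h : MinD s t y D)
    (hst : s < t) (hsF : (s : F) ≠ 0) (hab : ∀ a ∈ D, ∀ b ∈ D, a * b = b * a)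
    (hρ : ∃ d ∈ D, ρ d ≠ 1) :
    ∃ E : Subgroup G, MaxIn E D ∧ E ≠ D ∧ VE ρ E D ≠ ⊥ ∧
      t * finrank F (VE ρ E D) ≤ finrank F (CV ρ D) := by
  have hcD := card_ne_zero_of_MinD h hsF (le_refl D)
  obtain ⟨E, hE, hne, hV⟩ := exists_VE ρ h.hs hsF hcD hab (fun a ha => h.pow_eq_one hab ha) hρ
  exact ⟨E, hE, hne, hV, mul_finrank_VE_le ρ h hsF hab hE (fun hn => h.not_nrm_max hst hab hE hne hn)⟩

end Cfsg.Agent.H170.HL
end

-- part: H170/HL/Forms
section
set_option linter.all false
open scoped Cfsg.Agent.FastGrp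

/-!
# `dim V_E ≥ 2` in the presence of a form (helper170)
-/

set_option autoImplicit false

namespace Cfsg.Agent.H170.HL

open Module Cfsg.Agent.H167.OP

variable {F : Type*} [Field F] {V : Type*} [AddCommGroup V] [Module F V] {G : Type*} [Group G]
  {σ : F →+* F}

/-- the averaging projection is self-adjoint -/
theorem avg_adj [Finite G] (ρ : Representation F G V) (f : V →ₗ[F] V →ₛₗ[σ] F)
    (hf : ∀ g u v, f (ρ g u) (ρ g v) = f u v) (E : Subgroup G) (u v : V) :
    f (avg ρ E u) v = f u (avg ρ E v) := by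
  classical
  have : Fintype E := Fintype.ofFinite E
  have hσ : σ ((Nat.card E : F)⁻¹) = (Nat.card E : F)⁻¹ := by
    rw [map_inv₀, map_natCast]
  rw [avg_apply, avg_apply, map_smul, LinearMap.map_smulₛₗ, hσ, LinearMap.smul_apply, map_sum,
    map_sum, LinearMap.sum_apply]
  congr 1
  refine Fintype.sum_equiv (Equiv.inv E) _ _ fun e => ?_
  show f (ρ e u) v = f u (ρ ((e⁻¹ : E) : G) v)
  have h1 := hf e u (ρ (e : G)⁻¹ v)
  rw [ap_inv] at h1
  exact h1

/-- if `V_E` is a line, then it is not isotropic -/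
theorem VE_self_ne_zero [Finite G] (ρ : Representation F G V) (f : V →ₗ[F] V →ₛₗ[σ] F)
    (hf : ∀ g u v, f (ρ g u) (ρ g v) = f u v) (hnd : ∀ x, (∀ y, f y x = 0) → x = 0)
    {D E : Subgroup G} (hED : E ≤ D) (hE : (Nat.card E : F) ≠ 0) (hD : (Nat.card D : F) ≠ 0)
    {w : V} (hw : w ∈ VE ρ E D)
    (hw0 : w ≠ 0) (h1 : ∀ v ∈ VE ρ E D, ∃ c : F, v = c • w) : f w w ≠ 0 := by
  intro h0
  apply hw0
  apply hnd
  intro v
  have h2 : f (avg ρ E v - avg ρ D v) w = f v w := by
    rw [map_sub, LinearMap.sub_apply, avg_adj ρ f hf, avg_adj ρ f hf, hw.2, map_zero, sub_zero,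
      avg_fixed ρ E hE hw.1]
  have h3 : avg ρ E v - avg ρ D v ∈ VE ρ E D := by
    refine ⟨fun e he => ?_, ?_⟩
    · rw [map_sub, map_avg ρ E he, map_avg ρ D (hED he)]
    · have h4 : avg ρ D (avg ρ D v) = avg ρ D v := avg_fixed ρ D hD (fun e he => map_avg ρ D he v)
      have h5 : avg ρ D (avg ρ E v) = avg ρ D v := by
        classical
        have : Fintype E := Fintype.ofFinite E
        rw [avg_apply ρ E, map_smul, map_sum]
        have : ∀ e : E, avg ρ D (ρ e v) = avg ρ D v := fun e => avg_map ρ D (hED e.2) v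
        rw [Finset.sum_congr rfl (fun e _ => this e), Finset.sum_const, Finset.card_univ,
          ← Nat.cast_smul_eq_nsmul F, smul_smul, ← Nat.card_eq_fintype_card,
          inv_mul_cancel₀ hE, one_smul]
      rw [map_sub, h5, h4, sub_self]
  obtain ⟨c, hc⟩ := h1 _ h3
  rw [← h2, hc, map_smul, LinearMap.smul_apply, h0, smul_zero]

/-- `V_E` is invariant under `D` for abelian `D` -/
theorem VE_inv [Finite G] (ρ : Representation F G V) {D E : Subgroup G} (hED : E ≤ D)
    (hab : ∀ a ∈ D, ∀ b ∈ D, a * b = b * a) {x : G} (hx : x ∈ D) {u : V} (hu : u ∈ VE ρ E D) :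
    ρ x u ∈ VE ρ E D := by
  refine ⟨fun e he => ?_, ?_⟩
  · rw [← mul_ap, hab e (hED he) x hx, mul_ap, hu.1 e he]
  · rw [avg_map ρ D hx, hu.2]

/-- a line `V_E`: scalars -/
theorem VE_line [Finite G] [FiniteDimensional F V] (ρ : Representation F G V) {D E : Subgroup G}
    (hV : finrank F (VE ρ E D) = 1) :
    ∃ w ∈ VE ρ E D, w ≠ 0 ∧ ∀ v ∈ VE ρ E D, ∃ c : F, v = c • w := by
  obtain ⟨w, hw0, hw⟩ := finrank_eq_one_iff'.mp hV
  refine ⟨w, w.2, ?_, ?_⟩
  · intro h
    exact hw0 (Subtype.ext h)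
  · intro v hv
    obtain ⟨c, hc⟩ := hw ⟨v, hv⟩
    exact ⟨c, (congrArg Subtype.val hc).symm⟩

/-- symmetric and alternating forms: `dim V_E ≥ 2` -/
theorem two_le_VE [Finite G] [FiniteDimensional F V] (ρ : Representation F G V)
    (f : V →ₗ[F] V →ₗ[F] F)
    (hf : ∀ g u v, f (ρ g u) (ρ g v) = f u v) (hnd : ∀ x, (∀ y, f y x = 0) → x = 0)
    {D E : Subgroup G} (hED : E ≤ D) (hE : (Nat.card E : F) ≠ 0) (hD : (Nat.card D : F) ≠ 0)
    (hab : ∀ a ∈ D, ∀ b ∈ D, a * b = b * a) {r : ℕ} (hr : Odd r) (hexp : ∀ a ∈ D, a ^ r = 1)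
    (hV : VE ρ E D ≠ ⊥) : 2 ≤ finrank F (VE ρ E D) := by
  by_contra hcon
  have h0 : 0 < finrank F (VE ρ E D) := by
    rw [Module.finrank_pos_iff]
    exact Submodule.nontrivial_iff_ne_bot.mpr hV
  have h1 : finrank F (VE ρ E D) = 1 := by omega
  obtain ⟨w, hw, hw0, hl⟩ := VE_line ρ h1
  have hww := VE_self_ne_zero ρ f hf hnd hED hE hD hw hw0 hl
  have h2 : ∀ d ∈ D, ρ d w = w := by
    intro d hd
    obtain ⟨c, hc⟩ := hl _ (VE_inv ρ hED hab hd hw)
    have h3 := hf d w w
    rw [hc, map_smul, map_smul, LinearMap.smul_apply, smul_eq_mul, smul_eq_mul, ← mul_assoc] at h3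
    have h4 : c * c = 1 := by
      have := mul_right_cancel₀ hww (h3.trans (one_mul _).symm)
      exact this
    have h5 : ∀ n : ℕ, ρ (d ^ n) w = c ^ n • w := by
      intro n
      induction n with
      | zero => rw [pow_zero, one_ap, pow_zero, one_smul]
      | succ n ih => rw [pow_succ', mul_ap, ih, map_smul, hc, smul_smul, pow_succ]
    have h6 := h5 r
    rw [hexp d hd, one_ap] at h6
    have h7 : c ^ r = 1 := by
      have h8 : (c ^ r - 1) • w = 0 := by rw [sub_smul, one_smul, ← h6, sub_self]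
      rcases smul_eq_zero.mp h8 with h9 | h9
      · exact sub_eq_zero.mp h9
      · exact absurd h9 hw0
    have h8 : c = 1 := by
      obtain ⟨k, rfl⟩ := hr
      rw [pow_succ, pow_mul, pow_two, h4, one_pow, one_mul] at h7
      exact h7
    rw [hc, h8, one_smul]
  apply hw0
  rw [← avg_fixed ρ D hD h2, hw.2]

end Cfsg.Agent.H170.HL
end

-- part: H170/HL/PZ2_mg
section
prune_inst 0x24207004584012000018051220001c42da0001000108000000c00f020689280200000021b0a024061002804400300048120000000000000000000400010100a080805204b248a10424009f000000000000000000000000000000000000000000000000000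
set_option linter.all false
open scoped Cfsg.Agent.FastGrp

-- part: H170/HL/TGroup
section
/-!
# Solvable groups generated by `t`-elements which act trivially on `t'`-subgroups (helper170)
-/

set_option autoImplicit false

namespace Cfsg.Agent.H170.HL

open Subgroup Cfsg Cfsg.Agent.H167.OP

/-- every `t`-element centralises every `r`-subgroup, `r ≠ t`, which it normalises -/
def CenH (t : ℕ) (L : Type*) [Group L] : Prop :=
  ∀ y : L, (∃ k : ℕ, y ^ t ^ k = 1) → ∀ r : ℕ, r.Prime → r ≠ t → ∀ R : Subgroup L, IsPGroup r R →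
    Nrm y R → Cen y R

/-- the property passes to the quotient by a normal `t`-subgroup -/
theorem CenH.quotient {t : ℕ} [ht : Fact t.Prime] {L : Type*} [Group L] [Finite L] (h : CenH t L)
    (P : Subgroup L) [hPn : P.Normal] (hP : IsPGroup t P) : CenH t (L ⧸ P) := by
  classical
  intro yb hyb r hr hrt Rb hRb hnb
  have hrf : Fact r.Prime := ⟨hr⟩
  let π : L →* L ⧸ P := QuotientGroup.mk' P
  have hπs : Function.Surjective π := QuotientGroup.mk'_surjective P
  obtain ⟨y0, hy0⟩ := hπs yb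
  -- every preimage of a `t`-element is a `t`-element
  have hlift : ∀ x : L, π x = yb → ∃ k : ℕ, x ^ t ^ k = 1 := by
    intro x hx
    obtain ⟨k, hk⟩ := hyb
    have h1 : x ^ t ^ k ∈ P := by
      have : π (x ^ t ^ k) = 1 := by rw [map_pow, hx, hk]
      rwa [QuotientGroup.mk'_apply, QuotientGroup.eq_one_iff] at this
    obtain ⟨m, hm⟩ := hP ⟨_, h1⟩
    refine ⟨k + m, ?_⟩
    rw [pow_add, pow_mul]
    exact congrArg Subtype.val hm
  let M : Subgroup L := Rb.comap π
  have hPM : P ≤ M := by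
    intro x hx
    show π x ∈ Rb
    have : π x = 1 := (QuotientGroup.eq_one_iff x).mpr hx
    rw [this]
    exact Rb.one_mem
  let S : Sylow r M := default
  let R : Subgroup L := (S : Subgroup M).map M.subtype
  have hRM : R ≤ M := Subgroup.map_subtype_le _
  have hRr : IsPGroup r R := S.isPGroup'.map _
  -- `M = P R`
  have hcop : Nat.Coprime (Nat.card P) r := by
    obtain ⟨n, hn⟩ := IsPGroup.iff_card.mp hP
    rw [hn]
    exact Nat.Coprime.pow_left _ ((Nat.coprime_primes ht.out hr).mpr (Ne.symm hrt))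
  have hmap : R.map π = Rb := by
    have h1 : R.map π ≤ Rb := by
      rintro _ ⟨x, hx, rfl⟩
      exact hRM hx
    have h2 : R.map π = (S : Subgroup M).map (π.comp M.subtype) := by
      rw [← Subgroup.map_map]
    -- the index of the image is prime to `r` and a power of `r`
    let ψ : M →* Rb := (π.comp M.subtype).codRestrict Rb (fun x => x.2)
    have hψ : Function.Surjective ψ := by
      rintro ⟨x, hx⟩
      obtain ⟨m, rfl⟩ := hπs x
      exact ⟨⟨m, hx⟩, rfl⟩
    have h3 : (S : Subgroup M).map ψ = ⊤ := by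
      have h4 := (S.mapSurjective hψ)
      have h5 : ((S.mapSurjective hψ : Sylow r Rb) : Subgroup Rb) = ⊤ := by
        have h6 : IsPGroup r (⊤ : Subgroup Rb) := hRb.of_equiv Subgroup.topEquiv.symm
        exact ((S.mapSurjective hψ).is_maximal' h6 le_top).symm
      rw [← h5]
      rfl
    apply le_antisymm h1
    intro x hx
    have h4 : (⟨x, hx⟩ : Rb) ∈ (S : Subgroup M).map ψ := by rw [h3]; trivial
    obtain ⟨m, hm, hmx⟩ := h4
    refine ⟨m, ⟨m, hm, rfl⟩, ?_⟩
    exact congrArg Subtype.val hmx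
  -- `y0` normalises `M`
  have hy0M : ∀ m ∈ M, y0 * m * y0⁻¹ ∈ M := by
    intro m hm
    show π (y0 * m * y0⁻¹) ∈ Rb
    rw [map_mul, map_mul, map_inv, hy0]
    exact hnb _ hm
  have hy0M' : ∀ m : L, y0 * m * y0⁻¹ ∈ M → m ∈ M := by
    intro m hm
    have hsub : M.map (MulAut.conj y0).toMonoidHom ≤ M := by
      rintro _ ⟨x, hx, rfl⟩
      exact hy0M x hx
    have hcard : Nat.card (M.map (MulAut.conj y0).toMonoidHom) = Nat.card M :=
      Nat.card_congr (M.equivMapOfInjective _ (MulAut.conj y0).injective).toEquiv.symm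
    have heq : M.map (MulAut.conj y0).toMonoidHom = M :=
      Subgroup.eq_of_le_of_card_ge hsub hcard.ge
    rw [← heq] at hm
    obtain ⟨x, hx, hxe⟩ := hm
    have : x = m := by
      have h1 : y0 * x * y0⁻¹ = y0 * m * y0⁻¹ := hxe
      exact mul_left_cancel (mul_right_cancel h1)
    rwa [← this]
  -- the conjugate of `R` by `y0` is another Sylow subgroup of `M`
  let α : MulAut M :=
    { toFun := fun m => ⟨y0 * m * y0⁻¹, hy0M m m.2⟩
      invFun := fun m => ⟨y0⁻¹ * m * y0, hy0M' _ (by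
        have : y0 * (y0⁻¹ * (m : L) * y0) * y0⁻¹ = m := by group
        rw [this]
        exact m.2)⟩
      left_inv := fun m => Subtype.ext (by
        show y0⁻¹ * (y0 * m * y0⁻¹) * y0 = m
        group)
      right_inv := fun m => Subtype.ext (by
        show y0 * (y0⁻¹ * m * y0) * y0⁻¹ = m
        group)
      map_mul' := fun a b => Subtype.ext (by
        show y0 * (a * b) * y0⁻¹ = (y0 * a * y0⁻¹) * (y0 * b * y0⁻¹)
        group) }
  obtain ⟨m, hm⟩ := MulAction.exists_smul_eq M S (α • S)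
  -- write `m = p ρ`
  obtain ⟨ρ0, hρ0, hρe⟩ : ∃ ρ0 ∈ R, π ρ0 = π (m : L) := by
    have : π (m : L) ∈ R.map π := by rw [hmap]; exact m.2
    obtain ⟨x, hx, hxe⟩ := this
    exact ⟨x, hx, hxe⟩
  obtain ⟨σ0, hσ0, hσe⟩ := hρ0
  -- the new element
  set y1 : L := (m : L)⁻¹ * y0 with hy1
  set y2 : L := ρ0 * y1 with hy2
  have hy2π : π y2 = yb := by
    rw [hy2, hy1, map_mul, map_mul, map_inv, hρe, mul_inv_cancel_left, hy0]
  have hn1 : Nrm y1 R := by
    rintro x ⟨s, hs, rfl⟩
    have h1 : α s ∈ (m • S : Sylow r M) := by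
      rw [hm]
      exact ⟨s, hs, rfl⟩
    obtain ⟨s', hs', hse⟩ := h1
    refine ⟨s', hs', ?_⟩
    have h2 : (m : L) * s' * (m : L)⁻¹ = y0 * s * y0⁻¹ := congrArg Subtype.val hse
    show (s' : L) = y1 * s * y1⁻¹
    calc (s' : L) = (m : L)⁻¹ * ((m : L) * s' * (m : L)⁻¹) * m := by group
      _ = (m : L)⁻¹ * (y0 * s * y0⁻¹) * m := by rw [h2]
      _ = y1 * s * y1⁻¹ := by rw [hy1]; group
  have hρR : ρ0 ∈ R := ⟨σ0, hσ0, hσe⟩
  have hn2 : Nrm y2 R := by
    intro x hx
    have h1 : y2 * x * y2⁻¹ = ρ0 * (y1 * x * y1⁻¹) * ρ0⁻¹ := by rw [hy2]; group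
    rw [h1]
    exact R.mul_mem (R.mul_mem hρR (hn1 x hx)) (R.inv_mem hρR)
  have hc := h y2 (hlift y2 hy2π) r hr hrt R hRr hn2
  intro d hd
  rw [← hmap] at hd
  obtain ⟨x, hx, rfl⟩ := hd
  rw [← hy2π, ← map_mul, hc x hx, map_mul]

/-- **The lemma**: a solvable group generated by `t`-elements acting trivially on `t'`-subgroups is
a `t`-group. -/
theorem isPGroup_of_cenH {t : ℕ} [ht : Fact t.Prime] {L : Type*} [Group L] [Finite L]
    (hsol : Group.IsSolvable L) (h : CenH t L)
    (hgen : Subgroup.closure {x : L | ∃ k : ℕ, x ^ t ^ k = 1} = ⊤) : IsPGroup t L := by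
  classical
  -- the quotient by the core
  let P : Subgroup L := pCore t L
  have hPn : P.Normal := Cfsg.Agent.Lib.Cores.pCore_normal t
  have hP : IsPGroup t P := Cfsg.Agent.Lib.Cores.pCore_isPGroup t
  have hq := h.quotient P hP
  have hcore : pCore t (L ⧸ P) = ⊥ := Cfsg.Agent.Lib.Cores.pCore_quotient_pCore t
  have hsolQ : Group.IsSolvable (L ⧸ P) := inferInstance
  -- `t`-elements centralise the Fitting subgroup
  have h1 : ∀ y : L ⧸ P, (∃ k : ℕ, y ^ t ^ k = 1) → y ∈ fittingSubgroup (L ⧸ P) := by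
    intro y hy
    refine Cfsg.Agent.S0044.result ?_
    have h2 : fittingSubgroup (L ⧸ P) ≤ centralizer ({y} : Set (L ⧸ P)) := by
      rw [Cfsg.Agent.Lib.Cores.fittingSubgroup_eq_iSup_pCore]
      refine iSup_le fun r => ?_
      by_cases hr : (r : ℕ) = t
      · rw [hr, hcore]
        exact bot_le
      · intro x hx
        rw [mem_centralizer_singleton_iff]
        have hn : (pCore (r : ℕ) (L ⧸ P)).Normal := Cfsg.Agent.Lib.Cores.pCore_normal _
        exact (hq y hy r r.2 hr (pCore (r : ℕ) (L ⧸ P)) (Cfsg.Agent.Lib.Cores.pCore_isPGroup _)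
          (fun d hd => hn.conj_mem d hd y) x hx).symm
    rw [mem_centralizer_iff]
    intro x hx
    exact mem_centralizer_singleton_iff.mp (h2 hx)
  -- the Fitting subgroup is a nilpotent `t'`-group
  have h2 : ∀ y : L ⧸ P, (∃ k : ℕ, y ^ t ^ k = 1) → y = 1 := by
    intro y hy
    have hF := h1 y hy
    have hnil : Group.IsNilpotent (fittingSubgroup (L ⧸ P)) :=
      Cfsg.Agent.Lib.Cores.fittingSubgroup_isNilpotent
    have hFn : (fittingSubgroup (L ⧸ P)).Normal := Cfsg.Agent.Lib.Cores.fittingSubgroup_normal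
    -- `O_t(F) = 1`
    have h3 : (pCore t (fittingSubgroup (L ⧸ P))).map (fittingSubgroup (L ⧸ P)).subtype = ⊥ := by
      rw [Cfsg.Agent.Lib.Cores.map_subtype_pCore t hFn, hcore, inf_bot_eq]
    have h4 : pCore t (fittingSubgroup (L ⧸ P)) = ⊥ := by
      rw [Subgroup.map_eq_bot_iff, Subgroup.ker_subtype, le_bot_iff] at h3
      exact h3
    obtain ⟨k, hk⟩ := hy
    have h6 : IsPGroup t (zpowers (⟨y, hF⟩ : fittingSubgroup (L ⧸ P))) := by
      refine IsPGroup.of_card_dvd_pow (n := k) ?_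
      rw [Nat.card_zpowers]
      exact orderOf_dvd_of_pow_eq_one (Subtype.ext hk)
    obtain ⟨T', hT'⟩ := h6.exists_le_sylow
    have h7 : (T' : Subgroup (fittingSubgroup (L ⧸ P))) = ⊥ := by
      have hTn : (T' : Subgroup (fittingSubgroup (L ⧸ P))).Normal :=
        ((Group.isNilpotent_of_finite_tfae (G := fittingSubgroup (L ⧸ P))).out 0 3 rfl rfl).mp hnil t inferInstance T'
      rw [eq_bot_iff, ← h4]
      exact Cfsg.Agent.Lib.Cores.le_pCore hTn T'.isPGroup'
    rw [h7] at hT'
    have h8 := hT' (mem_zpowers _)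
    rw [mem_bot] at h8
    exact congrArg Subtype.val h8
  -- hence the quotient is trivial
  have h3 : P = ⊤ := by
    rw [eq_top_iff, ← hgen, closure_le]
    rintro x ⟨k, hk⟩
    have h4 := h2 (QuotientGroup.mk' P x) ⟨k, by rw [← map_pow, hk, map_one]⟩
    rwa [QuotientGroup.mk'_apply, QuotientGroup.eq_one_iff] at h4
  exact (Cfsg.Agent.Lib.Cores.pCore_eq_top_iff t).mp h3

end Cfsg.Agent.H170.HL
end

-- part: H170/HL/PZ2
section
/-!
# `P(z)` in a linear group modulo a central subgroup (helper170)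
-/

set_option autoImplicit false

namespace Cfsg.Agent.H170.HL

open Module Cfsg.Agent.H167.OP

variable {F : Type*} [Field F] {V : Type*} [AddCommGroup V] [Module F V] {K : Type*} [Group K]
  {G : Type*} [Group G]

/-- the bound for nonabelian `D` (Lemma beta of helper167) -/
def BetaP (ρ : Representation F K V) (t : ℕ) : Prop :=
  ∀ (s : ℕ) (y : K) (D : Subgroup K), Odd s → MinD s t y D → (s : F) ≠ 0 →
    (∃ a ∈ D, ∃ b ∈ D, a * b ≠ b * a) → 2 * t - 1 ≤ finrank F (CV ρ D)

/-- the condition on abelian subgroups: `dim V_E ≥ 2` -/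
def TwoP [Finite K] (ρ : Representation F K V) (L : Subgroup K) : Prop :=
  ∀ (r : ℕ), r.Prime → Odd r → (r : F) ≠ 0 → ∀ D E : Subgroup K, D ≤ L → E ≤ D →
    (∀ a ∈ D, ∀ b ∈ D, a * b = b * a) → (∀ a ∈ D, a ^ r = 1) → VE ρ E D ≠ ⊥ →
    2 ≤ finrank F (VE ρ E D)

/-- `t`-elements of `L` centralise the `r`-subgroups which they normalise -/
theorem cenH_sub [Finite K] [FiniteDimensional F V] (ρ : Representation F K V)
    (hρ : Function.Injective ρ) {t : ℕ} (ht : t.Prime) (L : Subgroup K)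
    (hb : finrank F (CV ρ L) ≤ 2 * (t - 1)) (f : K →* G) (hker : ∀ k, f k = 1 → ∀ x, k * x = x * k)
    (hr : ∀ r : ℕ, r.Prime → r ≠ t → r ∣ Nat.card (L.map f) → r < t ∧ Odd r ∧ (r : F) ≠ 0)
    (hbeta : BetaP ρ t) (htwo : TwoP ρ L) : CenH t L := by
  classical
  intro y hy r hrp hrt R hR hn
  by_cases hd : r ∣ Nat.card (L.map f)
  · obtain ⟨hlt, hodd, hrF⟩ := hr r hrp hrt hd
    by_contra hc
    have hrf : Fact r.Prime := ⟨hrp⟩
    let B : Subgroup K := R.map L.subtype
    have hB : ∀ d ∈ B, ∃ k : ℕ, d ^ r ^ k = 1 := by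
      rintro _ ⟨x, hx, rfl⟩
      obtain ⟨k, hk⟩ := hR ⟨x, hx⟩
      exact ⟨k, congrArg (fun z : R => ((z : L) : K)) hk⟩
    have hy' : ∃ k : ℕ, (y : K) ^ t ^ k = 1 := by
      obtain ⟨k, hk⟩ := hy
      exact ⟨k, congrArg Subtype.val hk⟩
    have hn' : Nrm (y : K) B := by
      rintro _ ⟨x, hx, rfl⟩
      exact ⟨_, hn x hx, rfl⟩
    have hc' : ¬ Cen (y : K) B := by
      intro h
      apply hc
      intro d hd
      exact Subtype.ext (h d ⟨d, hd, rfl⟩)
    obtain ⟨D, hDB, hD⟩ := exists_minD hrp ht hrt hB hy' hn' hc'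
    have hDL : D ≤ L := hDB.trans (Subgroup.map_subtype_le _)
    have hDb : finrank F (CV ρ D) ≤ 2 * (t - 1) :=
      (Submodule.finrank_mono (CV_mono ρ hDL)).trans hb
    have ht2 := ht.two_le
    by_cases hab : ∀ a ∈ D, ∀ b ∈ D, a * b = b * a
    · have hne : ∃ d ∈ D, ρ d ≠ 1 := by
        by_contra hcon
        push Not at hcon
        apply hD.ncen
        intro d hd
        have : d = 1 := hρ (by rw [hcon d hd, map_one])
        rw [this, mul_one, one_mul]
      obtain ⟨E, hE, hED, hV, hle⟩ := alpha2 ρ hD hlt hrF hab hne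
      have h2 := htwo r hrp hodd hrF D E hDL hE.1 hab (fun a ha => hD.pow_eq_one hab ha) hV
      have h3 : t * 2 ≤ t * finrank F (VE ρ E D) := Nat.mul_le_mul_left t h2
      omega
    · push Not at hab
      have := hbeta r (y : K) D hodd hD hrF hab
      omega
  · -- `R` is central
    intro d hdR
    have hfd : f (d : K) = 1 := by
      obtain ⟨k, hk⟩ := hR ⟨d, hdR⟩
      have h1 : (d : K) ^ r ^ k = 1 := congrArg (fun z : R => ((z : L) : K)) hk
      have h2 : f (d : K) ^ r ^ k = 1 := by rw [← map_pow, h1, map_one]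
      have h3 : orderOf (f (d : K)) ∣ r ^ k := orderOf_dvd_of_pow_eq_one h2
      have h4 : orderOf (f (d : K)) ∣ Nat.card (L.map f) :=
        Subgroup.orderOf_dvd_natCard _ ⟨d, d.2, rfl⟩
      have h5 : Nat.Coprime (r ^ k) (Nat.card (L.map f)) :=
        Nat.Coprime.pow_left _ ((Nat.Prime.coprime_iff_not_dvd hrp).mpr hd)
      have h6 : orderOf (f (d : K)) ∣ 1 := by
        rw [← h5]
        exact Nat.dvd_gcd h3 h4
      exact orderOf_eq_one_iff.mp (Nat.dvd_one.mp h6)
    exact Subtype.ext (hker _ hfd _).symm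

/-- **the pair generated by conjugates of `z`** -/
theorem isPGroup_pair [Finite K] [FiniteDimensional F V] (ρ : Representation F K V)
    (hρ : Function.Injective ρ) {t : ℕ} (ht : t.Prime) (z g : K) (hz : z ^ t = 1)
    (hb : rk ρ z ≤ t - 1) (f : K →* G) (hker : ∀ k, f k = 1 → ∀ x, k * x = x * k)
    (hr : ∀ r : ℕ, r.Prime → r ≠ t →
      r ∣ Nat.card ((Subgroup.closure {z, g * z * g⁻¹}).map f) → r < t ∧ Odd r ∧ (r : F) ≠ 0)
    (hsol : Group.IsSolvable ((Subgroup.closure {z, g * z * g⁻¹}).map f))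
    (hbeta : BetaP ρ t) (htwo : TwoP ρ (Subgroup.closure {z, g * z * g⁻¹})) :
    IsPGroup t ((Subgroup.closure {z, g * z * g⁻¹}).map f) := by
  classical
  have htf : Fact t.Prime := ⟨ht⟩
  set L : Subgroup K := Subgroup.closure {z, g * z * g⁻¹} with hL
  have hC : CenH t L := by
    refine cenH_sub ρ hρ ht L ?_ f hker hr hbeta htwo
    refine (finrank_CV_pair ρ g z).trans ?_
    omega
  -- solvability
  have hsolL : Group.IsSolvable L := by
    let φ : L →* L.map f := (f.comp L.subtype).codRestrict (L.map f) (fun x => ⟨x, x.2, rfl⟩)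
    have h1 : φ.ker ≤ Subgroup.center L := by
      intro x hx
      rw [Subgroup.mem_center_iff]
      intro w
      have h2 : f (x : K) = 1 := congrArg Subtype.val (MonoidHom.mem_ker.mp hx)
      exact Subtype.ext (hker _ h2 _).symm
    have h2 : Group.IsSolvable φ.ker := by
      have : ∀ a b : φ.ker, a * b = b * a := by
        intro a b
        have := Subgroup.mem_center_iff.mp (h1 a.2) b
        exact Subtype.ext this.symm
      exact Group.isSolvable_of_comm this
    exact Group.isSolvable_of_ker_le_range (G' := φ.ker) φ.ker.subtype φ (by rw [Subgroup.range_subtype])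
  have hgen : Subgroup.closure {x : L | ∃ k : ℕ, x ^ t ^ k = 1} = ⊤ := by
    rw [eq_top_iff, ← Subgroup.closure_closure_coe_preimage (k := ({z, g * z * g⁻¹} : Set K))]
    apply Subgroup.closure_mono
    rintro ⟨x, hx⟩ hxm
    refine ⟨1, Subtype.ext ?_⟩
    rw [pow_one]
    show x ^ t = 1
    rcases hxm with h | h
    · have h' : x = z := h
      rw [h', hz]
    · have h' : x = g * z * g⁻¹ := h
      rw [h', conj_pow, hz, mul_one, mul_inv_cancel]
  exact (isPGroup_of_cenH hsolL hC hgen).map f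

end Cfsg.Agent.H170.HL
end

-- part: H170/HL/Small
section
/-!
# Isometries of small support (helper170)

Let `f` be a nondegenerate reflexive form on a finite space and `y` an isometry of prime order `t`
(`t` odd, not the characteristic).  Then there is an isometry `z` of order `t` with
`dim [V, z] ≤ t - 1`, which agrees with `y` on a nondegenerate subspace and is trivial on its
orthogonal space.
-/

set_option autoImplicit false

namespace Cfsg.Agent.H170.HL

open Module Polynomial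

variable {F : Type*} [Field F] {V : Type*} [AddCommGroup V] [Module F V] {σ : F →+* F}

theorem pow_add_apply (y : End F V) (i j : ℕ) (v : V) : (y ^ (i + j)) v = (y ^ i) ((y ^ j) v) := by
  rw [pow_add]; rfl

theorem pow_one_apply' (y : End F V) (i : ℕ) (v : V) : (y ^ (i + 1)) v = y ((y ^ i) v) := by
  rw [pow_succ']; rfl

/-- invariance of `f` under the powers -/
theorem iso_pow (f : V →ₗ[F] V →ₛₗ[σ] F) {y : End F V} (hiso : ∀ u v, f (y u) (y v) = f u v)
    (n : ℕ) (u v : V) : f ((y ^ n) u) ((y ^ n) v) = f u v := by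
  induction n with
  | zero => rfl
  | succ n ih => rw [pow_one_apply', pow_one_apply', hiso, ih]

theorem pow_mod_apply {y : End F V} {t : ℕ} (hy : y ^ t = 1) (n : ℕ) : y ^ n = y ^ (n % t) := by
  conv_lhs => rw [← Nat.div_add_mod n t, pow_add, pow_mul, hy, one_pow, one_mul]

/-- the sum over the cyclic group kills the commutator space -/
theorem sum_pow_eq_zero {y : End F V} {t : ℕ} (hy : y ^ t = 1) {v : V}
    (hv : v ∈ LinearMap.range (y - 1)) : ∑ i ∈ Finset.range t, (y ^ i) v = 0 := by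
  obtain ⟨w, rfl⟩ := hv
  have h1 : ∀ i ∈ Finset.range t, (y ^ i) ((y - 1) w) = (y ^ (i + 1)) w - (y ^ i) w := by
    intro i _
    rw [pow_succ, Module.End.mul_apply, ← map_sub]
    rfl
  rw [Finset.sum_congr rfl h1, Finset.sum_range_sub (fun i => (y ^ i) w), hy, pow_zero, sub_self]

/-- the cyclic submodule -/
def Cyc (y : End F V) (t : ℕ) (v : V) : Submodule F V :=
  Submodule.span F (Set.range fun i : Fin (t - 1) => (y ^ (i : ℕ)) v)

theorem pow_mem_Cyc {y : End F V} {t : ℕ} (ht : 0 < t) (hy : y ^ t = 1) {v : V}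
    (hv : v ∈ LinearMap.range (y - 1)) (n : ℕ) : (y ^ n) v ∈ Cyc y t v := by
  have h0 : ∀ i : ℕ, i < t - 1 → (y ^ i) v ∈ Cyc y t v := by
    intro i hi
    exact Submodule.subset_span ⟨⟨i, hi⟩, rfl⟩
  rw [pow_mod_apply hy n]
  have h1 := Nat.mod_lt n ht
  rcases Nat.lt_or_ge (n % t) (t - 1) with h2 | h2
  · exact h0 _ h2
  · have h3 : n % t = t - 1 := by omega
    rw [h3]
    have h4 := sum_pow_eq_zero hy hv
    obtain ⟨m, rfl⟩ : ∃ m, t = m + 1 := ⟨t - 1, by omega⟩
    rw [Finset.sum_range_succ] at h4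
    rw [Nat.add_sub_cancel] at *
    rw [← eq_neg_iff_add_eq_zero, eq_comm, neg_eq_iff_eq_neg] at h4
    rw [h4]
    exact Submodule.neg_mem _ (Submodule.sum_mem _ fun i hi => h0 i (Finset.mem_range.mp hi))

theorem Cyc_inv {y : End F V} {t : ℕ} (ht : 0 < t) (hy : y ^ t = 1) {v : V}
    (hv : v ∈ LinearMap.range (y - 1)) {u : V} (hu : u ∈ Cyc y t v) : y u ∈ Cyc y t v := by
  have h1 : Cyc y t v ≤ (Cyc y t v).comap y := by
    conv_lhs => rw [Cyc]
    rw [Submodule.span_le]
    rintro _ ⟨i, rfl⟩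
    show y ((y ^ (i : ℕ)) v) ∈ Cyc y t v
    rw [← pow_one_apply']
    exact pow_mem_Cyc ht hy hv _
  exact h1 hu

theorem finrank_Cyc (y : End F V) (t : ℕ) (v : V) : finrank F (Cyc y t v) ≤ t - 1 := by
  have := finrank_range_le_card (R := F) (fun i : Fin (t - 1) => (y ^ (i : ℕ)) v)
  rwa [Fintype.card_fin] at this

/-- an endomorphism of finite order prime to the characteristic has invariant complements -/
theorem exists_compl [FiniteDimensional F V] {y : End F V} {t : ℕ} (htF : (t : F) ≠ 0)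
    (hy : y ^ t = 1) (p : Submodule F V) (hp : ∀ u ∈ p, y u ∈ p) :
    ∃ q : Submodule F V, (∀ u ∈ q, y u ∈ q) ∧ IsCompl p q := by
  have h1 : y.IsSemisimple := by
    refine Module.End.isSemisimple_of_squarefree_aeval_eq_zero (p := X ^ t - 1)
      ((X_pow_sub_one_separable_iff.mpr htF).squarefree) ?_
    rw [map_sub, map_pow, aeval_X, map_one, hy, sub_self]
  rw [Module.End.isSemisimple_iff] at h1
  obtain ⟨q, hq, hc⟩ := h1 p (fun u hu => hp u hu)
  exact ⟨q, fun u hu => hq hu, hc⟩

/-- the right orthogonal space -/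
def Orth (f : V →ₗ[F] V →ₛₗ[σ] F) (U : Submodule F V) : Submodule F V where
  carrier := {w | ∀ u ∈ U, f u w = 0}
  zero_mem' := fun u _ => map_zero _
  add_mem' := fun {a b} ha hb u hu => by rw [map_add, ha u hu, hb u hu, add_zero]
  smul_mem' := fun c a ha u hu => by rw [LinearMap.map_smulₛₗ, ha u hu, smul_zero]

/-- a nondegenerate subspace splits off -/
theorem isCompl_Orth [Finite V] [Finite F] (f : V →ₗ[F] V →ₛₗ[σ] F) (U : Submodule F V)
    (hU : ∀ u ∈ U, (∀ x ∈ U, f x u = 0) → u = 0) : IsCompl U (Orth f U) := by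
  classical
  refine ⟨?_, ?_⟩
  · rw [Submodule.disjoint_def]
    intro x hx hx'
    exact hU x hx hx'
  · rw [codisjoint_iff, eq_top_iff]
    rintro v -
    let φ : U → Dual F U := fun u =>
      { toFun := fun x => f x u
        map_add' := fun a b => by simp
        map_smul' := fun c a => by simp }
    have hinj : Function.Injective φ := by
      intro a b hab
      have h1 : ((a - b : U) : V) = 0 := by
        refine hU _ (a - b).2 ?_
        intro x hx
        have h2 := LinearMap.congr_fun hab ⟨x, hx⟩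
        have h3 : f x a = f x b := h2
        rw [Submodule.coe_sub, map_sub, h3, sub_self]
      have h2 : a - b = 0 := Subtype.ext h1
      exact sub_eq_zero.mp h2
    have hfd : FiniteDimensional F U := inferInstance
    let e : U ≃ₗ[F] Dual F U := LinearEquiv.ofFinrankEq _ _ Subspace.dual_finrank_eq.symm
    have hfin : Finite (Dual F U) := Finite.of_equiv _ e.toEquiv
    have hsurj : Function.Surjective φ := by
      have h1 : Function.Injective (e.symm ∘ φ) := e.symm.injective.comp hinj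
      have h2 := Finite.surjective_of_injective h1
      intro g
      obtain ⟨u, hu⟩ := h2 (e.symm g)
      exact ⟨u, e.symm.injective hu⟩
    let g : Dual F U :=
      { toFun := fun x => f x v
        map_add' := fun a b => by simp
        map_smul' := fun c a => by simp }
    obtain ⟨u, hu⟩ := hsurj g
    rw [Submodule.mem_sup]
    refine ⟨u, u.2, v - u, ?_, by abel⟩
    intro x hx
    have h1 : f x u = f x v := LinearMap.congr_fun hu ⟨x, hx⟩
    rw [map_sub, h1, sub_self]

/-- the element `z` which agrees with `y` on `U` and is trivial on `Orth f U` -/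
theorem exists_glue [Finite V] [Finite F] (f : V →ₗ[F] V →ₛₗ[σ] F)
    (hr : ∀ x y, f x y = 0 → f y x = 0) {y : End F V} {t : ℕ} (hy : y ^ t = 1)
    (hiso : ∀ u v, f (y u) (y v) = f u v) (U : Submodule F V)
    (hU : ∀ u ∈ U, (∀ x ∈ U, f x u = 0) → u = 0) (hUy : ∀ u ∈ U, y u ∈ U) :
    ∃ z : End F V, z ^ t = 1 ∧ (∀ u ∈ U, z u = y u) ∧ (∀ w ∈ Orth f U, z w = w) ∧
      (∀ v, ∃ u ∈ U, ∃ w ∈ Orth f U, v = u + w) ∧ LinearMap.range (z - 1) ≤ U ∧
      (∀ u v, f (z u) (z v) = f u v) := by
  have hc := isCompl_Orth f U hU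
  let z : End F V := LinearMap.ofIsCompl hc (y ∘ₗ U.subtype) (Orth f U).subtype
  have h1 : ∀ u ∈ U, z u = y u := fun u hu => LinearMap.ofIsCompl_apply_left hc ⟨u, hu⟩
  have h2 : ∀ w ∈ Orth f U, z w = w := fun u hu => LinearMap.ofIsCompl_apply_right hc ⟨u, hu⟩
  have h3 : ∀ v, ∃ u ∈ U, ∃ w ∈ Orth f U, v = u + w := by
    intro v
    have : v ∈ U ⊔ Orth f U := by rw [hc.sup_eq_top]; trivial
    rw [Submodule.mem_sup] at this
    obtain ⟨u, hu, w, hw, rfl⟩ := this
    exact ⟨u, hu, w, hw, rfl⟩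
  have hpow : ∀ n : ℕ, ∀ u ∈ U, (z ^ n) u = (y ^ n) u ∧ (y ^ n) u ∈ U := by
    intro n u hu
    induction n with
    | zero => exact ⟨rfl, hu⟩
    | succ n ih =>
      rw [pow_one_apply', pow_one_apply', ih.1, h1 _ ih.2]
      exact ⟨rfl, hUy _ ih.2⟩
  have hpow' : ∀ n : ℕ, ∀ w ∈ Orth f U, (z ^ n) w = w := by
    intro n w hw
    induction n with
    | zero => rfl
    | succ n ih => rw [pow_one_apply', ih, h2 w hw]
  refine ⟨z, ?_, h1, h2, h3, ?_, ?_⟩
  · apply LinearMap.ext
    intro v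
    obtain ⟨u, hu, w, hw, rfl⟩ := h3 v
    rw [map_add, (hpow t u hu).1, hpow' t w hw, hy]
    rfl
  · rintro _ ⟨v, rfl⟩
    obtain ⟨u, hu, w, hw, rfl⟩ := h3 v
    rw [LinearMap.sub_apply, map_add, h1 u hu, h2 w hw]
    have : y u + w - (1 : End F V) (u + w) = y u - u := by
      show y u + w - (u + w) = _
      abel
    rw [this]
    exact U.sub_mem (hUy u hu) hu
  · intro a b
    obtain ⟨u, hu, w, hw, rfl⟩ := h3 a
    obtain ⟨u', hu', w', hw', rfl⟩ := h3 b
    have e1 : z (u + w) = y u + w := by rw [map_add, h1 u hu, h2 w hw]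
    have e2 : z (u' + w') = y u' + w' := by rw [map_add, h1 u' hu', h2 w' hw']
    rw [e1, e2]
    simp only [map_add, LinearMap.add_apply]
    rw [hiso, hw' _ (hUy u hu), hw' u hu, hr _ _ (hw _ (hUy u' hu')), hr _ _ (hw u' hu')]

/-- existence of an isometry of small support -/
theorem exists_small [Finite V] [Finite F] (f : V →ₗ[F] V →ₛₗ[σ] F)
    (hr : ∀ x y, f x y = 0 → f y x = 0) {y : End F V} {t : ℕ} (ht : 0 < t) (htF : (t : F) ≠ 0)
    (hy : y ^ t = 1) (hiso : ∀ u v, f (y u) (y v) = f u v) {v : V}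
    (hv : v ∈ LinearMap.range (y - 1)) {i : ℕ} (hvi : f v ((y ^ i) v) ≠ 0) :
    ∃ (z : End F V) (U : Submodule F V), z ^ t = 1 ∧ z ≠ 1 ∧
      finrank F (LinearMap.range (z - 1)) ≤ t - 1 ∧
      (∀ u v, f (z u) (z v) = f u v) ∧
      (∀ u ∈ U, y u ∈ U) ∧ (∀ u ∈ U, z u = y u) ∧ (∀ w ∈ Orth f U, z w = w) ∧
      (∀ v, ∃ u ∈ U, ∃ w ∈ Orth f U, v = u + w) := by
  classical
  set U0 := Cyc y t v with hU0
  have hU0y : ∀ u ∈ U0, y u ∈ U0 := fun u hu => Cyc_inv ht hy hv hu
  have hinv : ∀ u, (y ^ (t - 1)) (y u) = u := by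
    intro u
    rw [← Module.End.mul_apply, ← pow_succ, Nat.sub_add_cancel ht, hy]
    rfl
  have hpowmem : ∀ n : ℕ, ∀ u ∈ U0, (y ^ n) u ∈ U0 := by
    intro n u hu
    induction n with
    | zero => exact hu
    | succ n ih => rw [pow_one_apply']; exact hU0y _ ih
  let R := U0 ⊓ Orth f U0
  have hRy : ∀ u ∈ R, y u ∈ R := by
    rintro u ⟨hu, hu'⟩
    refine ⟨hU0y u hu, fun x hx => ?_⟩
    have h1 : f x (y u) = f ((y ^ (t - 1)) x) ((y ^ (t - 1)) (y u)) := (iso_pow f hiso _ _ _).symm
    rw [h1, hinv]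
    exact hu' _ (hpowmem _ x hx)
  obtain ⟨q, hqy, hq⟩ := exists_compl htF hy R hRy
  let U := U0 ⊓ q
  have hdec : ∀ x ∈ U0, ∃ a ∈ R, ∃ b ∈ U, x = a + b := by
    intro x hx
    have : x ∈ R ⊔ q := by rw [hq.sup_eq_top]; trivial
    rw [Submodule.mem_sup] at this
    obtain ⟨a, ha, b, hb, rfl⟩ := this
    refine ⟨a, ha, b, ⟨?_, hb⟩, rfl⟩
    have := U0.sub_mem hx ha.1
    rwa [add_sub_cancel_left] at this
  have hU : ∀ u ∈ U, (∀ x ∈ U, f x u = 0) → u = 0 := by
    rintro u ⟨hu, huq⟩ hx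
    have h1 : u ∈ R := by
      refine ⟨hu, fun x hxU => ?_⟩
      obtain ⟨a, ha, b, hb, rfl⟩ := hdec x hxU
      rw [map_add, LinearMap.add_apply, hx b hb, add_zero]
      exact hr _ _ (ha.2 u hu)
    exact (Submodule.disjoint_def.mp hq.disjoint) u h1 huq
  have hUy : ∀ u ∈ U, y u ∈ U := fun u hu => ⟨hU0y u hu.1, hqy u hu.2⟩
  obtain ⟨z, hz1, hz2, hz3, hz4, hz5, hz6⟩ := exists_glue f hr hy hiso U hU hUy
  have hle : U ≤ U0 := inf_le_left
  have hne : ∃ u ∈ U, u ≠ 0 := by
    by_contra hcon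
    push Not at hcon
    have h1 : ∀ x ∈ U0, x ∈ R := by
      intro x hx
      obtain ⟨a, ha, b, hb, rfl⟩ := hdec x hx
      rw [hcon b hb, add_zero]
      exact ha
    have hvU : v ∈ U0 := by
      have := pow_mem_Cyc ht hy hv 0
      exact this
    have h2 := h1 _ (hpowmem i v hvU)
    exact hvi (h2.2 v hvU)
  refine ⟨z, U, hz1, ?_, ?_, hz6, hUy, hz2, hz3, hz4⟩
  · rintro rfl
    obtain ⟨u, hu, hu0⟩ := hne
    apply hu0
    have h1 : y u = u := (hz2 u hu).symm
    -- `u` is in the range of `y - 1`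
    have h2 : U0 ≤ LinearMap.range (y - 1) := by
      rw [hU0, Cyc, Submodule.span_le]
      rintro _ ⟨j, rfl⟩
      obtain ⟨w, rfl⟩ := hv
      refine ⟨(y ^ (j : ℕ)) w, ?_⟩
      show y ((y ^ (j : ℕ)) w) - (y ^ (j : ℕ)) w = (y ^ (j : ℕ)) (y w - w)
      rw [map_sub, ← pow_one_apply', pow_succ]
      rfl
    have h3 := sum_pow_eq_zero hy (h2 (hle hu))
    have h4 : ∀ k : ℕ, (y ^ k) u = u := by
      intro k
      induction k with
      | zero => rfl
      | succ k ih => rw [pow_one_apply', ih, h1]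
    rw [Finset.sum_congr rfl (fun k _ => h4 k), Finset.sum_const, Finset.card_range, ← Nat.cast_smul_eq_nsmul F,
      smul_eq_zero] at h3
    exact h3.resolve_left htF
  · exact (Submodule.finrank_mono (hz5.trans hle)).trans (finrank_Cyc y t v)

theorem pow_sub_mem (y : End F V) (n : ℕ) (v : V) : (y ^ n) v - v ∈ LinearMap.range (y - 1) := by
  induction n with
  | zero => simp
  | succ n ih =>
    have h1 : (y ^ (n + 1)) v - v = (y - 1) ((y ^ n) v) + ((y ^ n) v - v) := by
      rw [pow_one_apply']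
      show _ = (y ((y ^ n) v) - (y ^ n) v) + _
      abel
    rw [h1]
    exact Submodule.add_mem _ ⟨_, rfl⟩ ih

/-- a fixed vector in the commutator space is zero -/
theorem eq_zero_of_fixed {y : End F V} {t : ℕ} (htF : (t : F) ≠ 0) (hy : y ^ t = 1) {u : V}
    (hu : u ∈ LinearMap.range (y - 1)) (h1 : y u = u) : u = 0 := by
  have h3 := sum_pow_eq_zero hy hu
  have h4 : ∀ k : ℕ, (y ^ k) u = u := by
    intro k
    induction k with
    | zero => rfl
    | succ k ih => rw [pow_one_apply', ih, h1]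
  rw [Finset.sum_congr rfl (fun k _ => h4 k), Finset.sum_const, Finset.card_range,
    ← Nat.cast_smul_eq_nsmul F, smul_eq_zero] at h3
  exact h3.resolve_left htF

/-- the commutator space is nondegenerate -/
theorem nondeg_range (f : V →ₗ[F] V →ₛₗ[σ] F) (hnd : ∀ x, (∀ y, f y x = 0) → x = 0)
    {y : End F V} {t : ℕ} (htF : (t : F) ≠ 0) (hy : y ^ t = 1)
    (hiso : ∀ u v, f (y u) (y v) = f u v) {w : V} (hw : w ∈ LinearMap.range (y - 1))
    (h : ∀ x ∈ LinearMap.range (y - 1), f x w = 0) : w = 0 := by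
  apply hnd
  intro v
  -- the fixed vector
  set N := ∑ i ∈ Finset.range t, (y ^ i) v with hN
  have hNf : y N = N := by
    have h1 := Finset.sum_range_succ (fun i => (y ^ i) v) t
    have h2 := Finset.sum_range_succ' (fun i => (y ^ i) v) t
    rw [h1] at h2
    simp only [hy, pow_zero] at h2
    have h3 := add_right_cancel h2
    rw [hN, map_sum]
    rw [h3]
    refine Finset.sum_congr rfl fun i _ => ?_
    rw [pow_one_apply']
  have h1 : f N w = 0 := by
    obtain ⟨w', rfl⟩ := hw
    have : (y - 1) w' = y w' - w' := rfl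
    rw [this, map_sub]
    have h2 := hiso N w'
    rw [hNf] at h2
    rw [h2, sub_self]
  have h2 : N - (t : F) • v ∈ LinearMap.range (y - 1) := by
    have h3 : N - (t : F) • v = ∑ i ∈ Finset.range t, ((y ^ i) v - v) := by
      rw [Finset.sum_sub_distrib, Finset.sum_const, Finset.card_range, Nat.cast_smul_eq_nsmul]
    rw [h3]
    exact Submodule.sum_mem _ fun i _ => pow_sub_mem y i v
  have h3 := h _ h2
  rw [map_sub, LinearMap.sub_apply, h1, zero_sub, neg_eq_zero, map_smul, LinearMap.smul_apply,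
    smul_eq_mul, mul_eq_zero] at h3
  exact h3.resolve_left htF

theorem exists_range_ne {y : End F V} (hy1 : y ≠ 1) : ∃ v ∈ LinearMap.range (y - 1), v ≠ 0 := by
  by_contra hcon
  push Not at hcon
  apply hy1
  apply LinearMap.ext
  intro v
  have := hcon _ ⟨v, rfl⟩
  have h1 : y v - v = 0 := this
  rw [sub_eq_zero] at h1
  exact h1

/-- the vector for a symmetric or alternating form -/
theorem exists_vec (f : V →ₗ[F] V →ₗ[F] F) (hnd : ∀ x, (∀ y, f y x = 0) → x = 0) {ε : F}
    (hε : ε * ε = 1) (hsym : ∀ x y, f x y = ε * f y x)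
    {y : End F V} {t : ℕ} (hodd : Odd t) (htF : (t : F) ≠ 0) (hy : y ^ t = 1) (hy1 : y ≠ 1)
    (hiso : ∀ u v, f (y u) (y v) = f u v) :
    ∃ v ∈ LinearMap.range (y - 1), f v ((y ^ 1) v) ≠ 0 := by
  by_contra hcon
  push Not at hcon
  rw [pow_one] at hcon
  have ht : 0 < t := hodd.pos
  have hyW : ∀ v ∈ LinearMap.range (y - 1), y v ∈ LinearMap.range (y - 1) := by
    rintro _ ⟨v, rfl⟩
    refine ⟨y v, ?_⟩
    show y (y v) - y v = y (y v - v)
    rw [map_sub]
  have hyW' : ∀ n : ℕ, ∀ v ∈ LinearMap.range (y - 1), (y ^ n) v ∈ LinearMap.range (y - 1) := by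
    intro n v hv
    induction n with
    | zero => exact hv
    | succ n ih => rw [pow_one_apply']; exact hyW _ ih
  have h1 : ∀ v ∈ LinearMap.range (y - 1), y (y v) = -(ε • v) := by
    intro v hv
    have h2 : y v + ε • (y ^ (t - 1)) v = 0 := by
      refine nondeg_range f hnd htF hy hiso
        (Submodule.add_mem _ (hyW v hv) (Submodule.smul_mem _ _ (hyW' _ v hv))) ?_
      intro u hu
      have h3 := hcon (u + v) (Submodule.add_mem _ hu hv)
      have h4 := hcon u hu
      have h5 := hcon v hv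
      simp only [map_add, LinearMap.add_apply] at h3
      have h6 : f v (y u) = ε * f u ((y ^ (t - 1)) v) := by
        rw [hsym, ← hiso u ((y ^ (t - 1)) v)]
        congr 2
        rw [← pow_one_apply', Nat.sub_add_cancel ht, hy]
        rfl
      rw [map_add, map_smul, smul_eq_mul, ← h6]
      rw [h4, h5] at h3
      rw [← h3]
      ring
    have h3 := congrArg y h2
    rw [map_add, map_smul, ← pow_one_apply', Nat.sub_add_cancel ht, hy, map_zero] at h3
    exact eq_neg_of_add_eq_zero_left h3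
  obtain ⟨v, hv, hv0⟩ := exists_range_ne hy1
  apply hv0
  refine eq_zero_of_fixed htF hy hv ?_
  have h4 : (y ^ 4) v = v := by
    have e : (y ^ 4) v = y (y (y (y v))) := by
      simp only [pow_succ, pow_zero, one_mul, Module.End.mul_apply]
    rw [e, h1 _ (hyW _ (hyW v hv)), h1 v hv, smul_neg, neg_neg, smul_smul, hε, one_smul]
  have h5 : ∀ k : ℕ, (y ^ (4 * k)) v = v := by
    intro k
    induction k with
    | zero => rfl
    | succ k ih =>
      rw [Nat.mul_succ, pow_add_apply, h4, ih]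
  obtain ⟨k, rfl⟩ := hodd
  have h6 : (2 * k + 1) * (2 * k + 1) = 4 * (k * k + k) + 1 := by ring
  have h7 : y ^ ((2 * k + 1) * (2 * k + 1)) = 1 := by rw [pow_mul, hy, one_pow]
  rw [h6] at h7
  have h8 := LinearMap.congr_fun h7 v
  rw [pow_one_apply', h5] at h8
  exact h8

end Cfsg.Agent.H170.HL
end

private theorem dce_3e9fa23a7b97 : _root_.True := by
  try have : _root_.True := by simp only [_root_.Cfsg.Agent.H170.HL.Cyc.eq_1]
  exact _root_.True.intro
end

-- part: H170/HL/RowForm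
section
set_option linter.all false
open scoped Cfsg.Agent.FastGrp

/-!
# `P(z)` for groups preserving a symmetric or alternating form (helper170)
-/

set_option autoImplicit false

namespace Cfsg.Agent.H170.HL

open Module Cfsg.Agent.H167.OP Matrix

variable {F : Type*} [Field F] {ι : Type*} [Fintype ι] [DecidableEq ι] {K : Type*} [Group K]
  {G : Type*} [Group G]

/-- the representation attached to a homomorphism into matrices -/
noncomputable def rep (μ : K →* Matrix ι ι F) : Representation F K (ι → F) :=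
  ((Matrix.toLinAlgEquiv' : Matrix ι ι F ≃ₐ[F] Module.End F (ι → F)) :
    Matrix ι ι F →* Module.End F (ι → F)).comp μ

theorem rep_apply (μ : K →* Matrix ι ι F) (k : K) (v : ι → F) : rep μ k v = μ k *ᵥ v := rfl

theorem rep_injective {μ : K →* Matrix ι ι F} (hμ : Function.Injective μ) :
    Function.Injective (rep μ) :=
  (Matrix.toLinAlgEquiv' : Matrix ι ι F ≃ₐ[F] Module.End F (ι → F)).injective.comp hμ

/-- `P(z)` -/
def PZ (t : ℕ) (π : Set ℕ) (z : G) : Prop :=
  ∀ g : G, Group.IsSolvable (Subgroup.closure {z, g * z * g⁻¹}) →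
    (∀ r : ℕ, r.Prime → r ∣ Nat.card (Subgroup.closure {z, g * z * g⁻¹}) → r ∈ π) →
    IsPGroup t (Subgroup.closure {z, g * z * g⁻¹})

theorem twoP_of_form [Finite K] {V : Type*} [AddCommGroup V] [Module F V] [FiniteDimensional F V]
    (ρ : Representation F K V) (f : V →ₗ[F] V →ₗ[F] F)
    (hf : ∀ g u v, f (ρ g u) (ρ g v) = f u v) (hnd : ∀ x, (∀ y, f y x = 0) → x = 0)
    (L : Subgroup K) : TwoP ρ L := by
  intro r hr hodd hrF D E _ hED hab hexp hV
  have hcard : ∀ X : Subgroup K, X ≤ D → (Nat.card X : F) ≠ 0 := by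
    intro X hX
    have hrf : Fact r.Prime := ⟨hr⟩
    have h1 : IsPGroup r X := fun x => ⟨1, Subtype.ext (by simpa using hexp x (hX x.2))⟩
    obtain ⟨n, hn⟩ := IsPGroup.iff_card.mp h1
    rw [hn, Nat.cast_pow]
    exact pow_ne_zero _ hrF
  exact two_le_VE ρ f hf hnd hED (hcard E hED) (hcard D (le_refl D)) hab hodd hexp hV

/-- the largest prime of `π` dividing the order -/
theorem exists_max_prime [Finite G] (π : Set ℕ)
    (hne : ∃ r ∈ π, r.Prime ∧ r ∣ Nat.card G) :
    ∃ t ∈ π, t.Prime ∧ t ∣ Nat.card G ∧ ∀ r ∈ π, r.Prime → r ∣ Nat.card G → r ≤ t := by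
  classical
  let S : Finset ℕ := (Nat.card G).primeFactors.filter (· ∈ π)
  have hS : S.Nonempty := by
    obtain ⟨r, hr, hrp, hrd⟩ := hne
    exact ⟨r, Finset.mem_filter.mpr ⟨Nat.mem_primeFactors.mpr ⟨hrp, hrd, Nat.card_pos.ne'⟩, hr⟩⟩
  obtain ⟨t, ht, hmax⟩ := S.exists_max_image id hS
  rw [Finset.mem_filter, Nat.mem_primeFactors] at ht
  refine ⟨t, ht.2, ht.1.1, ht.1.2.1, ?_⟩
  intro r hr hrp hrd
  exact hmax r (Finset.mem_filter.mpr ⟨Nat.mem_primeFactors.mpr ⟨hrp, hrd, Nat.card_pos.ne'⟩, hr⟩)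

/-- **the row theorem for groups with a form** -/
theorem exists_pz_of_form [Finite K] [Finite G] {V : Type*} [AddCommGroup V] [Module F V]
    [FiniteDimensional F V]
    (φ : K →* G) (hφ : Function.Surjective φ) (hker : ∀ k, φ k = 1 → ∀ x, k * x = x * k)
    (ρ : Representation F K V) (hρ : Function.Injective ρ) (f : V →ₗ[F] V →ₗ[F] F)
    (hf : ∀ g u v, f (ρ g u) (ρ g v) = f u v) (hnd : ∀ x, (∀ y, f y x = 0) → x = 0)
    (hbeta : ∀ t : ℕ, t.Prime → Odd t → (t : F) ≠ 0 → BetaP ρ t)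
    (π : Set ℕ) (h2 : 2 ∉ π) (hp : ∀ r ∈ π, r.Prime → (r : F) ≠ 0)
    (hsm : ∀ t : ℕ, t.Prime → Odd t → (t : F) ≠ 0 → t ∣ Nat.card G →
      ∃ z : K, φ z ≠ 1 ∧ z ^ t = 1 ∧ rk ρ z ≤ t - 1)
    (hne : ∃ r ∈ π, r.Prime ∧ r ∣ Nat.card G) :
    ∃ t ∈ π, t.Prime ∧ t ∣ Nat.card G ∧ ∃ z : G, z ≠ 1 ∧ z ^ t = 1 ∧ PZ t π z := by
  classical
  obtain ⟨t, htπ, ht, htd, hmax⟩ := exists_max_prime π hne
  have hodd : ∀ r ∈ π, r.Prime → Odd r := by
    intro r hr hrp
    rcases hrp.eq_two_or_odd' with h | h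
    · exact absurd (h ▸ hr) h2
    · exact h
  obtain ⟨z, hz1, hzt, hzr⟩ := hsm t ht (hodd t htπ ht) (hp t htπ ht) htd
  refine ⟨t, htπ, ht, htd, φ z, hz1, by rw [← map_pow, hzt, map_one], ?_⟩
  intro g hsol hpi
  obtain ⟨g, rfl⟩ := hφ g
  have hmap : (Subgroup.closure {z, g * z * g⁻¹}).map φ =
      Subgroup.closure {φ z, φ g * φ z * (φ g)⁻¹} := by
    rw [MonoidHom.map_closure, Set.image_pair, map_mul, map_mul, map_inv]
  rw [← hmap] at hsol hpi ⊢
  refine isPGroup_pair ρ hρ ht z g hzt hzr φ hker ?_ hsol (hbeta t ht (hodd t htπ ht) (hp t htπ ht))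
    (twoP_of_form ρ f hf hnd _)
  intro r hr hrt hrd
  have h1 := hpi r hr hrd
  have h2 := hmax r h1 hr (hrd.trans (Subgroup.card_subgroup_dvd_card _))
  exact ⟨lt_of_le_of_ne h2 hrt, hodd r h1 hr, hp r h1 hr⟩

end Cfsg.Agent.H170.HL
end

-- part: H167/OP/Beta
section
prune_inst 0x347045406c00120000180010a0001c42fa0005200143000000800d060589286200000621b6802506120a00450030006813540000420000000a00040001180080008010048008a100000008000000000000000000000000000000000000000004000000000
set_option linter.all false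
open scoped Cfsg.Agent.FastGrp

/-!
# The linear lemma, nonabelian case (helper167)

`D` a minimal `y`-invariant noncentralised nonabelian `s`-group, `c = [a,b]` a commutator of `D` acting
nontrivially.  Then `dim [V,c] ≥ 2t - 1` (`s` odd), `≥ t - 1` for `s = 2`.
-/

set_option autoImplicit false
set_option linter.unusedSectionVars false

namespace Cfsg.Agent.H167.OP

open Module

section irr

variable {K : Type*} [Field K] [IsAlgClosed K] {V : Type*} [AddCommGroup V] [Module K V]
  [FiniteDimensional K V] {D : Type*} [Group D] [Finite D]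

/-- a minimal nonzero invariant subspace -/
theorem exists_min_inv (ρ : Representation K D V) (U : Submodule K V) (hU : U ≠ ⊥)
    (hinv : ∀ d, ∀ u ∈ U, ρ d u ∈ U) :
    ∃ M : Submodule K V, M ≤ U ∧ M ≠ ⊥ ∧ (∀ d, ∀ u ∈ M, ρ d u ∈ M) ∧
      ∀ M' : Submodule K V, M' ≤ M → (∀ d, ∀ u ∈ M', ρ d u ∈ M') → M' = ⊥ ∨ M' = M := by
  let S : Set (Submodule K V) := {M | M ≤ U ∧ M ≠ ⊥ ∧ ∀ d, ∀ u ∈ M, ρ d u ∈ M}
  have hS : S.Nonempty := ⟨U, le_refl _, hU, hinv⟩
  have hwf : WellFounded ((· < ·) : Submodule K V → Submodule K V → Prop) := wellFounded_lt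
  obtain ⟨M, hM, hmin⟩ := hwf.has_min S hS
  refine ⟨M, hM.1, hM.2.1, hM.2.2, fun M' hM' hi => ?_⟩
  by_cases h0 : M' = ⊥
  · exact Or.inl h0
  · right
    by_contra hne
    exact hmin M' ⟨hM'.trans hM.1, h0, hi⟩ (lt_of_le_of_ne hM' hne)

theorem irr_sub (ρ : Representation K D V) (M : Submodule K V) (hM : M ≠ ⊥)
    (hinv : ∀ d, ∀ u ∈ M, ρ d u ∈ M)
    (hmin : ∀ M' : Submodule K V, M' ≤ M → (∀ d, ∀ u ∈ M', ρ d u ∈ M') → M' = ⊥ ∨ M' = M) :
    H575.Dim.Irr (H575.Dim.sub ρ (MonoidHom.id D) M hinv) := by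
  refine ⟨Submodule.nontrivial_iff_ne_bot.mpr hM, fun W hW => ?_⟩
  rcases hmin (W.map M.subtype) (Submodule.map_subtype_le M W) (by
    rintro d _ ⟨w, hw, rfl⟩
    exact ⟨_, hW d w hw, rfl⟩) with h | h
  · left
    rw [eq_bot_iff]
    intro w hw
    have h1 : (w : V) ∈ W.map M.subtype := ⟨w, hw, rfl⟩
    rw [h, Submodule.mem_bot] at h1
    rw [Submodule.mem_bot]
    exact Subtype.ext h1
  · right
    rw [eq_top_iff]
    intro x _
    have hx : (x : V) ∈ W.map M.subtype := by rw [h]; exact x.2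
    obtain ⟨w, hw, hwx⟩ := hx
    have : w = x := Subtype.ext hwx
    rwa [← this]

/-- **Dimension of a faithful-like irreducible representation of a group of class two**: if commutators
act as scalars then `|D : X| = (dim V)²`, `X` the subgroup acting by scalars. -/
theorem card_eq_sq (ρ : Representation K D V) (hirr : H575.Dim.Irr ρ) (X : Subgroup D)
    (hX : ∀ d, d ∈ X ↔ ∃ c : K, ∀ v, ρ d v = c • v)
    (hcl : ∀ a b : D, ∃ c : K, ∀ v, ρ (a * b * a⁻¹ * b⁻¹) v = c • v)
    (hD : (Nat.card D : K) ≠ 0) : X.index = finrank K V ^ 2 := by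
  classical
  have hnt := hirr.1
  have : Fintype D := Fintype.ofFinite D
  have : Fintype (D ⧸ X) := Fintype.ofFinite _
  have hne : ∀ d, ρ d ≠ 0 := by
    intro d hd
    obtain ⟨v, hv⟩ := exists_ne (0 : V)
    apply hv
    rw [← inv_ap ρ d v, hd, LinearMap.zero_apply, map_zero]
  -- the character attached to `d`
  choose l hl using hcl
  -- `ρ a ρ d ρ a⁻¹ = l a d • ρ d`
  have hconj : ∀ a d, ρ a * ρ d * ρ a⁻¹ = l a d • ρ d := by
    intro a d
    apply LinearMap.ext
    intro v
    rw [← map_mul, ← map_mul]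
    have h1 : a * d * a⁻¹ = (a * d * a⁻¹ * d⁻¹) * d := by group
    rw [h1, mul_ap, hl]
    rfl
  have hl1 : ∀ d, l 1 d = 1 := by
    intro d
    have h1 := hconj 1 d
    rw [inv_one, map_one, one_mul, mul_one] at h1
    have h2 : (l 1 d - 1) • ρ d = 0 := by rw [sub_smul, one_smul, ← h1, sub_self]
    exact sub_eq_zero.mp ((smul_eq_zero.mp h2).resolve_right (hne d))
  have hlmul : ∀ a b d, l (a * b) d = l a d * l b d := by
    intro a b d
    have h1 := hconj (a * b) d
    have h2 : ρ (a * b) * ρ d * ρ (a * b)⁻¹ = ρ a * (ρ b * ρ d * ρ b⁻¹) * ρ a⁻¹ := by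
      rw [mul_inv_rev, map_mul, map_mul]
      simp only [mul_assoc]
    rw [h2, hconj, mul_smul_comm, smul_mul_assoc, hconj, smul_smul] at h1
    have h3 : (l (a * b) d - l a d * l b d) • ρ d = 0 := by
      rw [sub_smul, ← h1, mul_comm (l b d), sub_self]
    exact sub_eq_zero.mp ((smul_eq_zero.mp h3).resolve_right (hne d))
  let f : D ⧸ X → D := Quotient.out
  have hf : ∀ q : D ⧸ X, (QuotientGroup.mk (f q) : D ⧸ X) = q := fun q => Quotient.out_eq' q
  have hli : LinearIndependent K (fun q : D ⧸ X => ρ (f q)) := by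
    rw [Fintype.linearIndependent_iff]
    intro c hc q
    -- the averaging operator
    have hsum : ∀ q' : D ⧸ X, q' ≠ q → ∑ a : D, (l a (f q))⁻¹ * l a (f q') = 0 := by
      intro q' hq'
      let φ : D →* K :=
        { toFun := fun a => (l a (f q))⁻¹ * l a (f q')
          map_one' := by rw [hl1, hl1]; simp
          map_mul' := fun a b => by rw [hlmul, hlmul, mul_inv]; ring }
      refine sum_hom_units_eq_zero φ fun hφ => hq' ?_
      have hl0 : ∀ a, l a (f q) ≠ 0 := by
        intro a h0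
        have h1 := hlmul a a⁻¹ (f q)
        rw [mul_inv_cancel, hl1, h0, zero_mul] at h1
        exact one_ne_zero h1
      have h1 : ∀ a, l a (f q') = l a (f q) := by
        intro a
        have : (l a (f q))⁻¹ * l a (f q') = 1 := DFunLike.congr_fun hφ a
        rw [inv_mul_eq_one₀ (hl0 a)] at this
        exact this.symm
      -- `(f q')⁻¹ * f q` is scalar
      have h2 : (f q')⁻¹ * f q ∈ X := by
        rw [hX]
        refine hirr.scalar (ρ ((f q')⁻¹ * f q)) fun a v => ?_
        have h3 : ρ a * ρ ((f q')⁻¹ * f q) * ρ a⁻¹ = ρ ((f q')⁻¹ * f q) := by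
          have h4 : ρ a * ρ (f q') * ρ a⁻¹ = l a (f q) • ρ (f q') := by rw [hconj, h1]
          have h5 : ρ (f q') * ρ ((f q')⁻¹ * f q) = ρ (f q) := by
            rw [← map_mul, mul_inv_cancel_left]
          have h6 : (ρ a * ρ (f q') * ρ a⁻¹) * (ρ a * ρ ((f q')⁻¹ * f q) * ρ a⁻¹) =
              ρ a * ρ (f q) * ρ a⁻¹ := by
            have : ρ a⁻¹ * ρ a = 1 := by rw [← map_mul, inv_mul_cancel, map_one]
            calc (ρ a * ρ (f q') * ρ a⁻¹) * (ρ a * ρ ((f q')⁻¹ * f q) * ρ a⁻¹)
                = ρ a * ρ (f q') * (ρ a⁻¹ * ρ a) * ρ ((f q')⁻¹ * f q) * ρ a⁻¹ := by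
                  simp only [mul_assoc]
              _ = ρ a * (ρ (f q') * ρ ((f q')⁻¹ * f q)) * ρ a⁻¹ := by
                  rw [this, mul_one]
                  simp only [mul_assoc]
              _ = _ := by rw [h5]
          rw [h4, hconj a (f q), smul_mul_assoc] at h6
          have h6' : ρ (f q') * (ρ a * ρ ((f q')⁻¹ * f q) * ρ a⁻¹) = ρ (f q) :=
            smul_right_injective _ (hl0 a) h6
          have h7 : ρ (f q')⁻¹ * (ρ (f q') * (ρ a * ρ ((f q')⁻¹ * f q) * ρ a⁻¹)) =
              ρ (f q')⁻¹ * (ρ (f q') * ρ ((f q')⁻¹ * f q)) := by rw [h6', h5]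
          rw [← mul_assoc, ← mul_assoc (ρ (f q')⁻¹), ← map_mul, inv_mul_cancel, map_one,
            one_mul, one_mul] at h7
          exact h7
        have h9 : ρ (a * ((f q')⁻¹ * f q) * a⁻¹) = ρ ((f q')⁻¹ * f q) := by
          rw [map_mul ρ (a * ((f q')⁻¹ * f q)) a⁻¹, map_mul ρ a ((f q')⁻¹ * f q)]; exact h3
        calc ρ ((f q')⁻¹ * f q) (ρ a v) = ρ (a * ((f q')⁻¹ * f q) * a⁻¹) (ρ a v) := by rw [h9]
          _ = ρ (a * ((f q')⁻¹ * f q) * a⁻¹ * a) v := (mul_ap ρ _ _ _).symm
          _ = ρ (a * ((f q')⁻¹ * f q)) v := by rw [inv_mul_cancel_right]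
          _ = ρ a (ρ ((f q')⁻¹ * f q) v) := mul_ap ρ _ _ _
      rw [← hf q', ← hf q, QuotientGroup.eq]
      exact h2
    have h1 : ∑ a : D, (l a (f q))⁻¹ • (ρ a * (∑ q', c q' • ρ (f q')) * ρ a⁻¹) = 0 := by
      rw [hc]
      simp only [_root_.MulZeroClass.mul_zero, _root_.MulZeroClass.zero_mul, _root_.smul_zero, _root_.Finset.sum_const_zero]
    have h2 : ∑ a : D, (l a (f q))⁻¹ • (ρ a * (∑ q', c q' • ρ (f q')) * ρ a⁻¹) =
        ∑ q', (c q' * ∑ a : D, (l a (f q))⁻¹ * l a (f q')) • ρ (f q') := by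
      have h3 : ∀ a : D, (l a (f q))⁻¹ • (ρ a * (∑ q', c q' • ρ (f q')) * ρ a⁻¹) =
          ∑ q', (c q' * ((l a (f q))⁻¹ * l a (f q'))) • ρ (f q') := by
        intro a
        rw [Finset.mul_sum, Finset.sum_mul, Finset.smul_sum]
        refine Finset.sum_congr rfl fun q' _ => ?_
        rw [mul_smul_comm, smul_mul_assoc, hconj, smul_smul, smul_smul]
        congr 1
        ring
      rw [Finset.sum_congr rfl fun a _ => h3 a, Finset.sum_comm]
      refine Finset.sum_congr rfl fun q' _ => ?_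
      rw [← Finset.sum_smul, ← Finset.mul_sum]
    rw [h2, Finset.sum_eq_single q] at h1
    · have h3 : ∑ a : D, (l a (f q))⁻¹ * l a (f q) = (Nat.card D : K) := by
        have hl0 : ∀ a, l a (f q) ≠ 0 := by
          intro a h0
          have h1 := hlmul a a⁻¹ (f q)
          rw [mul_inv_cancel, hl1, h0, zero_mul] at h1
          exact one_ne_zero h1
        rw [Finset.sum_congr rfl fun a _ => inv_mul_cancel₀ (hl0 a), Finset.sum_const,
          Finset.card_univ, Nat.card_eq_fintype_card, nsmul_eq_mul, mul_one]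
      rw [h3] at h1
      have h4 := (smul_eq_zero.mp h1).resolve_right (hne (f q))
      exact (mul_eq_zero.mp h4).resolve_right hD
    · intro q' _ hq'
      rw [hsum q' hq', mul_zero, zero_smul]
    · intro h
      exact absurd (Finset.mem_univ _) h
  have hsp : Submodule.span K (Set.range fun q : D ⧸ X => ρ (f q)) = ⊤ := by
    rw [eq_top_iff]
    intro T _
    let τ : Unit → Representation K D V := fun _ => ρ
    have hir : ∀ i, (τ i).IsIrreducible := by
      intro i
      refine { exists_pair_ne := ⟨⊥, ⊤, fun hb => ?_⟩, eq_bot_or_eq_top := fun W => ?_ }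
      · have h1 : (⊥ : Submodule K V) = ⊤ := congrArg Subrepresentation.toSubmodule hb
        exact bot_ne_top h1
      · rcases hirr.2 W.toSubmodule (fun g w hw => W.apply_mem_toSubmodule g hw) with h1 | h1
        · exact Or.inl (Subrepresentation.toSubmodule_injective h1)
        · exact Or.inr (Subrepresentation.toSubmodule_injective h1)
    obtain ⟨a, ha⟩ := Blocks.ModularTraces.exists_density τ hir
      (fun i j hij => absurd (Subsingleton.elim i j) hij) (fun _ => T)
    have h1 : T = (τ ()).asAlgebraHom a := (ha ()).symm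
    rw [h1, Representation.asAlgebraHom_def, MonoidAlgebra.lift_apply]
    refine Submodule.sum_mem _ fun d _ => Submodule.smul_mem _ _ ?_
    show ρ d ∈ _
    have h2 : (f (QuotientGroup.mk d))⁻¹ * d ∈ X := QuotientGroup.eq.mp (hf (QuotientGroup.mk d))
    obtain ⟨c, hc⟩ := (hX _).mp h2
    have h3 : ρ d = c • ρ (f (QuotientGroup.mk d)) := by
      apply LinearMap.ext
      intro v
      rw [LinearMap.smul_apply, ← map_smul, ← hc, ← mul_ap]
      congr 2
      group
    rw [h3]
    exact Submodule.smul_mem _ _ (Submodule.subset_span ⟨_, rfl⟩)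
  have b := Basis.mk hli hsp.ge
  have h1 := Module.finrank_eq_card_basis b
  rw [Module.finrank_linearMap] at h1
  rw [Subgroup.index, Nat.card_eq_fintype_card, ← h1, sq]

end irr

section closed

variable {K : Type*} [Field K] {V : Type*} [AddCommGroup V] [Module K V]
  [FiniteDimensional K V] {G : Type*} [Group G] [Finite G] {s t : ℕ} {y : G} {D : Subgroup G}

theorem pow_ap_add (ρ : Representation K G V) {c : G} {u v : V} (hu : ρ c u = u)
    (hv : ρ c v = v + u) (n : ℕ) : ρ (c ^ n) v = v + (n : K) • u := by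
  induction n with
  | zero => simp only [_root_.pow_zero, _root_.map_one, _root_.Module.End.one_apply, _root_.Nat.cast_zero, _root_.zero_smul, _root_.add_zero]
  | succ n ih =>
    rw [pow_succ', mul_ap, ih, map_add, hv, map_smul, hu, Nat.cast_succ, add_smul, one_smul]
    abel

theorem beta_closed [IsAlgClosed K] (ρ : Representation K G V) (h : MinD s t y D)
    (hsK : (s : K) ≠ 0) {a b : G} (ha : a ∈ D) (hb : b ∈ D) (hρ : ρ (a * b * a⁻¹ * b⁻¹) ≠ 1) :
    ∃ δ : ℕ, 1 < δ ∧ δ ≤ finrank K (LinearMap.range (ρ (a * b * a⁻¹ * b⁻¹) - 1)) ∧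
      (∃ k : ℕ, δ ^ 2 = s ^ k) ∧ δ ^ 2 ≡ 1 [MOD t] := by
  classical
  have hsp : Fact s.Prime := ⟨h.hs⟩
  have hcD : (Nat.card D : K) ≠ 0 := card_ne_zero_of_MinD h hsK (le_refl D)
  have hcent : ∀ {a b x : G}, a ∈ D → b ∈ D → x ∈ D →
      (a * b * a⁻¹ * b⁻¹) * x = x * (a * b * a⁻¹ * b⁻¹) := fun ha hb hx => h.class_two ha hb hx
  set c := a * b * a⁻¹ * b⁻¹ with hc
  have hcmem : c ∈ D := D.mul_mem (D.mul_mem (D.mul_mem ha hb) (D.inv_mem ha)) (D.inv_mem hb)
  have hnab : ∃ a ∈ D, ∃ b ∈ D, a * b ≠ b * a := by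
    refine ⟨a, ha, b, hb, fun hab => hρ ?_⟩
    have : c = 1 := by rw [hc, hab, mul_inv_cancel_right, mul_inv_cancel]
    rw [this, map_one]
  set U := LinearMap.range (ρ c - 1) with hU
  have hUne : U ≠ ⊥ := by
    intro h0
    rw [hU, LinearMap.range_eq_bot, sub_eq_zero] at h0
    exact hρ h0
  have hUfix : ∀ u ∈ U, ρ c u = u → u = 0 := by
    rintro u ⟨v, hv⟩ hu
    have hv' : ρ c v = v + u := by
      have : ρ c v - v = u := hv
      rw [← this]; abel
    obtain ⟨k, hk⟩ := h.hD c hcmem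
    have h1 := pow_ap_add ρ hu hv' (s ^ k)
    rw [hk, one_ap, left_eq_add, smul_eq_zero] at h1
    refine h1.resolve_left ?_
    rw [Nat.cast_pow]
    exact pow_ne_zero _ hsK
  let τ : Representation K D V := ρ.comp D.subtype
  have hτ : ∀ (d : D) (v : V), τ d v = ρ (d : G) v := fun _ _ => rfl
  obtain ⟨M, hMU, hMne, hMinv, hMmin⟩ := exists_min_inv τ U hUne (by
    rintro d _ ⟨v, rfl⟩
    refine ⟨ρ d v, ?_⟩
    show ρ c (ρ d v) - ρ d v = ρ d (ρ c v - v)
    rw [map_sub, ← mul_ap, ← mul_ap, hcent ha hb d.2])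
  let σ : Representation K D M := H575.Dim.sub τ (MonoidHom.id D) M hMinv
  have hσ : ∀ (d : D) (m : M), ((σ d m : M) : V) = ρ (d : G) m := fun _ _ => rfl
  have hirr : H575.Dim.Irr σ := irr_sub τ M hMne hMinv hMmin
  have hnt := hirr.1
  -- the subgroup acting by scalars
  let X : Subgroup D :=
    { carrier := {d | ∃ e : K, ∀ v, σ d v = e • v}
      one_mem' := ⟨1, fun v => by rw [map_one, one_smul]; rfl⟩
      mul_mem' := by
        rintro d d' ⟨e, he⟩ ⟨e', he'⟩
        exact ⟨e * e', fun v => by rw [mul_ap, he', map_smul, he, smul_smul, mul_comm]⟩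
      inv_mem' := by
        rintro d ⟨e, he⟩
        refine ⟨e⁻¹, fun v => ?_⟩
        have he0 : e ≠ 0 := by
          rintro rfl
          obtain ⟨w, hw⟩ := exists_ne (0 : M)
          apply hw
          rw [← inv_ap σ d w, he, zero_smul, map_zero]
        have h1 : v = σ d (e⁻¹ • v) := by rw [he, smul_smul, mul_inv_cancel₀ he0, one_smul]
        conv_lhs => rw [h1, inv_ap] }
  have hXmem : ∀ d : D, d ∈ X ↔ ∃ e : K, ∀ v, σ d v = e • v := fun _ => Iff.rfl
  -- commutators with elements of `X` act trivially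
  have hXcomm : ∀ d ∈ X, ∀ x : D, ∀ v, σ (d * x * d⁻¹ * x⁻¹) v = v := by
    rintro d ⟨e, he⟩ x v
    have h1 : σ d (σ x (σ d⁻¹ (σ x⁻¹ v))) = v := by
      rw [he, ← map_smul, ← he, ap_inv, ap_inv]
    rw [mul_ap, mul_ap, mul_ap]
    exact h1
  have hXof : ∀ d : D, (∀ x : D, ∀ v, σ (d * x * d⁻¹ * x⁻¹) v = v) → d ∈ X := by
    intro d hd
    refine hirr.scalar (σ d) fun x v => ?_
    have h1 := hd x (σ x (σ d v))
    have h2 : σ (d * x * d⁻¹ * x⁻¹) (σ x (σ d v)) = σ d (σ x v) := by
      rw [← mul_ap, ← mul_ap, ← mul_ap]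
      congr 2
      group
    rw [← h2]
    exact h1
  have hcl : ∀ d x : D, ∃ e : K, ∀ v, σ (d * x * d⁻¹ * x⁻¹) v = e • v := by
    intro d x
    refine hirr.scalar (σ (d * x * d⁻¹ * x⁻¹)) fun z v => ?_
    rw [← mul_ap, ← mul_ap]
    congr 2
    apply Subtype.ext
    exact hcent d.2 x.2 z.2
  have hidx := card_eq_sq σ hirr X hXmem hcl hcD
  -- translate to `G`
  let X' : Subgroup G := X.map D.subtype
  have hX'sub : X'.subgroupOf D = X := Subgroup.comap_map_eq_self_of_injective D.subtype_injective X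
  have hrel : X'.relIndex D = X.index := by rw [Subgroup.relIndex, hX'sub]
  have hX'n : Nrm y X' := by
    rintro _ ⟨d, hd, rfl⟩
    have hyd : y * (d : G) * y⁻¹ ∈ D := h.nrm d d.2
    refine ⟨⟨y * (d : G) * y⁻¹, hyd⟩, hXof _ fun x v => ?_, rfl⟩
    have hx' : y⁻¹ * (x : G) * y ∈ D := nrm_inv h.nrm x.2
    have h1 := hXcomm d hd ⟨y⁻¹ * (x : G) * y, hx'⟩ v
    have h2 : (⟨y * (d : G) * y⁻¹, hyd⟩ : D) * x * (⟨y * (d : G) * y⁻¹, hyd⟩ : D)⁻¹ * x⁻¹ =
        d * ⟨y⁻¹ * (x : G) * y, hx'⟩ * d⁻¹ * (⟨y⁻¹ * (x : G) * y, hx'⟩ : D)⁻¹ := by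
      apply Subtype.ext
      show (y * (d : G) * y⁻¹) * x * (y * (d : G) * y⁻¹)⁻¹ * (x : G)⁻¹ =
        (d : G) * (y⁻¹ * (x : G) * y) * (d : G)⁻¹ * (y⁻¹ * (x : G) * y)⁻¹
      set z := (d : G) * (y⁻¹ * (x : G) * y) * (d : G)⁻¹ * (y⁻¹ * (x : G) * y)⁻¹ with hz
      have hzD : z ∈ D := D.mul_mem (D.mul_mem (D.mul_mem d.2 hx') (D.inv_mem d.2)) (D.inv_mem hx')
      have hyz : y * z = z * y :=
        h.cen_center hnab hzD (fun e he => hcent d.2 hx' he)
      have h3 : (y * (d : G) * y⁻¹) * x * (y * (d : G) * y⁻¹)⁻¹ * (x : G)⁻¹ = y * z * y⁻¹ := by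
        rw [hz]; group
      rw [h3, hyz, mul_inv_cancel_right]
    rw [h2]
    exact h1
  have hX'c : ∀ d ∈ D, ∀ x ∈ D, d * x * d⁻¹ * x⁻¹ ∈ X' := by
    intro d hd x hx
    refine ⟨(⟨d, hd⟩ * ⟨x, hx⟩ * (⟨d, hd⟩ : D)⁻¹ * (⟨x, hx⟩ : D)⁻¹ :), (by exact hcl _ _), rfl⟩
  have hmod := h.relIndex_modEq hX'n hX'c
  rw [hrel, hidx] at hmod
  refine ⟨finrank K M, ?_, Submodule.finrank_mono hMU, ?_, hmod⟩
  · by_contra hle
    have h1 : finrank K M = 1 := by
      have : 0 < finrank K M := finrank_pos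
      omega
    rw [h1, one_pow, Subgroup.index_eq_one] at hidx
    have h2 : (⟨a, ha⟩ : D) ∈ X := by rw [hidx]; trivial
    obtain ⟨w, hw⟩ := exists_ne (0 : M)
    have h3 := congrArg Subtype.val (hXcomm _ h2 ⟨b, hb⟩ w)
    have h4 : ρ c (w : V) = w := h3
    exact hw (Subtype.ext (hUfix w (hMU w.2) h4))
  · have h1 : X.index ∣ Nat.card D := Subgroup.index_dvd_card X
    obtain ⟨n, hn⟩ := h.isPGroup.exists_card_eq
    rw [hn, hidx] at h1
    obtain ⟨k, -, hk⟩ := (Nat.dvd_prime_pow h.hs).mp h1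
    exact ⟨k, hk⟩

end closed

section beta

variable {F : Type*} [Field F] {V : Type*} [AddCommGroup V] [Module F V]
  [FiniteDimensional F V] {G : Type*} [Group G] [Finite G] {s t : ℕ} {y : G} {D : Subgroup G}

/-- extension of scalars of a representation -/
noncomputable def bc (K : Type*) [Field K] [Algebra F K] (ρ : Representation F G V) :
    Representation K G (TensorProduct F K V) where
  toFun g := (ρ g).baseChange K
  map_one' := by rw [map_one]; exact LinearMap.baseChange_one _ _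
  map_mul' g h := by rw [map_mul]; exact LinearMap.baseChange_mul _ _

theorem finrank_range_bc (K : Type*) [Field K] [Algebra F K] (ρ : Representation F G V) (g : G) :
    finrank K (LinearMap.range (bc K ρ g - 1)) = finrank F (LinearMap.range (ρ g - 1)) := by
  have h1 := LinearMap.finrank_range_add_finrank_ker (bc K ρ g - 1)
  have h2 := LinearMap.finrank_range_add_finrank_ker (ρ g - 1)
  have h3 := H892.FixDim.fx_baseChange K (ρ g)
  rw [Module.finrank_baseChange] at h1
  unfold H892.FixDim.fx at h3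
  have h4 : (bc K ρ g - 1) = ((ρ g).baseChange K - 1) := rfl
  rw [h4] at h1 ⊢
  omega

/-- **The nonabelian case**, general form -/
theorem beta_gen (ρ : Representation F G V) (h : MinD s t y D)
    (hsF : (s : F) ≠ 0) {a b : G} (ha : a ∈ D) (hb : b ∈ D) (hρ : ρ (a * b * a⁻¹ * b⁻¹) ≠ 1) :
    ∃ δ : ℕ, 1 < δ ∧ δ ≤ finrank F (LinearMap.range (ρ (a * b * a⁻¹ * b⁻¹) - 1)) ∧
      (∃ k : ℕ, δ ^ 2 = s ^ k) ∧ δ ^ 2 ≡ 1 [MOD t] := by
  let K := AlgebraicClosure F
  have hsK : (s : K) ≠ 0 := by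
    rw [← map_natCast (algebraMap F K)]
    exact (map_ne_zero_iff _ (algebraMap F K).injective).mpr hsF
  have h1 : bc K ρ (a * b * a⁻¹ * b⁻¹) ≠ 1 := by
    intro h0
    apply hρ
    have h2 := finrank_range_bc K ρ (a * b * a⁻¹ * b⁻¹)
    have h0' : bc K ρ (a * b * a⁻¹ * b⁻¹) - 1 = 0 := (sub_eq_zero.mpr h0 :)
    rw [h0', LinearMap.range_zero, finrank_bot] at h2
    have h3 := Submodule.finrank_eq_zero.mp h2.symm
    rw [LinearMap.range_eq_bot, sub_eq_zero] at h3
    exact h3
  obtain ⟨δ, h2, h3, h4, h5⟩ := beta_closed (bc K ρ) h hsK ha hb h1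
  rw [finrank_range_bc] at h3
  exact ⟨δ, h2, h3, h4, h5⟩

theorem arith_beta {δ t : ℕ} (ht : t.Prime) (hδ : 1 < δ) (hmod : δ ^ 2 ≡ 1 [MOD t]) :
    t ∣ δ - 1 ∨ t ∣ δ + 1 := by
  have h1 : t ∣ δ ^ 2 - 1 := (Nat.modEq_iff_dvd' (Nat.one_le_pow _ _ (by omega))).mp hmod.symm
  have h2 : δ ^ 2 - 1 = (δ - 1) * (δ + 1) := by
    obtain ⟨e, rfl⟩ := Nat.exists_eq_add_of_le hδ.le
    simp only [_root_.add_tsub_cancel_left]
    ring_nf
    omega
  rw [h2] at h1
  exact (Nat.Prime.dvd_mul ht).mp h1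

/-- **The nonabelian case, odd primes** -/
theorem beta_odd (ρ : Representation F G V) (h : MinD s t y D) (hs2 : s ≠ 2) (ht2 : t ≠ 2)
    (hsF : (s : F) ≠ 0) {a b : G} (ha : a ∈ D) (hb : b ∈ D) (hρ : ρ (a * b * a⁻¹ * b⁻¹) ≠ 1) :
    2 * t - 1 ≤ finrank F (LinearMap.range (ρ (a * b * a⁻¹ * b⁻¹) - 1)) := by
  obtain ⟨δ, h2, h3, ⟨k, h4⟩, h5⟩ := beta_gen ρ h hsF ha hb hρ
  have hodd : Odd δ := by
    have h6 : Odd (δ ^ 2) := by
      rw [h4]
      exact (h.hs.odd_of_ne_two hs2).pow
    exact Nat.Odd.of_mul_left (by rw [sq] at h6; exact h6)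
  have htodd : Odd t := h.ht.odd_of_ne_two ht2
  have h6 := arith_beta h.ht h2 h5
  obtain ⟨m, hm⟩ := hodd
  have h7 : ∀ x, x ≠ 0 → t ∣ 2 * x → 2 * t ≤ 2 * x := by
    intro x hx hdv
    have hcop : t.Coprime 2 := (Nat.coprime_primes h.ht Nat.prime_two).mpr ht2
    have := Nat.le_of_dvd (by omega) (hcop.dvd_of_dvd_mul_left hdv)
    omega
  rcases h6 with h6 | h6
  · have := h7 m (by omega) (by rw [hm] at h6; simpa only [_root_.add_tsub_cancel_right] using h6)
    omega
  · have := h7 (m + 1) (by omega) (by rw [hm] at h6; convert h6 using 1; omega)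
    omega

/-- **The nonabelian case, all primes** -/
theorem beta_all (ρ : Representation F G V) (h : MinD s t y D)
    (hsF : (s : F) ≠ 0) {a b : G} (ha : a ∈ D) (hb : b ∈ D) (hρ : ρ (a * b * a⁻¹ * b⁻¹) ≠ 1) :
    t - 1 ≤ finrank F (LinearMap.range (ρ (a * b * a⁻¹ * b⁻¹) - 1)) := by
  obtain ⟨δ, h2, h3, ⟨k, h4⟩, h5⟩ := beta_gen ρ h hsF ha hb hρ
  rcases arith_beta h.ht h2 h5 with h6 | h6
  · have := Nat.le_of_dvd (by omega) h6
    omega
  · have := Nat.le_of_dvd (by omega) h6
    omega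

/-- the form asked for by the classical rows -/
theorem beta (ρ : Representation F G V) (hρ : Function.Injective ρ) (h : MinD s t y D)
    (hs2 : s ≠ 2) (ht2 : t ≠ 2) (hsF : (s : F) ≠ 0) (hnab : ∃ a ∈ D, ∃ b ∈ D, a * b ≠ b * a) :
    2 * t - 1 ≤ finrank F ((⨆ d : D, LinearMap.range (ρ (d : G) - 1) : Submodule F V)) := by
  obtain ⟨a, ha, b, hb, hab⟩ := hnab
  have hc : a * b * a⁻¹ * b⁻¹ ∈ D := D.mul_mem (D.mul_mem (D.mul_mem ha hb) (D.inv_mem ha)) (D.inv_mem hb)
  have h1 : ρ (a * b * a⁻¹ * b⁻¹) ≠ 1 := by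
    intro h0
    apply hab
    have h2 : a * b * a⁻¹ * b⁻¹ = 1 := hρ (by rw [h0, map_one])
    have h3 : a * b = (a * b * a⁻¹ * b⁻¹) * (b * a) := by group
    rw [h3, h2, one_mul]
  refine (beta_odd ρ h hs2 ht2 hsF ha hb h1).trans ?_
  exact Submodule.finrank_mono
    (le_iSup (fun d : D => LinearMap.range (ρ (d : G) - 1)) ⟨a * b * a⁻¹ * b⁻¹, hc⟩)

end beta

end Cfsg.Agent.H167.OP
end

-- part: H170/HL/SpRow
section
set_option linter.all false
open scoped Cfsg.Agent.FastGrp

/-!
# `P(z)` for `PSp` (helper170)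
-/

set_option autoImplicit false

namespace Cfsg.Agent.H170.HL.SpRow

open Module Cfsg.Agent.H167.OP Matrix

variable {F : Type*} [Field F] {m : ℕ}

/-- inclusion into matrices -/
def inc (m : ℕ) (F : Type*) [Field F] :
    symplecticGroup (Fin m) F →* Matrix (Fin m ⊕ Fin m) (Fin m ⊕ Fin m) F :=
  (symplecticGroup (Fin m) F).subtype

theorem inc_injective : Function.Injective (inc m F) := Subtype.val_injective

/-- the form -/
noncomputable def frm (m : ℕ) (F : Type*) [Field F] :
    (Fin m ⊕ Fin m → F) →ₗ[F] (Fin m ⊕ Fin m → F) →ₗ[F] F :=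
  Matrix.toLinearMap₂' F (J (Fin m) F)

theorem frm_apply (u v : Fin m ⊕ Fin m → F) : frm m F u v = u ⬝ᵥ (J (Fin m) F *ᵥ v) :=
  Matrix.toLinearMap₂'_apply' _ _ _

theorem frm_mulVec (A : Matrix (Fin m ⊕ Fin m) (Fin m ⊕ Fin m) F) (u v : Fin m ⊕ Fin m → F) :
    frm m F (A *ᵥ u) (A *ᵥ v) = u ⬝ᵥ ((Aᵀ * J (Fin m) F * A) *ᵥ v) := by
  rw [frm_apply, ← vecMul_transpose, ← dotProduct_mulVec, Matrix.mulVec_mulVec, Matrix.mulVec_mulVec,
    Matrix.mul_assoc]

theorem frm_sym (u v : Fin m ⊕ Fin m → F) : frm m F u v = (-1) * frm m F v u := by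
  rw [frm_apply, frm_apply, dotProduct_comm, dotProduct_mulVec v, ← mulVec_transpose, J_transpose,
    neg_mulVec, neg_dotProduct]
  ring

theorem frm_nondeg (x : Fin m ⊕ Fin m → F) (h : ∀ y, frm m F y x = 0) : x = 0 := by
  have h1 : J (Fin m) F *ᵥ x = 0 := by
    apply dotProduct_eq_zero
    intro y
    rw [dotProduct_comm]
    have := h y
    rwa [frm_apply] at this
  have h2 : J (Fin m) F *ᵥ (J (Fin m) F *ᵥ x) = 0 := by rw [h1, mulVec_zero]
  rw [mulVec_mulVec, J_squared, neg_mulVec, one_mulVec, neg_eq_zero] at h2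
  exact h2

theorem frm_iso (A : symplecticGroup (Fin m) F) (u v : Fin m ⊕ Fin m → F) :
    frm m F (rep (inc m F) A u) (rep (inc m F) A v) = frm m F u v := by
  rw [rep_apply, rep_apply, frm_mulVec, frm_apply]
  have h1 : (inc m F A)ᵀ * J (Fin m) F * inc m F A = J (Fin m) F := SymplecticGroup.mem_iff'.mp A.2
  rw [h1]

/-- an endomorphism preserving the form belongs to the group -/
theorem exists_of_iso (z : Module.End F (Fin m ⊕ Fin m → F))
    (hz : ∀ u v, frm m F (z u) (z v) = frm m F u v) :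
    ∃ A : symplecticGroup (Fin m) F, rep (inc m F) A = z := by
  let A : Matrix (Fin m ⊕ Fin m) (Fin m ⊕ Fin m) F := LinearMap.toMatrix' z
  have hA : ∀ v, A *ᵥ v = z v := fun v => by
    have := Matrix.toLin'_apply A v
    rw [← this, Matrix.toLin'_toMatrix']
  have hmem : A ∈ symplecticGroup (Fin m) F := by
    rw [SymplecticGroup.mem_iff']
    ext i j
    have h1 := hz (Pi.single i 1) (Pi.single j 1)
    rw [← hA, ← hA, frm_mulVec, frm_apply] at h1
    simpa using h1
  refine ⟨⟨A, hmem⟩, ?_⟩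
  apply LinearMap.ext
  intro v
  exact hA v

theorem rep_pow_eq {K : Type*} [Group K] {V : Type*} [AddCommGroup V] [Module F V]
    (ρ : Representation F K V) (hρ : Function.Injective ρ) {k : K} {n : ℕ} : k ^ n = 1 ↔ ρ k ^ n = 1 := by
  rw [← map_pow]
  constructor
  · intro h; rw [h, map_one]
  · intro h; exact hρ (by rw [h, map_one])

/-- existence of an element of small support -/
theorem exists_small_sp [Finite F] {t : ℕ} (ht : t.Prime) (hodd : Odd t) (htF : (t : F) ≠ 0)
    (htd : t ∣ Nat.card (symplecticGroup (Fin m) F)) :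
    ∃ z : symplecticGroup (Fin m) F, z ∉ Subgroup.center (symplecticGroup (Fin m) F) ∧ z ^ t = 1 ∧
      rk (rep (inc m F)) z ≤ t - 1 := by
  classical
  have htf : Fact t.Prime := ⟨ht⟩
  have : Finite (symplecticGroup (Fin m) F) := inferInstance
  obtain ⟨y, hy⟩ := exists_prime_orderOf_dvd_card' (G := symplecticGroup (Fin m) F) t htd
  have hρ := rep_injective (inc_injective (m := m) (F := F))
  have hyt : (rep (inc m F) y) ^ t = 1 := by
    rw [← rep_pow_eq _ hρ, ← hy, pow_orderOf_eq_one]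
  have hy1 : rep (inc m F) y ≠ 1 := by
    intro h
    have h1 : y = 1 := hρ (by rw [h, map_one])
    rw [h1, orderOf_one] at hy
    exact ht.one_lt.ne hy
  have hiso := frm_iso (m := m) (F := F) y
  obtain ⟨v, hv, hvi⟩ := exists_vec (frm m F) frm_nondeg (ε := -1) (by ring) frm_sym hodd htF hyt hy1 hiso
  have hr : ∀ x y, frm m F x y = 0 → frm m F y x = 0 := by
    intro x y h
    rw [frm_sym, h, mul_zero]
  obtain ⟨z, U, hz1, hz2, hz3, hz4, -⟩ := exists_small (frm m F) hr ht.pos htF hyt hiso hv hvi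
  obtain ⟨A, hA⟩ := exists_of_iso z hz4
  refine ⟨A, ?_, ?_, ?_⟩
  · intro hc
    apply hz2
    have hAt : A ^ t = 1 := by rw [rep_pow_eq _ hρ, hA, hz1]
    have h1 := Cfsg.Agent.ClassicalGeometry.SympInvolutions.center_eq hc
    have h2 : A * A = 1 := by
      apply Subtype.ext
      show (A : Matrix (Fin m ⊕ Fin m) (Fin m ⊕ Fin m) F) *
        (A : Matrix (Fin m ⊕ Fin m) (Fin m ⊕ Fin m) F) = 1
      rcases h1 with h | h
      · rw [h, one_mul]
      · rw [h, neg_mul_neg, one_mul]
    have h3 : A = 1 := by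
      obtain ⟨k, rfl⟩ := hodd
      rw [pow_succ, pow_mul, pow_two, h2, one_pow, one_mul] at hAt
      exact hAt
    rw [← hA, h3, map_one]
  · rw [rep_pow_eq _ hρ, hA, hz1]
  · unfold rk
    rw [hA]
    exact hz3

/-- **`P(z)` for `PSp`** -/
theorem exists_pz [Finite F] {G : Type*} [Group G] [Finite G] (e : G ≃* Cfsg.PSp m F)
    (hbeta : ∀ t : ℕ, t.Prime → Odd t → (t : F) ≠ 0 → BetaP (rep (inc m F)) t)
    (π : Set ℕ) (h2 : 2 ∉ π) (hp : ∀ r ∈ π, r.Prime → (r : F) ≠ 0)
    (hne : ∃ r ∈ π, r.Prime ∧ r ∣ Nat.card G) :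
    ∃ t ∈ π, t.Prime ∧ t ∣ Nat.card G ∧ ∃ z : G, z ≠ 1 ∧ z ^ t = 1 ∧ PZ t π z := by
  have : Finite (symplecticGroup (Fin m) F) := inferInstance
  let φ : symplecticGroup (Fin m) F →* G :=
    (e.symm : Cfsg.PSp m F →* G).comp
      (QuotientGroup.mk' (Subgroup.center (symplecticGroup (Fin m) F)))
  have hφ : Function.Surjective φ :=
    e.symm.surjective.comp (QuotientGroup.mk'_surjective _)
  have hφ1 : ∀ k, φ k = 1 ↔ k ∈ Subgroup.center (symplecticGroup (Fin m) F) := by
    intro k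
    rw [← QuotientGroup.eq_one_iff]
    constructor
    · intro h
      exact e.symm.injective (h.trans (map_one e.symm).symm)
    · intro h
      show e.symm (QuotientGroup.mk' _ k) = 1
      rw [QuotientGroup.mk'_apply, h, map_one]
  refine exists_pz_of_form φ hφ (fun k hk x => ?_) (rep (inc m F)) (rep_injective inc_injective)
    (frm m F) frm_iso frm_nondeg hbeta π h2 hp ?_ hne
  · exact (Subgroup.mem_center_iff.mp ((hφ1 k).mp hk) x).symm
  · intro t ht hodd htF htd
    have h1 : Nat.card G ∣ Nat.card (symplecticGroup (Fin m) F) :=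
      Subgroup.card_dvd_of_surjective φ hφ
    obtain ⟨z, hz1, hz2, hz3⟩ := exists_small_sp ht hodd htF (htd.trans h1)
    exact ⟨z, fun h => hz1 ((hφ1 z).mp h), hz2, hz3⟩

end Cfsg.Agent.H170.HL.SpRow
end

-- part: H170/HL/OmRow
section
set_option linter.all false
open scoped Cfsg.Agent.FastGrp

/-!
# `P(z)` for the orthogonal groups (helper170)
-/

set_option autoImplicit false

namespace Cfsg.Agent.H170.HL.OmRow

open Module Cfsg.Agent.H167.OP Matrix QuadraticMap

set_option linter.unusedSectionVars false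

variable {F : Type*} [Field F] {ι : Type} [Fintype ι] [DecidableEq ι]

/-- inclusion into matrices -/
def inc (Q : (ι → F) → F) : Cfsg.Omega F Q →* Matrix ι ι F :=
  (Units.coeHom (Matrix ι ι F)).comp
    ((Cfsg.isometryGroup F Q).subtype.comp (Cfsg.Omega F Q).subtype)

theorem inc_injective {Q : (ι → F) → F} : Function.Injective (inc Q) := by
  intro a b h
  exact Subtype.ext (Subtype.ext (Units.ext h))

/-- matrices of isometries -/
def inc' (Q : (ι → F) → F) : Cfsg.isometryGroup F Q →* Matrix ι ι F :=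
  (Units.coeHom (Matrix ι ι F)).comp (Cfsg.isometryGroup F Q).subtype

theorem inc'_injective {Q : (ι → F) → F} : Function.Injective (inc' Q) := by
  intro a b h
  exact Subtype.ext (Units.ext h)

theorem iso_apply {Q : (ι → F) → F} (g : Cfsg.isometryGroup F Q) (v : ι → F) :
    Q (rep (inc' Q) g v) = Q v := g.2 v v

theorem polar_apply (Q : QuadraticForm F (ι → F)) (g : Cfsg.isometryGroup F (⇑Q)) (u v : ι → F) :
    polarBilin Q (rep (inc' (⇑Q)) g u) (rep (inc' (⇑Q)) g v) = polarBilin Q u v := by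
  have h1 := iso_apply (Q := ⇑Q) g (u + v)
  have h2 := iso_apply (Q := ⇑Q) g u
  have h3 := iso_apply (Q := ⇑Q) g v
  rw [polarBilin_apply_apply, polarBilin_apply_apply, polar, polar, ← map_add, h1, h2, h3]

theorem polar_sym (Q : QuadraticForm F (ι → F)) (u v : ι → F) :
    polarBilin Q u v = 1 * polarBilin Q v u := by
  rw [polarBilin_apply_apply, polarBilin_apply_apply, polar_comm, one_mul]

theorem polar_nondeg (Q : QuadraticForm F (ι → F)) (hQ : (polarBilin Q).Nondegenerate) (x : ι → F)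
    (h : ∀ y, polarBilin Q y x = 0) : x = 0 := hQ.2 x h

/-- an endomorphism preserving the form belongs to the group -/
theorem exists_of_iso (Q : (ι → F) → F) (z z' : Module.End F (ι → F)) (hzz : z * z' = 1)
    (hzz' : z' * z = 1) (hz : ∀ v, Q (z v) = Q v) :
    ∃ A : Cfsg.isometryGroup F Q, rep (inc' Q) A = z := by
  let A : Matrix ι ι F := LinearMap.toMatrix' z
  let B : Matrix ι ι F := LinearMap.toMatrix' z'
  have hA : ∀ v, A *ᵥ v = z v := fun v => by
    have := Matrix.toLin'_apply A v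
    rw [← this, Matrix.toLin'_toMatrix']
  have hAB : A * B = 1 := by
    have := LinearMap.toMatrix'_mul z z'
    rw [hzz, LinearMap.toMatrix'_one] at this
    exact this.symm
  have hBA : B * A = 1 := by
    have := LinearMap.toMatrix'_mul z' z
    rw [hzz', LinearMap.toMatrix'_one] at this
    exact this.symm
  refine ⟨⟨⟨A, B, hAB, hBA⟩, ?_⟩, ?_⟩
  · intro u v
    show Q (A *ᵥ u) = Q u
    rw [hA, hz]
  · apply LinearMap.ext
    intro v
    exact hA v

/-- the hypotheses on the form -/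
structure GoodQ (Q : QuadraticForm F (ι → F)) : Prop where
  nd : (polarBilin Q).Nondegenerate
  card : 3 ≤ Fintype.card ι
  sing : ∃ u : ι → F, u ≠ 0 ∧ Q u = 0
  sq : ∀ g : Cfsg.isometryGroup F (⇑Q), g * g ∈ commutator (Cfsg.isometryGroup F (⇑Q))

theorem mem_omega_of_odd {Q : QuadraticForm F (ι → F)} (hQ : GoodQ Q) {t : ℕ} (hodd : Odd t)
    {g : Cfsg.isometryGroup F (⇑Q)} (hg : g ^ t = 1) : g ∈ Cfsg.Omega F (⇑Q) := by
  obtain ⟨k, rfl⟩ := hodd
  have h1 : g * (g * g) ^ k = 1 := by
    rw [← pow_two, ← pow_mul, ← pow_succ', hg]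
  have h2 : g = ((g * g) ^ k)⁻¹ := eq_inv_of_mul_eq_one_left h1
  rw [h2]
  exact Subgroup.inv_mem _ (Subgroup.pow_mem _ (hQ.sq g) _)

/-- existence of an element of small support -/
theorem exists_small_om [Finite F] {Q : QuadraticForm F (ι → F)} (hQ : GoodQ Q) {t : ℕ}
    (ht : t.Prime) (hodd : Odd t) (htF : (t : F) ≠ 0) (htd : t ∣ Nat.card (Cfsg.Omega F (⇑Q))) :
    ∃ z : Cfsg.Omega F (⇑Q), z ∉ Subgroup.center (Cfsg.Omega F (⇑Q)) ∧ z ^ t = 1 ∧
      rk (rep (inc (⇑Q))) z ≤ t - 1 := by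
  classical
  have htf : Fact t.Prime := ⟨ht⟩
  have : Finite (Cfsg.Omega F (⇑Q)) := inferInstance
  obtain ⟨y0, hy0⟩ := exists_prime_orderOf_dvd_card' (G := Cfsg.Omega F (⇑Q)) t htd
  have hρ := rep_injective (inc'_injective (Q := (⇑Q : (ι → F) → F)))
  let y : Cfsg.isometryGroup F (⇑Q) := y0
  have hy0t : y ^ t = 1 := by
    have : y0 ^ t = 1 := by rw [← hy0, pow_orderOf_eq_one]
    exact congrArg Subtype.val this
  have hyt : (rep (inc' (⇑Q)) y) ^ t = 1 := by
    rw [← SpRow.rep_pow_eq _ hρ, hy0t]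
  have hy1 : rep (inc' (⇑Q)) y ≠ 1 := by
    intro h
    have h1 : y = 1 := hρ (by rw [h, map_one])
    have h2 : y0 = 1 := Subtype.ext h1
    rw [h2, orderOf_one] at hy0
    exact ht.one_lt.ne hy0
  have hiso := polar_apply Q y
  obtain ⟨v, hv, hvi⟩ := exists_vec (polarBilin Q) (polar_nondeg Q hQ.nd) (ε := 1) (by ring)
    (polar_sym Q) hodd htF hyt hy1 hiso
  have hr : ∀ x y, polarBilin Q x y = 0 → polarBilin Q y x = 0 := by
    intro x y h
    rw [polar_sym, h, mul_zero]
  obtain ⟨z, U, hz1, hz2, hz3, -, hUy, hzU, hzO, hdec⟩ :=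
    exists_small (polarBilin Q) hr ht.pos htF hyt hiso hv hvi
  have hzQ : ∀ v, Q (z v) = Q v := by
    intro v
    obtain ⟨u, hu, w, hw, rfl⟩ := hdec v
    have h1 : polar Q u w = 0 := hw u hu
    have h2 : polar Q (rep (inc' (⇑Q)) y u) w = 0 := hw _ (hUy u hu)
    rw [map_add, hzU u hu, hzO w hw]
    have h3 : Q (rep (inc' (⇑Q)) y u + w) = Q (rep (inc' (⇑Q)) y u) + Q w := by
      rw [polar] at h2
      linear_combination h2
    have h4 : Q (u + w) = Q u + Q w := by
      rw [polar] at h1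
      linear_combination h1
    rw [h3, h4, iso_apply (Q := ⇑Q) y u]
  have hpos := ht.pos
  obtain ⟨A, hA⟩ := exists_of_iso (⇑Q) z (z ^ (t - 1))
    (by rw [← pow_succ', Nat.sub_add_cancel hpos, hz1])
    (by rw [← pow_succ, Nat.sub_add_cancel hpos, hz1]) hzQ
  have hAt : A ^ t = 1 := by rw [SpRow.rep_pow_eq _ hρ, hA, hz1]
  have hAm := mem_omega_of_odd hQ hodd hAt
  refine ⟨⟨A, hAm⟩, ?_, ?_, ?_⟩
  · intro hc
    apply hz2
    have h1 := (Cfsg.Agent.LieClassical.OmegaCenter.mem_center_omega_iff Q hQ.nd hQ.card hQ.sing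
      ⟨A, hAm⟩).mp hc
    have h2 : A * A = 1 := by
      apply inc'_injective
      rw [map_mul, map_one]
      have h1' : inc' (⇑Q) A = 1 ∨ inc' (⇑Q) A = -1 := h1
      rcases h1' with h | h
      · rw [h, one_mul]
      · rw [h, neg_mul_neg, one_mul]
    have h3 : A = 1 := by
      obtain ⟨k, rfl⟩ := hodd
      rw [pow_succ, pow_mul, pow_two, h2, one_pow, one_mul] at hAt
      exact hAt
    rw [← hA, h3, map_one]
  · exact Subtype.ext hAt
  · unfold rk
    have : rep (inc (⇑Q)) ⟨A, hAm⟩ = z := hA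
    rw [this]
    exact hz3

/-- **`P(z)` for `POmega`** -/
theorem exists_pz [Finite F] {Q : QuadraticForm F (ι → F)} (hQ : GoodQ Q) {G : Type*} [Group G]
    [Finite G] (e : G ≃* Cfsg.POmega F (⇑Q))
    (hbeta : ∀ t : ℕ, t.Prime → Odd t → (t : F) ≠ 0 → BetaP (rep (inc (⇑Q))) t)
    (π : Set ℕ) (h2 : 2 ∉ π) (hp : ∀ r ∈ π, r.Prime → (r : F) ≠ 0)
    (hne : ∃ r ∈ π, r.Prime ∧ r ∣ Nat.card G) :
    ∃ t ∈ π, t.Prime ∧ t ∣ Nat.card G ∧ ∃ z : G, z ≠ 1 ∧ z ^ t = 1 ∧ PZ t π z := by
  have : Finite (Cfsg.Omega F (⇑Q)) := inferInstance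
  let φ : Cfsg.Omega F (⇑Q) →* G :=
    (e.symm : Cfsg.POmega F (⇑Q) →* G).comp
      (QuotientGroup.mk' (Subgroup.center (Cfsg.Omega F (⇑Q))))
  have hφ : Function.Surjective φ :=
    e.symm.surjective.comp (QuotientGroup.mk'_surjective _)
  have hφ1 : ∀ k, φ k = 1 ↔ k ∈ Subgroup.center (Cfsg.Omega F (⇑Q)) := by
    intro k
    rw [← QuotientGroup.eq_one_iff]
    constructor
    · intro h
      exact e.symm.injective (h.trans (map_one e.symm).symm)
    · intro h
      show e.symm (QuotientGroup.mk' _ k) = 1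
      rw [QuotientGroup.mk'_apply, h, map_one]
  refine exists_pz_of_form φ hφ (fun k hk x => ?_) (rep (inc (⇑Q))) (rep_injective inc_injective)
    (polarBilin Q) (fun g u v => polar_apply Q g u v) (polar_nondeg Q hQ.nd) hbeta π h2 hp ?_ hne
  · exact (Subgroup.mem_center_iff.mp ((hφ1 k).mp hk) x).symm
  · intro t ht hodd htF htd
    have h1 : Nat.card G ∣ Nat.card (Cfsg.Omega F (⇑Q)) :=
      Subgroup.card_dvd_of_surjective φ hφ
    obtain ⟨z, hz1, hz2, hz3⟩ := exists_small_om hQ ht hodd htF (htd.trans h1)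
    exact ⟨z, fun h => hz1 ((hφ1 z).mp h), hz2, hz3⟩

end Cfsg.Agent.H170.HL.OmRow
end

-- part: H170/HL/OmRows
section
set_option linter.all false
open scoped Cfsg.Agent.FastGrp

/-!
# The standard quadratic forms satisfy the hypotheses (helper170)
-/

set_option autoImplicit false

namespace Cfsg.Agent.H170.HL.OmRow

open Module Matrix QuadraticMap Cfsg.Agent.LieClassical.OrthCore Cfsg.Agent.LieClassical.OrthForms

variable {F : Type*} [Field F]

theorem goodQ_of {ι : Type} [Fintype ι] [DecidableEq ι] [Finite F] {Q : QuadraticForm F (ι → F)}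
    (h : Nondeg Q) (hc : 5 ≤ Fintype.card ι) (hs : ∃ u : ι → F, u ≠ 0 ∧ Q u = 0) : GoodQ Q := by
  have hnd : (polarBilin Q).Nondegenerate :=
    ⟨fun x hx => h x hx, fun x hx => h x (fun y => by
      have := hx y
      rw [polarBilin_apply_apply, polar_comm] at this
      exact this)⟩
  refine ⟨hnd, by omega, hs, ?_⟩
  intro g
  by_cases h2 : (2 : F) = 0
  · have hne : Nonempty ι := by
      rw [← Fintype.card_pos_iff]
      omega
    have := Cfsg.Agent.ClassicalGeometry.OrthDickson.index_commutator_two Q h2 hnd (Or.inr (by omega))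
    exact Subgroup.mul_self_mem_of_index_two this g
  · exact Cfsg.Agent.ClassicalGeometry.SiegelGen.mul_self_mem_commutator h2 Q hnd g

theorem goodQ_plus [Finite F] {m : ℕ} (hm : 3 ≤ m) : GoodQ (plusForm m F) := by
  refine goodQ_of (nondeg_plusForm m F) (by simp; omega) ?_
  refine ⟨Pi.single (Sum.inl ⟨0, by omega⟩) 1, ?_, ?_⟩
  · intro h
    have := congrFun h (Sum.inl ⟨0, by omega⟩)
    simp at this
  · rw [coe_plusForm, quadFormPlus_apply]
    refine Finset.sum_eq_zero fun i _ => ?_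
    simp

theorem goodQ_minus [Finite F] {m : ℕ} (hm : 2 ≤ m) (a b : F)
    (hab : ∀ z₁ z₂ : F, z₁ ^ 2 + a * z₁ * z₂ + b * z₂ ^ 2 = 0 → z₁ = 0 ∧ z₂ = 0) :
    GoodQ (minusForm m F a b) := by
  refine goodQ_of (nondeg_minusForm m F a b hab) (by simp; omega) ?_
  refine ⟨Pi.single (Sum.inl (Sum.inl ⟨0, by omega⟩)) 1, ?_, ?_⟩
  · intro h
    have := congrFun h (Sum.inl (Sum.inl ⟨0, by omega⟩))
    simp at this
  · rw [coe_minusForm, quadFormMinus_apply]
    simp

theorem goodQ_odd [Finite F] {m : ℕ} (hm : 2 ≤ m) (h2 : (2 : F) ≠ 0) : GoodQ (oddForm m F) := by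
  refine goodQ_of (nondeg_oddForm m F h2) (by simp; omega) ?_
  refine ⟨Pi.single (Sum.inr (Sum.inl ⟨0, by omega⟩)) 1, ?_, ?_⟩
  · intro h
    have := congrFun h (Sum.inr (Sum.inl ⟨0, by omega⟩))
    simp at this
  · rw [coe_oddForm, quadFormOdd_apply]
    simp

end Cfsg.Agent.H170.HL.OmRow
end

-- part: H553/GoodLems
section
set_option linter.all false
open scoped Cfsg.Agent.FastGrp

/-!
# Criteria for `Good π S` (helper553)

`Good π S` : some `K ≤ S`, `K ≠ ⊥, ⊤`, with `Aut(S)`-invariant class is normalised by a Hall `π`-subgroup.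

* `good_of_inv` : `K` is invariant under the automorphisms fixing a Sylow subgroup `R ≥ K`;
* `good_of_sylow` : a Hall `π`-subgroup normalises a Sylow `r`-subgroup, `r ∣ |S|`;
* `good_of_oddHall` : a Hall `π`-subgroup normalises a Hall `σ`-subgroup `K ≠ 1`, `2 ∉ σ` (uses `OddC S`, i.e. S4350);
* `good_of_oddClosed` : some Hall `π`-subgroup has a normal 2-complement;
* `good_of_inner` : all automorphisms are inner.
-/

set_option autoImplicit false

namespace Cfsg.Agent.H553.ExtRed

open Subgroup Cfsg Cfsg.Agent.H988.CPi Cfsg.Agent.H553.OddHall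
open scoped Pointwise

universe u

variable {π : Set ℕ}

/-- The product of two elements of odd order has odd order (i.e. the finite group has a normal 2-complement). -/
def OddClosed (X : Type*) [Group X] : Prop :=
  ∀ x y : X, Odd (orderOf x) → Odd (orderOf y) → Odd (orderOf (x * y))

theorem odd_orderOf_of_pow {X : Type*} [Group X] {x : X} {n : ℕ} (hn : Odd n) (h : x ^ n = 1) :
    Odd (orderOf x) := by
  have := orderOf_dvd_of_pow_eq_one h
  exact Odd.of_dvd_nat hn this

/-- the normal 2-complement -/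
def oddSub {X : Type*} [Group X] (h : OddClosed X) : Subgroup X where
  carrier := {x | Odd (orderOf x)}
  one_mem' := by simp
  mul_mem' := fun {a b} ha hb => h a b ha hb
  inv_mem' := fun {a} ha => by simpa using ha

theorem mem_oddSub {X : Type*} [Group X] (h : OddClosed X) {x : X} : x ∈ oddSub h ↔ Odd (orderOf x) := Iff.rfl

theorem oddSub_normal {X : Type*} [Group X] (h : OddClosed X) : (oddSub h).Normal := by
  refine ⟨fun x hx g => ?_⟩
  rw [mem_oddSub] at hx ⊢
  have : orderOf (g * x * g⁻¹) = orderOf x := by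
    have := orderOf_injective (MulAut.conj g).toMonoidHom (MulAut.conj g).injective x
    exact this
  rw [this]; exact hx

theorem odd_card_oddSub {X : Type*} [Group X] [Finite X] (h : OddClosed X) : Odd (Nat.card (oddSub h)) := by
  rw [← Nat.not_even_iff_odd, even_iff_two_dvd]
  intro hd
  obtain ⟨x, hx⟩ := exists_prime_orderOf_dvd_card' 2 hd
  have h1 := x.2
  rw [mem_oddSub, orderOf_coe, hx] at h1
  exact absurd h1 (by decide)

theorem index_oddSub {X : Type*} [Group X] [Finite X] (h : OddClosed X) (p : ℕ) (hp : p.Prime)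
    (hd : p ∣ (oddSub h).index) : p = 2 := by
  have := oddSub_normal h
  have := Fact.mk hp
  have hd' : p ∣ Nat.card (X ⧸ oddSub h) := hd
  obtain ⟨x, hx⟩ := exists_prime_orderOf_dvd_card' p hd'
  obtain ⟨x, rfl⟩ := QuotientGroup.mk'_surjective _ x
  by_contra hne
  -- the odd part of `x` lies in the complement
  have hodd : Odd p := hp.odd_of_ne_two hne
  obtain ⟨k, m, hm, hkm⟩ := Nat.exists_eq_two_pow_mul_odd (orderOf_pos x).ne'
  have h1 : x ^ (2 ^ k) ∈ oddSub h := by
    rw [mem_oddSub]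
    refine odd_orderOf_of_pow hm ?_
    rw [← pow_mul, ← hkm, pow_orderOf_eq_one]
  have h2 : (QuotientGroup.mk' (oddSub h) x) ^ (2 ^ k) = 1 := by
    rw [← map_pow]
    exact (QuotientGroup.eq_one_iff _).mpr h1
  have h3 := orderOf_dvd_of_pow_eq_one h2
  rw [hx] at h3
  have h4 := hp.dvd_of_dvd_pow h3
  exact hne ((Nat.prime_dvd_prime_iff_eq hp Nat.prime_two).mp h4)

variable {S : Type*} [Group S] [Finite S]

theorem smul_eq_map (φ : MulAut S) (K : Subgroup S) : φ • K = K.map φ.toMonoidHom := by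
  ext x
  simp only [mem_smul_pointwise_iff_exists, mem_map]
  rfl

theorem card_smul (φ : MulAut S) (K : Subgroup S) : Nat.card ↥(φ • K) = Nat.card K := by
  rw [smul_eq_map]; exact card_map_of_injective φ.injective

theorem isPiHall_aut {σ : Set ℕ} (φ : MulAut S) {K : Subgroup S} (h : IsPiHall σ K) : IsPiHall σ (φ • K) := by
  rw [smul_eq_map]
  exact ⟨PiN.of_dvd h.1 (card_map_dvd _ _), PiN'.of_dvd h.2 (index_map_dvd _ φ.surjective)⟩

/-- not all of `S` is an `r`-group -/
theorem sylow_ne_top [IsSimpleGroup S] (hna : ¬ IsMulCommutative S) {r : ℕ} [Fact r.Prime] (R : Sylow r S) :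
    (R : Subgroup S) ≠ ⊤ := by
  intro h
  apply hna
  have h1 : IsPGroup r S := by
    have := R.2
    rw [h] at this
    exact this.of_equiv topEquiv
  have h2 := h1.center_nontrivial
  have h3 : center S = ⊤ := (inferInstance : (center S).Normal).eq_bot_or_eq_top.resolve_left
    fun h => by rw [h] at h2; exact not_nontrivial _ h2
  exact ⟨⟨fun a b => (mem_center_iff.mp (h3 ▸ mem_top b : b ∈ center S) a)⟩⟩

theorem good_of_inv [IsSimpleGroup S] (hna : ¬ IsMulCommutative S) {r : ℕ} [Fact r.Prime] (R : Sylow r S)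
    (K : Subgroup S) (hKR : K ≤ R) (hK : K ≠ ⊥)
    (hinv : ∀ φ : MulAut S, φ • (R : Subgroup S) = R → φ • K = K)
    (H : Subgroup S) (hH : IsPiHall π H) (hHK : H ≤ normalizer (K : Set S)) : Good π S := by
  refine ⟨K, hK, fun h => sylow_ne_top hna R (top_le_iff.mp (h ▸ hKR)), fun φ => ?_, H, hH, hHK⟩
  -- `φ • R` is a Sylow subgroup
  obtain ⟨s, hs⟩ := MulAction.exists_smul_eq S R (φ • R)
  refine ⟨s, ?_⟩
  have h1 : ((MulAut.conj s)⁻¹ * φ) • (R : Subgroup S) = R := by
    rw [mul_smul]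
    have : φ • (R : Subgroup S) = MulAut.conj s • (R : Subgroup S) := by
      have := congrArg (fun Q : Sylow r S => (Q : Subgroup S)) hs
      exact this.symm
    rw [this, inv_smul_smul]
  have h2 := hinv _ h1
  rw [mul_smul, inv_smul_eq_iff] at h2
  exact h2

theorem good_of_sylow [IsSimpleGroup S] (hna : ¬ IsMulCommutative S) {r : ℕ} [Fact r.Prime] (R : Sylow r S)
    (hr : r ∣ Nat.card S) (H : Subgroup S) (hH : IsPiHall π H) (hHK : H ≤ normalizer ((R : Subgroup S) : Set S)) :
    Good π S :=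
  good_of_inv hna R R le_rfl (R.ne_bot_of_dvd_card hr) (fun _ h => h) H hH hHK

theorem good_of_oddHall [IsSimpleGroup S] (hna : ¬ IsMulCommutative S) (hodd : OddC S) {σ : Set ℕ} (h2 : 2 ∉ σ)
    (K : Subgroup S) (hK : IsPiHall σ K) (hK1 : K ≠ ⊥)
    (H : Subgroup S) (hH : IsPiHall π H) (hHK : H ≤ normalizer (K : Set S)) : Good π S := by
  refine ⟨K, hK1, ?_, fun φ => ?_, H, hH, hHK⟩
  · intro h
    apply hna
    have h1 : Group.IsSolvable S := by
      apply Cfsg.Agent.S0205.result
      rw [← Nat.not_even_iff_odd, even_iff_two_dvd]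
      intro hd
      refine h2 (hK.1 2 Nat.prime_two ?_)
      rw [h, card_top]
      exact hd
    exact ⟨⟨fun a b => IsSimpleGroup.comm_iff_isSolvable.mpr h1 a b⟩⟩
  · obtain ⟨s, hs⟩ := hodd σ h2 K (φ • K) hK (isPiHall_aut φ hK)
    exact ⟨s, hs⟩

theorem good_of_oddClosed [IsSimpleGroup S] (hna : ¬ IsMulCommutative S) (hodd : OddC S) 
    (H : Subgroup S) (hH : IsPiHall π H) (h2π : 2 ∈ π) (hcl : OddClosed H) : Good π S := by
  set K := (oddSub hcl).map H.subtype with hK
  have hKH : K ≤ H := map_subtype_le _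
  have hHK : H ≤ normalizer (K : Set S) := by
    have := oddSub_normal hcl
    have h1 : (K.subgroupOf H).Normal := by
      rw [hK, subgroupOf, comap_map_eq_self_of_injective H.subtype_injective]
      exact this
    exact (normal_subgroupOf_iff_le_normalizer hKH).mp h1
  have hKc : Nat.card K = Nat.card (oddSub hcl) := card_map_of_injective H.subtype_injective
  have hKi : K.relIndex H = (oddSub hcl).index := by
    show (K.subgroupOf H).index = _
    rw [hK, subgroupOf, comap_map_eq_self_of_injective H.subtype_injective]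
  have hodd2 := odd_card_oddSub hcl
  by_cases h1 : K = ⊥
  · -- `H` is a 2-group
    have h2 : ∀ p : ℕ, p.Prime → p ∣ Nat.card H → p = 2 := by
      intro p hp hd
      apply index_oddSub hcl p hp
      rw [← hKi, h1, relIndex_bot_left]
      exact hd
    have := Fact.mk Nat.prime_two
    have hp2 : IsPGroup 2 H := by
      rw [IsPGroup.iff_card]
      exact ⟨_, Nat.eq_prime_pow_of_unique_prime_dvd Nat.card_pos.ne' fun {p} hp hd => h2 p hp hd⟩
    have hi2 : ¬ 2 ∣ H.index := hH.2 2 Nat.prime_two h2π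
    refine good_of_sylow hna (hp2.toSylow hi2) ?_ H hH ?_
    · by_contra hd
      apply hna
      have h3 : Group.IsSolvable S := by
        apply Cfsg.Agent.S0205.result
        rw [← Nat.not_even_iff_odd, even_iff_two_dvd]
        exact hd
      exact ⟨⟨fun a b => IsSimpleGroup.comm_iff_isSolvable.mpr h3 a b⟩⟩
    · exact le_normalizer
  · refine good_of_oddHall hna hodd (σ := {p | p ∈ π ∧ p ≠ 2}) (fun h => h.2 rfl) K ?_ h1 H hH hHK
    refine ⟨?_, ?_⟩
    · intro p hp hd
      refine ⟨hH.1 p hp (hd.trans (card_dvd_of_le hKH)), ?_⟩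
      rintro rfl
      rw [hKc, ← even_iff_two_dvd, ← Nat.not_odd_iff_even] at hd
      exact hd hodd2
    · intro p hp hpπ hd
      rw [← relIndex_mul_index hKH] at hd
      rcases (hp.dvd_mul).mp hd with hd | hd
      · rw [hKi] at hd
        exact hpπ.2 (index_oddSub hcl p hp hd)
      · exact hH.2 p hp hpπ.1 hd

/-- groups all of whose automorphisms are inner -/
theorem good_of_inner (hin : ∀ φ : MulAut S, ∃ s : S, φ = MulAut.conj s) (H : Subgroup S)
    (hH : IsPiHall π H) (h1 : H ≠ ⊥) (h2 : H ≠ ⊤) : Good π S :=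
  ⟨H, h1, h2, fun φ => by obtain ⟨s, rfl⟩ := hin φ; exact ⟨s, rfl⟩, H, hH, le_normalizer⟩

theorem Good.of_equiv {S S' : Type*} [Group S] [Group S'] (e : S ≃* S') (h : Good π S) : Good π S' := by
  obtain ⟨K, hK1, hK2, hK3, H, hH, hHK⟩ := h
  refine ⟨K.map e.toMonoidHom, ?_, ?_, ?_, H.map e.toMonoidHom, ⟨?_, ?_⟩, ?_⟩
  · intro h
    exact hK1 ((Subgroup.map_eq_bot_iff_of_injective K e.injective).mp h)
  · intro h
    apply hK2
    rw [eq_top_iff]
    intro x _
    have : e x ∈ K.map e.toMonoidHom := by rw [h]; exact mem_top _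
    obtain ⟨y, hy, hyx⟩ := this
    rwa [← e.injective hyx]
  · intro φ
    let ψ : MulAut S := (e.trans φ).trans e.symm
    obtain ⟨s, hs⟩ := hK3 ψ
    refine ⟨e s, ?_⟩
    have h1 : φ • K.map e.toMonoidHom = (ψ • K).map e.toMonoidHom := by
      ext x
      simp only [mem_smul_pointwise_iff_exists, mem_map]
      constructor
      · rintro ⟨a, ⟨b, hb, rfl⟩, rfl⟩
        refine ⟨ψ b, ⟨b, hb, rfl⟩, ?_⟩
        show e (e.symm (φ (e b))) = φ (e b)
        simp
      · rintro ⟨a, ⟨b, hb, rfl⟩, rfl⟩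
        refine ⟨e b, ⟨b, hb, rfl⟩, ?_⟩
        show φ (e b) = e (e.symm (φ (e b)))
        simp
    rw [h1, hs, Cfsg.Agent.Solvable.SZ.map_conj_smul]
    rfl
  · rw [card_map_of_injective e.injective]; exact hH.1
  · rw [show (H.map e.toMonoidHom).index = H.index from index_map_equiv H e]
    exact hH.2
  · rintro _ ⟨x, hx, rfl⟩
    have hx' := hHK hx
    rw [mem_normalizer_iff] at hx' ⊢
    intro y
    constructor
    · rintro ⟨a, ha, rfl⟩
      exact ⟨x * a * x⁻¹, (hx' a).mp ha, by simp⟩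
    · rintro ⟨a, ha, hay⟩
      refine ⟨x⁻¹ * a * x, ?_, ?_⟩
      · rw [SetLike.mem_coe, hx']
        have h5 : x * (x⁻¹ * a * x) * x⁻¹ = a := by group
        rw [h5]
        exact ha
      · have : e a = e x * y * (e x)⁻¹ := hay
        show e (x⁻¹ * a * x) = y
        rw [map_mul, map_mul, map_inv, this]
        group

end Cfsg.Agent.H553.ExtRed
end

-- part: H553/GoodAlt
section
set_option linter.all false
open scoped Cfsg.Agent.FastGrp

/-!
# The alternating row of S4312 (helper553)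
-/

set_option autoImplicit false

namespace Cfsg.Agent.H553.ExtRed

open Subgroup Cfsg Cfsg.Agent.H988.CPi Cfsg.Agent.H553.OddHall
open scoped Pointwise

variable {π : Set ℕ}

theorem IsEPi_of_equiv {G G' : Type*} [Group G] [Group G'] (e : G ≃* G') (h : IsEPiGroup π G) : IsEPiGroup π G' := by
  obtain ⟨H, hH⟩ := h
  refine ⟨H.map e.toMonoidHom, ?_, ?_⟩
  · have : PiN π (Nat.card (H.map e.toMonoidHom)) := by
      rw [card_map_of_injective e.injective]; exact hH.1
    exact this
  · have : PiN' π (H.map e.toMonoidHom).index := by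
      rw [show (H.map e.toMonoidHom).index = H.index from index_map_equiv H e]; exact hH.2
    exact this

/-- A 2-group is `OddClosed`. -/
theorem oddClosed_of_two {X : Type*} [Group X] [Finite X] (h : ∀ p : ℕ, p.Prime → p ∣ Nat.card X → p = 2) :
    OddClosed X := by
  have key : ∀ x : X, Odd (orderOf x) → x = 1 := by
    intro x hx
    by_contra hne
    have h1 : orderOf x ≠ 1 := fun h => hne (orderOf_eq_one_iff.mp h)
    obtain ⟨p, hp, hpd⟩ := Nat.exists_prime_and_dvd h1
    have := h p hp (hpd.trans (orderOf_dvd_natCard x))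
    subst this
    rw [← Nat.not_even_iff_odd, even_iff_two_dvd] at hx
    exact hx hpd
  intro x y hx hy
  rw [key x hx, key y hy]
  simp

theorem good_alternating {S : Type*} [Group S] [Finite S] [IsSimpleGroup S] (hna : ¬ IsMulCommutative S)
    (h : IsAlternating S) (h2 : 2 ∈ π) (h3 : 3 ∉ π) (hE : IsEPiGroup π S) : Good π S := by
  obtain ⟨n, hn, ⟨e⟩⟩ := h
  have hEn : IsEPiGroup π (Equiv.Perm (Fin n)) := by
    obtain ⟨-, h1, -⟩ := Cfsg.Agent.S2535.result n π
    exact h1.mpr (IsEPi_of_equiv e hE)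
  have hp2 : ∀ p : ℕ, p.Prime → p ∈ π → p ≤ n → p = 2 := by
    intro p hp hpπ hpn
    by_contra hne
    have h5 := (Cfsg.Agent.S2536.result n π ⟨2, p, Nat.prime_two, hp, fun h => hne h.symm, h2, hpπ, by omega, hpn⟩
      ⟨3, Nat.prime_three, by omega, h3⟩).mp hEn
    rcases h5 with ⟨hnp, h6⟩ | ⟨hn78, h6⟩
    · have h7 := h6 3 Nat.prime_three (by omega)
      exact h3 (h7.mpr (by omega))
    · have h7 := h6 3 Nat.prime_three (by omega)
      exact h3 (h7.mpr (Or.inr rfl))
  obtain ⟨H, hH⟩ := hE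
  refine good_of_oddClosed hna (Cfsg.Agent.H553.OddAlt.oddC_alternating ⟨n, hn, ⟨e⟩⟩) H hH h2
    (oddClosed_of_two fun p hp hd => hp2 p hp (hH.1 p hp hd) ?_)
  -- `p` divides `n!`
  have h8 : Nat.card S ∣ n.factorial := by
    rw [Nat.card_congr e.toEquiv]
    have := card_subgroup_dvd_card (alternatingGroup (Fin n))
    rwa [Nat.card_eq_fintype_card (α := Equiv.Perm (Fin n)), Fintype.card_perm, Fintype.card_fin] at this
  exact (Nat.Prime.dvd_factorial hp).mp ((hd.trans (card_subgroup_dvd_card H)).trans h8)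

end Cfsg.Agent.H553.ExtRed
end

-- part: H170/Fl/Defs
section
set_option linter.all false

/-!
# Groups `R = 2^{1+4}_+` acting on a four-dimensional subspace (helper170)

`QR ρ R`: `R` is a 2-group, `U = [V, R]` has dimension 4, is absolutely irreducible for `R`, squares of elements of `R`
act on `U` as `±1`, and `R` is generated by involutions `x` with `dim [V, x] ≤ 2`.

`ClaimB ρ f`: if `R`, `R'` are such groups and `⟨R, R'⟩` has order prime to 3 and to the characteristic then `[V, R] =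
[V, R']` or `[V, R]` and `[V, R']` are orthogonal. (Proved in `H170.Fl.Claim`.)
-/

set_option autoImplicit false

namespace Cfsg.Agent.H170.Fl

open Module Cfsg.Agent.H167.OP Cfsg.Agent.H170.HL

variable {F : Type*} [Field F] {V : Type*} [AddCommGroup V] [Module F V] {G : Type*} [Group G]

/-- see the header -/
structure QR (ρ : Representation F G V) (R : Subgroup G) : Prop where
  pg : IsPGroup 2 R
  dim : finrank F (CV ρ R) = 4
  irr : ∀ M : Submodule F V, M ≤ CV ρ R → (∀ r ∈ R, ∀ m ∈ M, ρ r m ∈ M) → M = ⊥ ∨ M = CV ρ R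
  sq : ∀ a ∈ R, (∀ u ∈ CV ρ R, ρ (a * a) u = u) ∨ (∀ u ∈ CV ρ R, ρ (a * a) u = -u)
  gen : ∃ S : Set G, Subgroup.closure S = R ∧ ∀ x ∈ S, x * x = 1 ∧ rk ρ x ≤ 2
  scal : ∀ φ : Module.End F V, (∀ r ∈ R, ∀ v, φ (ρ r v) = ρ r (φ v)) → ∃ c : F, ∀ u ∈ CV ρ R, φ u = c • u

/-- the claim -/
def ClaimB (ρ : Representation F G V) (f : V →ₗ[F] V →ₗ[F] F) : Prop :=
  ∀ R R' : Subgroup G, QR ρ R → QR ρ R' → ¬ 3 ∣ Nat.card (R ⊔ R' : Subgroup G) →
    (Nat.card (R ⊔ R' : Subgroup G) : F) ≠ 0 →
    CV ρ R = CV ρ R' ∨ ∀ u ∈ CV ρ R, ∀ u' ∈ CV ρ R', f u u' = 0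

end Cfsg.Agent.H170.Fl
end

-- part: H556/OmQR
section
prune_inst 0x357075044c62100000180000b0001c42b2000422004b0000880002040fc8086020042621a0300106021808c50031006813540010420000000a000800011d00800000100481080000000090000080000000000000000000000000000000000004000000000
set_option linter.all false
open scoped Cfsg.Agent.FastGrp

-- part: H556/OmMono
section
/-!
# Monomial isometries attached to orthonormal families (helper556)

`Frame f e`: `f (e i) (e i) = 2` and `f (e i) (e j) = 0` for `i ≠ j`.  `mono f e s σ` maps `e j` to `s j • e (σ j)` and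
is the identity on the orthogonal complement.
-/

set_option autoImplicit false
set_option linter.unusedSectionVars false

namespace Cfsg.Agent.H556.Om

open Module

variable {F : Type*} [Field F] {V : Type*} [AddCommGroup V] [Module F V] (f : V →ₗ[F] V →ₗ[F] F)
variable {J : Type*} [Fintype J] [DecidableEq J]

/-- orthonormal families -/
structure Frame (e : J → V) : Prop where
  self : ∀ i, f (e i) (e i) = 2
  orth : ∀ i j, i ≠ j → f (e i) (e j) = 0

/-- monomial maps -/
noncomputable def mono (e : J → V) (s : J → F) (σ : J → J) : Module.End F V :=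
  1 + ∑ j, (f (e j)).smulRight ((2 : F)⁻¹ • (s j • e (σ j) - e j))

variable {f} {e : J → V} {s t : J → F} {σ τ : J → J}

theorem mono_apply (v : V) : mono f e s σ v = v + ∑ j, f (e j) v • ((2 : F)⁻¹ • (s j • e (σ j) - e j)) := by
  simp [mono, LinearMap.add_apply, LinearMap.sum_apply]

theorem mono_orth {v : V} (h : ∀ j, f (e j) v = 0) : mono f e s σ v = v := by
  rw [mono_apply, Finset.sum_eq_zero fun j _ => by rw [h j, zero_smul], add_zero]

theorem Frame.form (hF : Frame f e) (i j : J) : f (e i) (e j) = if i = j then 2 else 0 := by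
  split_ifs with h
  · rw [h, hF.self]
  · exact hF.orth i j h

theorem mono_e (hF : Frame f e) (h2 : (2 : F) ≠ 0) (j : J) : mono f e s σ (e j) = s j • e (σ j) := by
  rw [mono_apply, Finset.sum_eq_single j]
  · rw [hF.self, smul_smul, mul_inv_cancel₀ h2, one_smul]
    abel
  · intro i _ hi
    rw [hF.orth i j hi, zero_smul]
  · intro h
    exact absurd (Finset.mem_univ j) h

theorem exists_decomp (hF : Frame f e) (h2 : (2 : F) ≠ 0) (v : V) :
    ∃ (c : J → F) (w : V), (∀ j, f (e j) w = 0) ∧ v = ∑ j, c j • e j + w := by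
  refine ⟨fun j => (2 : F)⁻¹ * f (e j) v, v - ∑ j, ((2 : F)⁻¹ * f (e j) v) • e j, ?_, ?_⟩
  · intro j
    rw [map_sub, map_sum, Finset.sum_eq_single j]
    · rw [map_smul, hF.self, smul_eq_mul, mul_comm, ← mul_assoc, mul_inv_cancel₀ h2, one_mul, sub_self]
    · intro i _ hi
      rw [map_smul, hF.orth j i hi.symm, smul_zero]
    · intro h
      exact absurd (Finset.mem_univ j) h
  · abel

theorem ext_frame (hF : Frame f e) (h2 : (2 : F) ≠ 0) {φ ψ : Module.End F V} (h1 : ∀ j, φ (e j) = ψ (e j))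
    (h3 : ∀ w, (∀ j, f (e j) w = 0) → φ w = ψ w) : φ = ψ := by
  apply LinearMap.ext
  intro v
  obtain ⟨c, w, hw, rfl⟩ := exists_decomp hF h2 v
  rw [map_add, map_add, map_sum, map_sum, h3 w hw]
  congr 1
  refine Finset.sum_congr rfl fun j _ => ?_
  rw [map_smul, map_smul, h1 j]

theorem mono_mul (hF : Frame f e) (h2 : (2 : F) ≠ 0) :
    mono f e s σ * mono f e t τ = mono f e (fun j => t j * s (τ j)) (σ ∘ τ) := by
  refine ext_frame hF h2 (fun j => ?_) fun w hw => ?_
  · rw [Module.End.mul_apply, mono_e hF h2, map_smul, mono_e hF h2, mono_e hF h2, smul_smul]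
    rfl
  · rw [Module.End.mul_apply, mono_orth hw, mono_orth hw, mono_orth hw]

theorem mono_one (hF : Frame f e) (h2 : (2 : F) ≠ 0) {s : J → F} {σ : J → J} (hs : ∀ j, s j = 1) (hσ : ∀ j, σ j = j) :
    mono f e s σ = 1 := by
  refine ext_frame hF h2 (fun j => ?_) fun w hw => ?_
  · rw [mono_e hF h2, hs, hσ, one_smul, Module.End.one_apply]
  · rw [mono_orth hw, Module.End.one_apply]

theorem frame_smul (hF : Frame f e) (hs : ∀ j, s j * s j = 1) (hσ : Function.Injective σ) :
    Frame f (fun j => s j • e (σ j)) := by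
  refine ⟨fun i => ?_, fun i j hij => ?_⟩
  · rw [map_smul, map_smul, LinearMap.smul_apply, hF.self, smul_eq_mul, smul_eq_mul, ← mul_assoc, hs, one_mul]
  · rw [map_smul, map_smul, LinearMap.smul_apply, hF.orth _ _ (fun h => hij (hσ h)), smul_zero, smul_zero]

theorem frame_form (hsym : ∀ u v, f u v = f v u) (hF : Frame f e) (c d : J → F) {v w : V}
    (hv : ∀ j, f (e j) v = 0) (hw : ∀ j, f (e j) w = 0) :
    f (∑ j, c j • e j + v) (∑ j, d j • e j + w) = ∑ j, 2 * (c j * d j) + f v w := by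
  have h1 : ∀ x : V, (∀ j, f (e j) x = 0) → f (∑ j, c j • e j) x = 0 := by
    intro x hx
    rw [map_sum, LinearMap.sum_apply, Finset.sum_eq_zero]
    intro j _
    rw [map_smul, LinearMap.smul_apply, hx j, smul_zero]
  have h2 : f v (∑ j, d j • e j) = 0 := by
    rw [map_sum, Finset.sum_eq_zero]
    intro j _
    rw [map_smul, hsym, hv j, smul_zero]
  rw [map_add, map_add, LinearMap.add_apply, LinearMap.add_apply, h2, h1 w hw, add_zero, zero_add]
  congr 1
  rw [map_sum]
  refine Finset.sum_congr rfl fun i _ => ?_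
  rw [map_smul, map_sum, LinearMap.sum_apply, Finset.sum_eq_single i]
  · rw [map_smul, LinearMap.smul_apply, hF.self, smul_eq_mul, smul_eq_mul]
    ring
  · intro j _ hj
    rw [map_smul, LinearMap.smul_apply, hF.orth j i hj, smul_zero]
  · intro h
    exact absurd (Finset.mem_univ i) h

/-- monomial maps are isometries -/
theorem mono_form (hsym : ∀ u v, f u v = f v u) (hF : Frame f e) (h2 : (2 : F) ≠ 0) (hs : ∀ j, s j * s j = 1)
    (hσ : Function.Injective σ) (u v : V) : f (mono f e s σ u) (mono f e s σ v) = f u v := by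
  have hbij : Function.Bijective σ := Finite.injective_iff_bijective.mp hσ
  obtain ⟨c, u', hu', rfl⟩ := exists_decomp hF h2 u
  obtain ⟨d, v', hv', rfl⟩ := exists_decomp hF h2 v
  have hF' := frame_smul hF hs hσ
  have h3 : ∀ (c : J → F) (w : V), (∀ j, f (e j) w = 0) → mono f e s σ (∑ j, c j • e j + w) =
      ∑ j, c j • (s j • e (σ j)) + w := by
    intro c w hw
    rw [map_add, map_sum, mono_orth hw]
    congr 1
    refine Finset.sum_congr rfl fun j _ => ?_
    rw [map_smul, mono_e hF h2]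
  have h4 : ∀ w : V, (∀ j, f (e j) w = 0) → ∀ j, f (s j • e (σ j)) w = 0 := by
    intro w hw j
    rw [map_smul, LinearMap.smul_apply, hw, smul_zero]
  rw [h3 c u' hu', h3 d v' hv', frame_form hsym hF' c d (h4 u' hu') (h4 v' hv'), frame_form hsym hF c d hu' hv']

/-- translates of frames -/
theorem mono_comp {g g' : Module.End F V} (hg : ∀ u v, f (g u) v = f u (g' v)) (hgg : ∀ v, g (g' v) = v) (v : V) :
    mono f (fun j => g (e j)) s σ v = g (mono f e s σ (g' v)) := by
  rw [mono_apply, mono_apply, map_add, map_sum, hgg]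
  congr 1
  refine Finset.sum_congr rfl fun j _ => ?_
  rw [hg, map_smul, map_smul, map_sub, map_smul]

theorem Frame.comp (hF : Frame f e) {K : Type*} [Fintype K] [DecidableEq K] {κ : K → J} (hκ : Function.Injective κ) :
    Frame f (e ∘ κ) :=
  ⟨fun _ => hF.self _, fun _ _ h => hF.orth _ _ fun h' => h (hκ h')⟩

theorem Frame.map (hF : Frame f e) {g : V → V} (hg : ∀ u v, f (g u) (g v) = f u v) : Frame f (fun j => g (e j)) :=
  ⟨fun i => by rw [hg, hF.self], fun i j h => by rw [hg, hF.orth i j h]⟩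

/-- a monomial map on part of a frame -/
theorem mono_sub {K : Type*} [Fintype K] [DecidableEq K] {κ : K → J} (hκ : Function.Injective κ)
    (hF : Frame f e) (h2 : (2 : F) ≠ 0) {s : K → F} {σ : K → K} {s' : J → F} {σ' : J → J}
    (hs : ∀ k, s' (κ k) = s k) (hσ : ∀ k, σ' (κ k) = κ (σ k)) (hs' : ∀ j, (∀ k, j ≠ κ k) → s' j = 1)
    (hσ' : ∀ j, (∀ k, j ≠ κ k) → σ' j = j) : mono f (e ∘ κ) s σ = mono f e s' σ' := by
  refine ext_frame hF h2 (fun j => ?_) fun w hw => ?_
  · rw [mono_e hF h2]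
    by_cases hj : ∃ k, j = κ k
    · obtain ⟨k, rfl⟩ := hj
      rw [hs, hσ]
      exact mono_e (hF.comp hκ) h2 k
    · push Not at hj
      rw [hs' j hj, hσ' j hj, one_smul]
      exact mono_orth (e := e ∘ κ) fun k => hF.orth _ _ (hj k).symm
  · rw [mono_orth hw]
    exact mono_orth (e := e ∘ κ) fun k => hw (κ k)

/-- coordinates -/
theorem Frame.eq_zero (hF : Frame f e) (h2 : (2 : F) ≠ 0) {c : J → F} (h : ∑ j, c j • e j = 0) (j : J) : c j = 0 := by
  have h1 := congrArg (f (e j)) h
  rw [map_sum, map_zero, Finset.sum_eq_single j] at h1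
  · rw [map_smul, hF.self, smul_eq_mul] at h1
    exact (mul_eq_zero.mp h1).resolve_right h2
  · intro i _ hi
    rw [map_smul, hF.orth j i hi.symm, smul_zero]
  · intro h
    exact absurd (Finset.mem_univ j) h

theorem Frame.linearIndependent (hF : Frame f e) (h2 : (2 : F) ≠ 0) : LinearIndependent F e := by
  rw [Fintype.linearIndependent_iff]
  exact fun c hc j => hF.eq_zero h2 hc j

end Cfsg.Agent.H556.Om
end

-- part: H556/OmGrp
section
/-!
# Monomial elements of `Omega` (helper556)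
-/

set_option autoImplicit false
set_option linter.unusedSectionVars false

namespace Cfsg.Agent.H556.Om

open Module QuadraticMap Cfsg.Agent.H167.OP Cfsg.Agent.H170.HL Cfsg.Agent.H170.HL.OmRow

variable {F : Type*} [Field F] {ι : Type} [Fintype ι] [DecidableEq ι] {Q : QuadraticForm F (ι → F)}
variable {J : Type*} [Fintype J] [DecidableEq J] {e : J → ι → F}

theorem polar_symm (u v : ι → F) : polarBilin Q u v = polarBilin Q v u := by
  rw [polar_sym Q u v, one_mul]

theorem polar_self (v : ι → F) : polarBilin Q v v = 2 * Q v := by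
  rw [polarBilin_apply_apply, QuadraticMap.polar_self, two_smul, two_mul]

theorem Q_eq_of (h2 : (2 : F) ≠ 0) {z : Module.End F (ι → F)}
    (hz : ∀ u v, polarBilin Q (z u) (z v) = polarBilin Q u v) (v : ι → F) : Q (z v) = Q v := by
  have h := hz v v
  rw [polar_self, polar_self] at h
  exact mul_left_cancel₀ h2 h

theorem exists_iso (h2 : (2 : F) ≠ 0) (hF : Frame (polarBilin Q) e) (s : J → F) (σ : Equiv.Perm J)
    (hs : ∀ j, s j * s j = 1) :
    ∃ g : Cfsg.isometryGroup F (⇑Q), rep (inc' (⇑Q)) g = mono (polarBilin Q) e s σ := by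
  refine exists_of_iso (⇑Q) _ (mono (polarBilin Q) e (s ∘ σ.symm) σ.symm) ?_ ?_
    (Q_eq_of h2 (mono_form polar_symm hF h2 hs σ.injective))
  · rw [mono_mul hF h2]
    exact mono_one hF h2 (fun j => hs _) fun j => σ.apply_symm_apply j
  · rw [mono_mul hF h2]
    exact mono_one hF h2 (fun j => by simp [hs]) fun j => σ.symm_apply_apply j

/-- the permutation isometries -/
noncomputable def pm (h2 : (2 : F) ≠ 0) (hF : Frame (polarBilin Q) e) :
    Equiv.Perm J →* Cfsg.isometryGroup F (⇑Q) where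
  toFun σ := Classical.choose (exists_iso h2 hF (fun _ => 1) σ fun _ => one_mul 1)
  map_one' := by
    apply rep_injective inc'_injective
    rw [Classical.choose_spec (exists_iso h2 hF (fun _ => 1) 1 fun _ => one_mul 1), map_one]
    exact mono_one hF h2 (fun _ => rfl) fun _ => rfl
  map_mul' σ τ := by
    apply rep_injective inc'_injective
    rw [map_mul, Classical.choose_spec (exists_iso h2 hF (fun _ => 1) σ fun _ => one_mul 1),
      Classical.choose_spec (exists_iso h2 hF (fun _ => 1) τ fun _ => one_mul 1),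
      Classical.choose_spec (exists_iso h2 hF (fun _ => 1) (σ * τ) fun _ => one_mul 1), mono_mul hF h2]
    simp only [mul_one]
    rfl

theorem rep_pm (h2 : (2 : F) ≠ 0) (hF : Frame (polarBilin Q) e) (σ : Equiv.Perm J) :
    rep (inc' (⇑Q)) (pm h2 hF σ) = mono (polarBilin Q) e (fun _ => 1) σ :=
  Classical.choose_spec (exists_iso h2 hF (fun _ => 1) σ fun _ => one_mul 1)

theorem pm_mem (hQ : GoodQ Q) (h2 : (2 : F) ≠ 0) (hF : Frame (polarBilin Q) e) {σ : Equiv.Perm J}
    (hσ : Equiv.Perm.sign σ = 1) : pm h2 hF σ ∈ commutator (Cfsg.isometryGroup F (⇑Q)) := by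
  have h1 : alternatingGroup J ≤ (commutator (Cfsg.isometryGroup F (⇑Q))).comap (pm h2 hF) := by
    rw [← Equiv.Perm.closure_three_cycles_eq_alternating, Subgroup.closure_le]
    intro τ hτ
    have h3 : τ ^ 3 = 1 := by
      have h4 : orderOf τ = 3 := Equiv.Perm.IsThreeCycle.orderOf hτ
      rw [← h4, pow_orderOf_eq_one]
    have h5 : τ = (τ * τ) * (τ * τ) := by
      have : (τ * τ) * (τ * τ) = τ ^ 3 * τ := by
        rw [pow_succ, pow_two]
        simp only [mul_assoc]
      rw [this, h3, one_mul]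
    show pm h2 hF τ ∈ commutator (Cfsg.isometryGroup F (⇑Q))
    rw [h5, map_mul]
    exact hQ.sq _
  exact h1 (Equiv.Perm.mem_alternatingGroup.mpr hσ)

theorem exists_perm (hQ : GoodQ Q) (h2 : (2 : F) ≠ 0) (hF : Frame (polarBilin Q) e) {σ : Equiv.Perm J}
    (hσ : Equiv.Perm.sign σ = 1) :
    ∃ g : Cfsg.Omega F (⇑Q), rep (inc (⇑Q)) g = mono (polarBilin Q) e (fun _ => 1) σ :=
  ⟨⟨pm h2 hF σ, pm_mem hQ h2 hF hσ⟩, rep_pm h2 hF σ⟩

/-- the diagonal sign changes -/
def sg {J : Type*} [DecidableEq J] (F : Type*) [Field F] (i j k : J) : F := if k = i ∨ k = j then -1 else 1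

theorem exists_sg (hQ : GoodQ Q) (h2 : (2 : F) ≠ 0) (hF : Frame (polarBilin Q) e) {i j : J} (hij : i ≠ j) :
    ∃ g : Cfsg.Omega F (⇑Q), rep (inc (⇑Q)) g = mono (polarBilin Q) e (sg F i j) id := by
  let s : J → F := fun k => if k = i then -1 else 1
  have hs : ∀ k, s k * s k = 1 := by
    intro k
    simp only [s]
    split_ifs <;> ring
  obtain ⟨g, hg⟩ := exists_iso h2 hF s (Equiv.swap i j) hs
  refine ⟨⟨g * g, hQ.sq g⟩, ?_⟩
  have h1 : rep (inc (⇑Q)) ⟨g * g, hQ.sq g⟩ = rep (inc' (⇑Q)) (g * g) := rfl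
  rw [h1, map_mul, hg, mono_mul hF h2]
  refine ext_frame hF h2 (fun k => ?_) fun w hw => ?_
  · rw [mono_e hF h2, mono_e hF h2]
    have h3 : s k * s (Equiv.swap i j k) = sg F i j k := by
      simp only [s, sg]
      by_cases h4 : k = i
      · subst h4
        rw [Equiv.swap_apply_left, if_pos rfl, if_neg hij.symm, if_pos (Or.inl rfl), mul_one]
      · by_cases h5 : k = j
        · subst h5
          rw [Equiv.swap_apply_right, if_pos rfl, if_neg h4, if_pos (Or.inr rfl), one_mul]
        · rw [Equiv.swap_apply_of_ne_of_ne h4 h5, if_neg h4, if_neg (by tauto), one_mul]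
    rw [h3]
    congr 1
    show e (Equiv.swap i j (Equiv.swap i j k)) = e k
    rw [Equiv.swap_apply_self]
  · rw [mono_orth hw, mono_orth hw]

/-- the index group -/
abbrev A4 := ZMod 2 × ZMod 2

/-- the group `2^{1+4}_+` attached to a 4-frame -/
def RG (Q : QuadraticForm F (ι → F)) (e : A4 → ι → F) : Subgroup (Cfsg.Omega F (⇑Q)) :=
  Subgroup.closure ({x | ∃ a : A4, a ≠ 0 ∧ rep (inc (⇑Q)) x = mono (polarBilin Q) e (fun _ => 1) (a + ·)} ∪
    {x | ∃ i j : A4, i ≠ j ∧ rep (inc (⇑Q)) x = mono (polarBilin Q) e (sg F i j) id})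

theorem polar_omega (g : Cfsg.Omega F (⇑Q)) (u v : ι → F) :
    polarBilin Q (rep (inc (⇑Q)) g u) (rep (inc (⇑Q)) g v) = polarBilin Q u v :=
  polar_apply Q (g : Cfsg.isometryGroup F (⇑Q)) u v

theorem rep_inj : Function.Injective (rep (inc (⇑Q))) := rep_injective inc_injective

/-- conjugates of monomial elements -/
theorem conj_mono {g x : Cfsg.Omega F (⇑Q)} {s : J → F} {σ : J → J}
    (h : rep (inc (⇑Q)) x = mono (polarBilin Q) (fun j => rep (inc (⇑Q)) g (e j)) s σ) :
    rep (inc (⇑Q)) (g⁻¹ * x * g) = mono (polarBilin Q) e s σ := by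
  apply LinearMap.ext
  intro v
  rw [mul_ap, mul_ap, h, mono_comp (g := rep (inc (⇑Q)) g) (g' := rep (inc (⇑Q)) g⁻¹), inv_ap, inv_ap]
  · intro u v
    rw [← polar_omega g u, ap_inv]
  · intro v
    exact ap_inv _ g v

theorem RG_conj (g : Cfsg.Omega F (⇑Q)) (e : A4 → ι → F) {H : Subgroup (Cfsg.Omega F (⇑Q))} 
    (h : ∀ x ∈ RG Q e, g * x * g⁻¹ ∈ H) : RG Q (fun j => rep (inc (⇑Q)) g (e j)) ≤ H := by
  rw [RG, Subgroup.closure_le]
  intro x hx
  have key : g⁻¹ * x * g ∈ RG Q e := by
    apply Subgroup.subset_closure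
    rcases hx with ⟨a, ha, hx⟩ | ⟨i, j, hij, hx⟩
    · exact Or.inl ⟨a, ha, conj_mono hx⟩
    · exact Or.inr ⟨i, j, hij, conj_mono hx⟩
  have := h _ key
  have h2 : g * (g⁻¹ * x * g) * g⁻¹ = x := by group
  rwa [h2] at this

/-! ### The 2-group attached to a family of frames -/

variable {K : Type*} [Fintype K] [DecidableEq K]

/-- translation on the blocks -/
def blk (a : K → A4) (j : K × A4) : K × A4 := (j.1, a j.1 + j.2)

/-- the big 2-group -/
def BG (h2 : (2 : F) ≠ 0) {E : K × A4 → ι → F} (hF : Frame (polarBilin Q) E) : Subgroup (Cfsg.Omega F (⇑Q)) where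
  carrier := {x | ∃ (s : K × A4 → F) (a : K → A4), (∀ j, s j * s j = 1) ∧
    rep (inc (⇑Q)) x = mono (polarBilin Q) E s (blk a)}
  one_mem' := ⟨fun _ => 1, 0, fun _ => one_mul 1, by
    rw [map_one]
    exact (mono_one hF h2 (fun _ => rfl) fun j => by simp [blk]).symm⟩
  mul_mem' := by
    rintro x y ⟨s, a, hs, hx⟩ ⟨t, b, ht, hy⟩
    refine ⟨fun j => t j * s (blk b j), a + b, fun j => ?_, ?_⟩
    · have h3 := hs (blk b j)
      have h4 := ht j
      calc t j * s (blk b j) * (t j * s (blk b j)) = (t j * t j) * (s (blk b j) * s (blk b j)) := by ring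
        _ = 1 := by rw [h3, h4, one_mul]
    · rw [map_mul, hx, hy, mono_mul hF h2]
      congr 1
      funext j
      simp [blk, add_assoc]
  inv_mem' := by
    rintro x ⟨s, a, hs, hx⟩
    refine ⟨s ∘ blk a, a, fun j => hs _, ?_⟩
    have h3 : mono (polarBilin Q) E (s ∘ blk a) (blk a) * rep (inc (⇑Q)) x = 1 := by
      rw [hx, mono_mul hF h2]
      refine mono_one hF h2 (fun j => ?_) fun j => ?_
      · show s j * s (blk a (blk a j)) = 1
        have : blk a (blk a j) = j := by
          ext <;> simp [blk, ← add_assoc, CharTwo.add_self_eq_zero]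
        rw [this, hs]
      · show blk a (blk a j) = j
        ext <;> simp [blk, ← add_assoc, CharTwo.add_self_eq_zero]
    have h4 : rep (inc (⇑Q)) x * rep (inc (⇑Q)) x⁻¹ = 1 := by rw [← map_mul, mul_inv_cancel, map_one]
    calc rep (inc (⇑Q)) x⁻¹ = (mono (polarBilin Q) E (s ∘ blk a) (blk a) * rep (inc (⇑Q)) x) * rep (inc (⇑Q)) x⁻¹ := by
          rw [h3, one_mul]
      _ = _ := by rw [mul_assoc, h4, mul_one]

theorem BG_isPGroup (h2 : (2 : F) ≠ 0) {E : K × A4 → ι → F} (hF : Frame (polarBilin Q) E) :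
    IsPGroup 2 (BG h2 hF) := by
  rintro ⟨x, s, a, hs, hx⟩
  refine ⟨2, Subtype.ext ?_⟩
  show x ^ 2 ^ 2 = 1
  apply rep_inj
  have h3 : rep (inc (⇑Q)) (x * x) = mono (polarBilin Q) E (fun j => s j * s (blk a j)) id := by
    rw [map_mul, hx, mono_mul hF h2]
    congr 1
    funext j
    ext <;> simp [blk, ← add_assoc, CharTwo.add_self_eq_zero]
  have h4 : x ^ 2 ^ 2 = (x * x) * (x * x) := by
    rw [pow_succ, pow_one, pow_mul, pow_two, pow_two]
  rw [h4, map_mul, h3, mono_mul hF h2, map_one]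
  refine mono_one hF h2 (fun j => ?_) fun j => rfl
  show s j * s (blk a j) * (s j * s (blk a j)) = 1
  calc s j * s (blk a j) * (s j * s (blk a j)) = (s j * s j) * (s (blk a j) * s (blk a j)) := by ring
    _ = 1 := by rw [hs, hs, one_mul]

/-- the frame of a block -/
def Ek (E : K × A4 → ι → F) (k : K) : A4 → ι → F := fun a => E (k, a)

theorem Ek_frame {E : K × A4 → ι → F} (hF : Frame (polarBilin Q) E) (k : K) : Frame (polarBilin Q) (Ek E k) :=
  ⟨fun _ => hF.self _, fun _ _ h => hF.orth _ _ fun h' => h (congrArg Prod.snd h')⟩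

theorem RG_le_BG (h2 : (2 : F) ≠ 0) {E : K × A4 → ι → F} (hF : Frame (polarBilin Q) E) (k : K) :
    RG Q (Ek E k) ≤ BG h2 hF := by
  have hκ : Function.Injective fun a : A4 => ((k, a) : K × A4) := fun a b h => congrArg Prod.snd h
  have hEk : Ek E k = E ∘ fun a : A4 => ((k, a) : K × A4) := rfl
  have hout : ∀ j : K × A4, (∀ a : A4, j ≠ (k, a)) → j.1 ≠ k := by
    rintro ⟨l, b⟩ h rfl
    exact h b rfl
  rw [RG, Subgroup.closure_le]
  rintro x (⟨a, -, hx⟩ | ⟨i, j, -, hx⟩)
  · refine ⟨fun _ => 1, fun l => if l = k then a else 0, fun _ => one_mul 1, ?_⟩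
    rw [hx, hEk]
    refine mono_sub hκ hF h2 (fun _ => rfl) (fun b => ?_) (fun _ _ => rfl) fun j hj => ?_
    · simp [blk]
    · simp [blk, hout j hj]
  · refine ⟨fun l => if l.1 = k then sg F i j l.2 else 1, 0, fun l => ?_, ?_⟩
    · show (if l.1 = k then sg F i j l.2 else 1) * (if l.1 = k then sg F i j l.2 else 1) = 1
      unfold sg
      split_ifs <;> ring
    · rw [hx, hEk]
      refine mono_sub hκ hF h2 (fun b => ?_) (fun b => ?_) (fun l hl => ?_) fun l hl => ?_
      · simp
      · simp [blk]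
      · simp [hout l hl]
      · simp [blk]

end Cfsg.Agent.H556.Om
end

-- part: H556/OmQR
section
/-!
# `RG Q e` satisfies `QR` (helper556)
-/

set_option autoImplicit false
set_option linter.unusedSectionVars false

namespace Cfsg.Agent.H556.Om

open Module QuadraticMap Cfsg.Agent.H167.OP Cfsg.Agent.H170.HL Cfsg.Agent.H170.HL.OmRow Cfsg.Agent.H170.Fl

variable {F : Type*} [Field F] {ι : Type} [Fintype ι] [DecidableEq ι] {Q : QuadraticForm F (ι → F)}
variable {e : A4 → ι → F}

theorem sign_addLeft (a : A4) : Equiv.Perm.sign (Equiv.addLeft a) = 1 := by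
  revert a
  decide

theorem exists_T (hQ : GoodQ Q) (h2 : (2 : F) ≠ 0) (hF : Frame (polarBilin Q) e) (a : A4) :
    ∃ x ∈ RG Q e, rep (inc (⇑Q)) x = mono (polarBilin Q) e (fun _ => 1) (a + ·) := by
  by_cases ha : a = 0
  · refine ⟨1, Subgroup.one_mem _, ?_⟩
    rw [map_one]
    exact (mono_one hF h2 (fun _ => rfl) fun j => by simp [ha]).symm
  · obtain ⟨x, hx⟩ := exists_perm hQ h2 hF (sign_addLeft a)
    exact ⟨x, Subgroup.subset_closure (Or.inl ⟨a, ha, hx⟩), hx⟩

theorem exists_D (hQ : GoodQ Q) (h2 : (2 : F) ≠ 0) (hF : Frame (polarBilin Q) e) {i j : A4} (hij : i ≠ j) :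
    ∃ x ∈ RG Q e, rep (inc (⇑Q)) x = mono (polarBilin Q) e (sg F i j) id := by
  obtain ⟨x, hx⟩ := exists_sg hQ h2 hF hij
  exact ⟨x, Subgroup.subset_closure (Or.inr ⟨i, j, hij, hx⟩), hx⟩

theorem prod_sg {i j : A4} (hij : i ≠ j) : ∏ k, sg F i j k = 1 := by
  have h1 : ∀ k, sg F i j k = (if k = i then -1 else 1) * (if k = j then -1 else 1) := by
    intro k
    unfold sg
    by_cases h3 : k = i
    · subst h3
      rw [if_pos (Or.inl rfl), if_pos rfl, if_neg hij, mul_one]
    · by_cases h4 : k = j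
      · subst h4
        rw [if_pos (Or.inr rfl), if_neg h3, if_pos rfl, one_mul]
      · rw [if_neg (by tauto), if_neg h3, if_neg h4, one_mul]
  rw [Finset.prod_congr rfl fun k _ => h1 k, Finset.prod_mul_distrib, Finset.prod_ite_eq', Finset.prod_ite_eq',
    if_pos (Finset.mem_univ _), if_pos (Finset.mem_univ _)]
  ring

/-- the shape of the elements -/
theorem shape (h2 : (2 : F) ≠ 0) (hF : Frame (polarBilin Q) e) {x : Cfsg.Omega F (⇑Q)} (hx : x ∈ RG Q e) :
    ∃ (s : A4 → F) (a : A4), (∀ j, s j * s j = 1) ∧ ∏ j, s j = 1 ∧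
      rep (inc (⇑Q)) x = mono (polarBilin Q) e s (a + ·) := by
  induction hx using Subgroup.closure_induction with
  | mem x hx =>
    rcases hx with ⟨a, -, hx⟩ | ⟨i, j, hij, hx⟩
    · exact ⟨fun _ => 1, a, fun _ => one_mul 1, by simp, hx⟩
    · refine ⟨sg F i j, 0, fun k => ?_, prod_sg hij, ?_⟩
      · unfold sg
        split_ifs <;> ring
      · rw [hx]
        congr 1
        funext k
        simp
  | one =>
    refine ⟨fun _ => 1, 0, fun _ => one_mul 1, by simp, ?_⟩
    rw [map_one]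
    exact (mono_one hF h2 (fun _ => rfl) fun j => by simp).symm
  | mul x y _ _ ihx ihy =>
    obtain ⟨s, a, hs, hs1, hx⟩ := ihx
    obtain ⟨t, b, ht, ht1, hy⟩ := ihy
    refine ⟨fun j => t j * s (b + j), a + b, fun j => ?_, ?_, ?_⟩
    · calc t j * s (b + j) * (t j * s (b + j)) = (t j * t j) * (s (b + j) * s (b + j)) := by ring
        _ = 1 := by rw [hs, ht, one_mul]
    · rw [Finset.prod_mul_distrib, ht1, one_mul, ← hs1]
      exact Equiv.prod_comp (Equiv.addLeft b) s
    · rw [map_mul, hx, hy, mono_mul hF h2]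
      congr 1
      funext j
      simp [add_assoc]
  | inv x _ ih =>
    obtain ⟨s, a, hs, hs1, hx⟩ := ih
    refine ⟨fun j => s (a + j), a, fun j => hs _, ?_, ?_⟩
    · rw [← hs1]
      exact Equiv.prod_comp (Equiv.addLeft a) s
    · have h3 : mono (polarBilin Q) e (fun j => s (a + j)) (a + ·) * rep (inc (⇑Q)) x = 1 := by
        rw [hx, mono_mul hF h2]
        refine mono_one hF h2 (fun j => ?_) fun j => ?_
        · show s j * s (a + (a + j)) = 1
          rw [← add_assoc, CharTwo.add_self_eq_zero, zero_add, hs]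
        · show a + (a + j) = j
          rw [← add_assoc, CharTwo.add_self_eq_zero, zero_add]
      have h4 : rep (inc (⇑Q)) x * rep (inc (⇑Q)) x⁻¹ = 1 := by rw [← map_mul, mul_inv_cancel, map_one]
      calc rep (inc (⇑Q)) x⁻¹ = (mono (polarBilin Q) e (fun j => s (a + j)) (a + ·) * rep (inc (⇑Q)) x) *
            rep (inc (⇑Q)) x⁻¹ := by rw [h3, one_mul]
        _ = _ := by rw [mul_assoc, h4, mul_one]

theorem exists_b : ∀ a : A4, a ≠ 0 → ∃ b : A4, b ≠ 0 ∧ b ≠ a ∧ ∀ j : A4, j = 0 ∨ j = a ∨ j = b ∨ j = a + b := by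
  decide

theorem const_aux {s : A4 → F} (hs : ∀ j, s j * s j = 1) (hs1 : ∏ j, s j = 1) (a : A4) :
    ∃ c : F, (c = 1 ∨ c = -1) ∧ ∀ j, s j * s (a + j) = c := by
  have hs' : ∀ j, s j = 1 ∨ s j = -1 := fun j => mul_self_eq_one_iff.mp (hs j)
  have hp : s (0, 0) * s (0, 1) * (s (1, 0) * s (1, 1)) = 1 := by
    rw [← hs1, Fintype.prod_prod_type]
    show _ = ∏ x : Fin 2, ∏ y : Fin 2, s (x, y)
    rw [Fin.prod_univ_two, Fin.prod_univ_two, Fin.prod_univ_two]
    rfl
  have h3 : ∀ i j : A4, s i * s j = 1 ∨ s i * s j = -1 := by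
    intro i j
    apply mul_self_eq_one_iff.mp
    calc s i * s j * (s i * s j) = (s i * s i) * (s j * s j) := by ring
      _ = 1 := by rw [hs, hs, one_mul]
  have h4 : ∀ x y z w : F, x * x = 1 → y * y = 1 → z * z = 1 → w * w = 1 → x * y * (z * w) = 1 → x * y = z * w := by
    intro x y z w hx hy hz hw h
    have h5 : x * y * (z * w) * (z * w) = z * w := by rw [h, one_mul]
    calc x * y = x * y * (z * z) * (w * w) := by rw [hz, hw]; ring
      _ = x * y * (z * w) * (z * w) := by ring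
      _ = z * w := h5
  have h00 := hs (0, 0)
  have h01 := hs (0, 1)
  have h10 := hs (1, 0)
  have h11 := hs (1, 1)
  have e1 := h4 _ _ _ _ h00 h01 h10 h11 hp
  have e2 := h4 _ _ _ _ h00 h10 h01 h11 (by rw [← hp]; ring)
  have e3 := h4 _ _ _ _ h00 h11 h01 h10 (by rw [← hp]; ring)
  refine ⟨s 0 * s a, h3 _ _, fun j => ?_⟩
  have key : ∀ a j : A4, s j * s (a + j) = s 0 * s a := by
    have k00 : ((0, 0) : A4) = 0 := rfl
    rintro ⟨a1, a2⟩ ⟨j1, j2⟩
    rw [← k00]
    fin_cases a1 <;> fin_cases a2 <;> fin_cases j1 <;> fin_cases j2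
    map_tacs [exact (h00).trans h00.symm; exact (h01).trans h00.symm; exact (h10).trans h00.symm; exact (h11).trans h00.symm; rfl; exact mul_comm _ _; exact e1.symm;
     exact (mul_comm _ _).trans e1.symm; rfl; exact e2.symm; exact mul_comm _ _; exact (mul_comm _ _).trans e2.symm; rfl; exact e3.symm;
     exact (mul_comm _ _).trans e3.symm; exact mul_comm _ _]
  exact key a j

theorem CV_RG (hQ : GoodQ Q) (h2 : (2 : F) ≠ 0) (hF : Frame (polarBilin Q) e) :
    CV (rep (inc (⇑Q))) (RG Q e) = Submodule.span F (Set.range e) := by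
  apply le_antisymm
  · refine CV_le fun x hx => ?_
    obtain ⟨s, a, -, -, hx⟩ := shape h2 hF hx
    rintro _ ⟨v, rfl⟩
    have h3 : (rep (inc (⇑Q)) x - 1) v = ∑ j, polarBilin Q (e j) v • ((2 : F)⁻¹ • (s j • e (a + j) - e j)) := by
      show rep (inc (⇑Q)) x v - v = _
      rw [hx, mono_apply]
      abel
    rw [h3]
    refine Submodule.sum_mem _ fun j _ => Submodule.smul_mem _ _ (Submodule.smul_mem _ _ (Submodule.sub_mem _ ?_ ?_))
    · exact Submodule.smul_mem _ _ (Submodule.subset_span ⟨_, rfl⟩)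
    · exact Submodule.subset_span ⟨_, rfl⟩
  · rw [Submodule.span_le]
    rintro _ ⟨i, rfl⟩
    obtain ⟨j, hj⟩ : ∃ j : A4, i ≠ j := by
      obtain ⟨j, hj⟩ := exists_ne i
      exact ⟨j, hj.symm⟩
    obtain ⟨x, hx, hxr⟩ := exists_D hQ h2 hF hj
    have h3 := sub_mem_CV (rep (inc (⇑Q))) hx (e i)
    rw [hxr, mono_e hF h2] at h3
    have h4 : sg F i j i • e (id i) - e i = (-2 : F) • e i := by
      have : sg F i j i = -1 := if_pos (Or.inl rfl)
      rw [this]
      show (-1 : F) • e i - e i = _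
      module
    rw [h4] at h3
    have h5 := (CV (rep (inc (⇑Q))) (RG Q e)).smul_mem (-2 : F)⁻¹ h3
    rwa [smul_smul, inv_mul_cancel₀ (neg_ne_zero.mpr h2), one_smul] at h5

theorem D_sub (h2 : (2 : F) ≠ 0) {i j : A4} (hij : i ≠ j) (u : ι → F) :
    u - mono (polarBilin Q) e (sg F i j) id u = polarBilin Q (e i) u • e i + polarBilin Q (e j) u • e j := by
  rw [mono_apply]
  have h1 : ∀ k, polarBilin Q (e k) u • ((2 : F)⁻¹ • (sg F i j k • e (id k) - e k)) =
      (if k = i then -(polarBilin Q (e k) u • e k) else 0) + (if k = j then -(polarBilin Q (e k) u • e k) else 0) := by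
    intro k
    have h3 : (2 : F)⁻¹ • ((-1 : F) • e k - e k) = -e k := by
      have : (-1 : F) • e k - e k = (2 : F) • (-e k) := by module
      rw [this, smul_smul, inv_mul_cancel₀ h2, one_smul]
    by_cases h4 : k = i
    · subst h4
      have h5 : sg F k j k = -1 := if_pos (Or.inl rfl)
      rw [if_pos rfl, if_neg hij, h5, id, h3, add_zero, smul_neg]
    · by_cases h6 : k = j
      · subst h6
        have h5 : sg F i k k = -1 := if_pos (Or.inr rfl)
        rw [if_pos rfl, if_neg h4, h5, id, h3, zero_add, smul_neg]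
      · have h5 : sg F i j k = 1 := if_neg (by tauto)
        rw [if_neg h4, if_neg h6, h5, id, one_smul, sub_self, smul_zero, smul_zero, add_zero]
  rw [Finset.sum_congr rfl fun k _ => h1 k, Finset.sum_add_distrib, Finset.sum_ite_eq', Finset.sum_ite_eq',
    if_pos (Finset.mem_univ _), if_pos (Finset.mem_univ _)]
  abel

theorem exists_three (i : A4) : ∃ j k : A4, i ≠ j ∧ i ≠ k ∧ j ≠ k := by
  revert i
  decide

/-- the projections -/
theorem proj (h2 : (2 : F) ≠ 0) (hF : Frame (polarBilin Q) e) {i j k : A4} (hij : i ≠ j) (hik : i ≠ k) (hjk : j ≠ k)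
    (u : ι → F) :
    (u - mono (polarBilin Q) e (sg F i j) id u) - mono (polarBilin Q) e (sg F i k) id
      (u - mono (polarBilin Q) e (sg F i j) id u) = (2 * polarBilin Q (e i) u) • e i := by
  rw [D_sub h2 hik, D_sub h2 hij]
  have h3 : polarBilin Q (e i) (polarBilin Q (e i) u • e i + polarBilin Q (e j) u • e j) = 2 * polarBilin Q (e i) u := by
    rw [map_add, map_smul, map_smul, hF.self, hF.orth i j hij, smul_zero, add_zero, smul_eq_mul, mul_comm]
  have h4 : polarBilin Q (e k) (polarBilin Q (e i) u • e i + polarBilin Q (e j) u • e j) = 0 := by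
    rw [map_add, map_smul, map_smul, hF.orth k i hik.symm, hF.orth k j hjk.symm, smul_zero, smul_zero, add_zero]
  rw [h3, h4, zero_smul, add_zero]

theorem finrank_pair_le (x y : ι → F) : finrank F (Submodule.span F ({x, y} : Set (ι → F))) ≤ 2 := by
  classical
  have h1 := finrank_span_le_card (R := F) ({x, y} : Set (ι → F))
  refine h1.trans ?_
  rw [Set.toFinset_insert, Set.toFinset_singleton]
  exact Finset.card_le_two

/-- **the structure of `RG`** -/
theorem qr (hQ : GoodQ Q) (h2 : (2 : F) ≠ 0) (hF : Frame (polarBilin Q) e) : QR (rep (inc (⇑Q))) (RG Q e) where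
  pg := by
    let E : Unit × A4 → ι → F := fun j => e j.2
    have hE : Frame (polarBilin Q) E :=
      ⟨fun _ => hF.self _, fun i j h => hF.orth _ _ fun h' => h (Prod.ext rfl h')⟩
    exact (BG_isPGroup h2 hE).to_le (RG_le_BG h2 hE ())
  dim := by
    rw [CV_RG hQ h2 hF, finrank_span_eq_card (hF.linearIndependent h2)]
    rfl
  irr := by
    intro M hM hinv
    rw [CV_RG hQ h2 hF] at hM ⊢
    by_cases h0 : M = ⊥
    · exact Or.inl h0
    refine Or.inr (le_antisymm hM ?_)
    obtain ⟨m, hmM, hm0⟩ := Submodule.exists_mem_ne_zero_of_ne_bot h0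
    obtain ⟨i, hi⟩ : ∃ i, polarBilin Q (e i) m ≠ 0 := by
      by_contra hcon
      push Not at hcon
      apply hm0
      obtain ⟨c, hc⟩ := (Submodule.mem_span_range_iff_exists_fun F).mp (hM hmM)
      rw [← hc]
      refine Finset.sum_eq_zero fun j _ => ?_
      have h3 := hcon j
      rw [← hc, map_sum, Finset.sum_eq_single j] at h3
      · rw [map_smul, hF.self, smul_eq_mul] at h3
        rw [(mul_eq_zero.mp h3).resolve_right h2, zero_smul]
      · intro k _ hk
        rw [map_smul, hF.orth j k hk.symm, smul_zero]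
      · intro h
        exact absurd (Finset.mem_univ j) h
    obtain ⟨j, k, hij, hik, hjk⟩ := exists_three i
    obtain ⟨x, hx, hxr⟩ := exists_D hQ h2 hF hij
    obtain ⟨y, hy, hyr⟩ := exists_D hQ h2 hF hik
    have h4 : m - rep (inc (⇑Q)) x m ∈ M := M.sub_mem hmM (hinv x hx m hmM)
    have h5 : (m - rep (inc (⇑Q)) x m) - rep (inc (⇑Q)) y (m - rep (inc (⇑Q)) x m) ∈ M :=
      M.sub_mem h4 (hinv y hy _ h4)
    rw [hxr, hyr, proj h2 hF hij hik hjk] at h5
    have h6 : e i ∈ M := by
      have h7 := M.smul_mem (2 * polarBilin Q (e i) m)⁻¹ h5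
      rwa [smul_smul, inv_mul_cancel₀ (mul_ne_zero h2 hi), one_smul] at h7
    rw [Submodule.span_le]
    rintro _ ⟨l, rfl⟩
    obtain ⟨z, hz, hzr⟩ := exists_T hQ h2 hF (l - i)
    have h8 := hinv z hz _ h6
    rw [hzr, mono_e hF h2, one_smul] at h8
    simpa using h8
  sq := by
    intro x hx
    obtain ⟨s, a, hs, hs1, hx⟩ := shape h2 hF hx
    obtain ⟨c, hc, hcj⟩ := const_aux hs hs1 a
    have h3 : ∀ u ∈ CV (rep (inc (⇑Q))) (RG Q e), rep (inc (⇑Q)) (x * x) u = c • u := by
      intro u hu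
      rw [CV_RG hQ h2 hF] at hu
      have h4 : rep (inc (⇑Q)) (x * x) = mono (polarBilin Q) e (fun _ => c) id := by
        rw [map_mul, hx, mono_mul hF h2]
        congr 1
        · funext j
          exact hcj j
        · funext j
          show a + (a + j) = j
          rw [← add_assoc, CharTwo.add_self_eq_zero, zero_add]
      rw [h4]
      induction hu using Submodule.span_induction with
      | mem u hu =>
        obtain ⟨j, rfl⟩ := hu
        rw [mono_e hF h2, id]
      | zero => rw [map_zero, smul_zero]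
      | add u v _ _ h5 h6 => rw [map_add, h5, h6, smul_add]
      | smul d u _ h5 => rw [map_smul, h5, smul_comm]
    rcases hc with rfl | rfl
    · exact Or.inl fun u hu => by rw [h3 u hu, one_smul]
    · exact Or.inr fun u hu => by rw [h3 u hu, neg_smul, one_smul]
  gen := by
    refine ⟨_, rfl, ?_⟩
    rintro x (⟨a, ha, hx⟩ | ⟨i, j, hij, hx⟩)
    · constructor
      · apply rep_inj
        rw [map_mul, hx, mono_mul hF h2, map_one]
        refine mono_one hF h2 (fun _ => one_mul 1) fun j => ?_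
        show a + (a + j) = j
        rw [← add_assoc, CharTwo.add_self_eq_zero, zero_add]
      · obtain ⟨b, hb0, hba, hb⟩ := exists_b a ha
        refine le_trans (Submodule.finrank_mono (t := Submodule.span F {e a - e 0, e (a + b) - e b}) ?_)
          (finrank_pair_le _ _)
        rintro _ ⟨v, rfl⟩
        have h3 : (rep (inc (⇑Q)) x - 1) v =
            ∑ j, polarBilin Q (e j) v • ((2 : F)⁻¹ • ((1 : F) • e (a + j) - e j)) := by
          show rep (inc (⇑Q)) x v - v = _
          rw [hx, mono_apply]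
          abel
        rw [h3]
        refine Submodule.sum_mem _ fun j _ => Submodule.smul_mem _ _ (Submodule.smul_mem _ _ ?_)
        rw [one_smul]
        have m1 : e a - e 0 ∈ Submodule.span F {e a - e 0, e (a + b) - e b} := Submodule.subset_span (Or.inl rfl)
        have m2 : e (a + b) - e b ∈ Submodule.span F {e a - e 0, e (a + b) - e b} :=
          Submodule.subset_span (Or.inr rfl)
        rcases hb j with h | h | h | h
        · rw [h, add_zero]; exact m1
        · rw [h, CharTwo.add_self_eq_zero, ← neg_sub (e a) (e 0)]; exact Submodule.neg_mem _ m1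
        · rw [h]; exact m2
        · rw [h, ← add_assoc, CharTwo.add_self_eq_zero, zero_add, ← neg_sub (e (a + b)) (e b)]
          exact Submodule.neg_mem _ m2
    · constructor
      · apply rep_inj
        rw [map_mul, hx, mono_mul hF h2, map_one]
        refine mono_one hF h2 (fun k => ?_) fun j => rfl
        show sg F i j k * sg F i j k = 1
        unfold sg
        split_ifs <;> ring
      · refine le_trans (Submodule.finrank_mono (t := Submodule.span F {e i, e j}) ?_)
          (finrank_pair_le _ _)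
        rintro _ ⟨v, rfl⟩
        have h3 : (rep (inc (⇑Q)) x - 1) v = -(v - rep (inc (⇑Q)) x v) := by
          show rep (inc (⇑Q)) x v - v = _
          abel
        rw [h3, hx, D_sub h2 hij]
        exact Submodule.neg_mem _ (Submodule.add_mem _ (Submodule.smul_mem _ _ (Submodule.subset_span (Or.inl rfl)))
          (Submodule.smul_mem _ _ (Submodule.subset_span (Or.inr rfl))))
  scal := by
    intro φ hφ
    have hc : ∀ i, φ (e i) = ((2 : F)⁻¹ * polarBilin Q (e i) (φ (e i))) • e i := by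
      intro i
      obtain ⟨j, k, hij, hik, hjk⟩ := exists_three i
      obtain ⟨x, hx, hxr⟩ := exists_D hQ h2 hF hij
      obtain ⟨y, hy, hyr⟩ := exists_D hQ h2 hF hik
      have h4 := proj h2 hF hij hik hjk (e i)
      have h5 := proj h2 hF hij hik hjk (φ (e i))
      rw [← hxr, ← hyr] at h4 h5
      have h6 := congrArg φ h4
      rw [map_sub, map_sub, hφ x hx, hφ y hy, map_sub, hφ x hx, h5, map_smul, hF.self] at h6
      have h7 := congrArg (fun w => ((2 : F) * 2)⁻¹ • w) h6
      simp only [smul_smul] at h7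
      rw [inv_mul_cancel₀ (mul_ne_zero h2 h2), one_smul] at h7
      refine h7.symm.trans ?_
      congr 1
      field_simp
    have hc' : ∀ i, φ (e i) = ((2 : F)⁻¹ * polarBilin Q (e 0) (φ (e 0))) • e i := by
      intro i
      obtain ⟨z, hz, hzr⟩ := exists_T hQ h2 hF i
      have h3 := hφ z hz (e 0)
      rw [hzr, mono_e hF h2, one_smul, add_zero] at h3
      rw [h3]
      conv_lhs => rw [hc 0, map_smul, mono_e hF h2, one_smul, add_zero]
    refine ⟨(2 : F)⁻¹ * polarBilin Q (e 0) (φ (e 0)), fun u hu => ?_⟩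
    rw [CV_RG hQ h2 hF] at hu
    induction hu using Submodule.span_induction with
    | mem u hu =>
      obtain ⟨j, rfl⟩ := hu
      exact hc' j
    | zero => rw [map_zero, smul_zero]
    | add u v _ _ h5 h6 => rw [map_add, h5, h6, smul_add]
    | smul d u _ h5 => rw [map_smul, h5, smul_comm]

end Cfsg.Agent.H556.Om
end

private theorem dce_8d9cfc6803aa : _root_.True := by
  try have : _root_.True := by simp only [_root_.Cfsg.Agent.H556.Om.sg.eq_1]
  try have : _root_.True := by simp only [_root_.Cfsg.Agent.H556.Om.RG.eq_1]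
  try have : _root_.True := by simp only [_root_.Cfsg.Agent.H556.Om.sg.congr_simp]
  try have : _root_.True := by simp only [_root_.Cfsg.Agent.H556.Om.blk.eq_1]
  try have : _root_.True := by simp only [_root_.Cfsg.Agent.H556.Om.mono.eq_1]
  exact _root_.True.intro
end

-- part: H556/OmSmall_mg
section
prune_inst 0x343075046c20120000000512a0000000180000200140000000c00f040309a0600000200002802006120a00010001000811440000020000000a000000000500000000000491080100000088000000000000000000000000000000000000000004000000000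
set_option linter.all false
open scoped Cfsg.Agent.FastGrp

-- part: H556/OmSmall
section
/-!
# `r`-elements acting on 2-groups in orthogonal groups of dimension at most four (helper556)

`partA` : let `G` be a finite group acting on a space `M` of dimension `≤ 4` and preserving a nondegenerate symmetric
form (characteristic `≠ 2`), `y ∈ G` an `r`-element, `r ≥ 5` prime, normalising a 2-subgroup `D`. Then `[y, D]` acts
trivially on `M`.
-/

set_option autoImplicit false

namespace Cfsg.Agent.H556.OmSmall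

open Module Cfsg.Agent.H167.OP Cfsg.Agent.H170.HL

variable {F : Type*} [Field F] {M : Type*} [AddCommGroup M] [Module F M] [FiniteDimensional F M]
  {G : Type*} [Group G] [Finite G] {r : ℕ} {y : G} {D : Subgroup G}

theorem sq_central (h : MinD 2 r y D) (hnab : ∃ a ∈ D, ∃ b ∈ D, a * b ≠ b * a) :
    ∀ a ∈ D, ∀ b ∈ D, a * a * b = b * (a * a) := by
  classical
  have hcl : ∀ a ∈ D, ∀ b ∈ D, ∀ x ∈ D, (a * b * a⁻¹ * b⁻¹) * x = x * (a * b * a⁻¹ * b⁻¹) :=
    fun a ha b hb x hx => h.class_two ha hb hx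
  let N : Subgroup G :=
    { carrier := {d | d ∈ D ∧ ∀ b ∈ D, d * d * b = b * (d * d)}
      one_mem' := ⟨D.one_mem, fun b _ => by simp⟩
      mul_mem' := by
        rintro d e ⟨hd, hd1⟩ ⟨he, he1⟩
        refine ⟨D.mul_mem hd he, fun b hb => ?_⟩
        have hc : ∀ x ∈ D, (e * d * e⁻¹ * d⁻¹) * x = x * (e * d * e⁻¹ * d⁻¹) := hcl e he d hd
        have h1 : d * e * (d * e) = (e * d * e⁻¹ * d⁻¹) * (d * d) * (e * e) := by
          calc d * e * (d * e) = d * (e * d * e⁻¹ * d⁻¹) * (d * e * e) := by group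
            _ = (e * d * e⁻¹ * d⁻¹) * d * (d * e * e) := by rw [hc d hd]
            _ = _ := by group
        rw [h1]
        calc (e * d * e⁻¹ * d⁻¹) * (d * d) * (e * e) * b = (e * d * e⁻¹ * d⁻¹) * (d * d) * (e * e * b) := by group
          _ = (e * d * e⁻¹ * d⁻¹) * (d * d) * (b * (e * e)) := by rw [he1 b hb]
          _ = (e * d * e⁻¹ * d⁻¹) * (d * d * b) * (e * e) := by group
          _ = (e * d * e⁻¹ * d⁻¹) * (b * (d * d)) * (e * e) := by rw [hd1 b hb]
          _ = (e * d * e⁻¹ * d⁻¹) * b * ((d * d) * (e * e)) := by group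
          _ = b * (e * d * e⁻¹ * d⁻¹) * ((d * d) * (e * e)) := by rw [hc b hb]
          _ = _ := by group
      inv_mem' := by
        rintro d ⟨hd, hd1⟩
        refine ⟨D.inv_mem hd, fun b hb => ?_⟩
        have h1 := hd1 b hb
        have h2 : d⁻¹ * d⁻¹ = (d * d)⁻¹ := by group
        rw [h2, inv_mul_eq_iff_eq_mul, ← mul_assoc, h1, mul_inv_cancel_right] }
  have hle : N ≤ D := fun x hx => hx.1
  have hn : Nrm y N := by
    rintro x ⟨hx, hx1⟩
    refine ⟨h.nrm x hx, fun b hb => ?_⟩
    have hb' := nrm_inv h.nrm hb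
    have := hx1 _ hb'
    calc y * x * y⁻¹ * (y * x * y⁻¹) * b = y * (x * x * (y⁻¹ * b * y)) * y⁻¹ := by group
      _ = y * ((y⁻¹ * b * y) * (x * x)) * y⁻¹ := by rw [this]
      _ = _ := by group
  have hnD : ∀ d ∈ D, ∀ n ∈ N, d * n * d⁻¹ ∈ N := by
    rintro d hd n ⟨hn, hn1⟩
    refine ⟨D.mul_mem (D.mul_mem hd hn) (D.inv_mem hd), fun b hb => ?_⟩
    have h1 : d * n * d⁻¹ * (d * n * d⁻¹) = n * n := by
      calc d * n * d⁻¹ * (d * n * d⁻¹) = d * (n * n) * d⁻¹ := by group
        _ = n * n * d * d⁻¹ := by rw [hn1 d hd]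
        _ = n * n := by group
    rw [h1, hn1 b hb]
  by_cases hND : N = D
  · intro a ha b hb
    rw [← hND] at ha
    exact ha.2 b hb
  exfalso
  have hcen : ∀ n ∈ N, ∀ d ∈ D, n * d = d * n := fun n hn' d hd => h.central hle hND hn hnD hn' hd
  obtain ⟨a, ha, b, hb, hab⟩ := hnab
  obtain ⟨k, hk⟩ := h.hD a ha
  have hex : ∃ j, ∀ x ∈ D, a ^ 2 ^ j * x = x * a ^ 2 ^ j := ⟨k, fun x _ => by rw [hk, one_mul, mul_one]⟩
  have h1 := Nat.find_spec hex
  rcases Nat.eq_zero_or_pos (Nat.find hex) with h0 | h0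
  · rw [h0, pow_zero, pow_one] at h1
    exact hab (h1 b hb)
  · obtain ⟨j, hj⟩ := Nat.exists_eq_succ_of_ne_zero h0.ne'
    rw [hj] at h1
    refine Nat.find_min hex (m := j) (by omega) ?_
    refine hcen _ ⟨D.pow_mem ha _, fun x hx => ?_⟩
    have h2 : a ^ 2 ^ j * a ^ 2 ^ j = a ^ 2 ^ j.succ := by
      rw [← pow_add, pow_succ 2 j]
      congr 1
      ring
    rw [h2]
    exact h1 x hx

theorem comm_sq (h : MinD 2 r y D) {a b : G} (ha : a ∈ D) (hb : b ∈ D) (hab : a * b ≠ b * a) :
    (a * b * a⁻¹ * b⁻¹) * (a * b * a⁻¹ * b⁻¹) = 1 := by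
  have hs := sq_central h ⟨a, ha, b, hb, hab⟩ a ha b hb
  have hc : (a * b * a⁻¹ * b⁻¹) * a = a * (a * b * a⁻¹ * b⁻¹) := h.class_two ha hb ha
  have h1 : (a * b * a⁻¹ * b⁻¹) * (a * b * a⁻¹ * b⁻¹) * (b * (a * a)) = a * a * b := by
    calc (a * b * a⁻¹ * b⁻¹) * (a * b * a⁻¹ * b⁻¹) * (b * (a * a)) = ((a * b * a⁻¹ * b⁻¹) * a) * b * a := by group
      _ = a * (a * b * a⁻¹ * b⁻¹) * b * a := by rw [hc]
      _ = _ := by group
  rw [hs] at h1
  exact mul_eq_right.mp h1

/-- noncommuting elements anticommute -/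
theorem neg_of (ρ : Representation F G M) (hρ : Function.Injective ρ) (h2 : (2 : F) ≠ 0)
    (hdim : finrank F M ≤ 4) (h5 : 5 ≤ r) (h : MinD 2 r y D) {a b : G} (ha : a ∈ D) (hb : b ∈ D)
    (hab : a * b ≠ b * a) :
    finrank F M = 4 ∧ r = 5 ∧ ρ (a * b * a⁻¹ * b⁻¹) = -1 := by
  have h1 : ρ (a * b * a⁻¹ * b⁻¹) ≠ 1 := by
    intro h0
    apply hab
    have h3 : a * b * a⁻¹ * b⁻¹ = 1 := hρ (by rw [h0, map_one])
    calc a * b = (a * b * a⁻¹ * b⁻¹) * (b * a) := by group
      _ = b * a := by rw [h3, one_mul]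
  obtain ⟨δ, h3, h4, ⟨k, hk⟩, h6⟩ := beta_gen ρ h (by exact_mod_cast h2) ha hb h1
  have h7 : finrank F (LinearMap.range (ρ (a * b * a⁻¹ * b⁻¹) - 1)) ≤ finrank F M := Submodule.finrank_le _
  have h8 : δ ≤ 4 := by omega
  have hd : r ∣ δ ^ 2 - 1 := (Nat.modEq_iff_dvd' (Nat.one_le_pow _ _ (by omega))).mp h6.symm
  have hδ : δ = 4 := by
    interval_cases δ
    · exfalso
      have := Nat.le_of_dvd (by norm_num) hd
      omega
    · exfalso
      rcases k with _ | _ | _ | _ | k
      · simp at hk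
      · simp at hk
      · simp at hk
      · simp at hk
      · have : 2 ^ (k + 4) = 2 ^ k * 16 := by rw [pow_add]; norm_num
        have h9 : 0 < 2 ^ k := by positivity
        rw [this] at hk
        omega
    · rfl
  subst hδ
  have h9 : finrank F M = 4 := by omega
  have h10 : LinearMap.range (ρ (a * b * a⁻¹ * b⁻¹) - 1) = ⊤ := by
    apply Submodule.eq_top_of_finrank_eq
    omega
  refine ⟨h9, ?_, ?_⟩
  · have h11 : r ∣ 5 * 3 := by simpa using hd
    rcases (Nat.Prime.dvd_mul h.ht).mp h11 with h12 | h12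
    · have := Nat.le_of_dvd (by norm_num) h12
      omega
    · have := Nat.le_of_dvd (by norm_num) h12
      omega
  · apply LinearMap.ext
    intro v
    have hv : v ∈ LinearMap.range (ρ (a * b * a⁻¹ * b⁻¹) - 1) := by rw [h10]; trivial
    obtain ⟨w, rfl⟩ := hv
    show ρ (a * b * a⁻¹ * b⁻¹) (ρ (a * b * a⁻¹ * b⁻¹) w - w) = -(ρ (a * b * a⁻¹ * b⁻¹) w - w)
    rw [map_sub, ← mul_ap, comm_sq h ha hb hab, one_ap]
    abel

/-! ### Self-adjoint and skew operators -/

/-- operators with `f (φ u) v = ε f u (φ v)` -/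
def Adj (f : M →ₗ[F] M →ₗ[F] F) (ε : F) : Submodule F (Module.End F M) where
  carrier := {φ | ∀ u v, f (φ u) v = ε * f u (φ v)}
  zero_mem' := fun u v => by simp
  add_mem' := fun {φ ψ} hφ hψ u v => by
    rw [LinearMap.add_apply, LinearMap.add_apply, map_add, LinearMap.add_apply, map_add, hφ, hψ]
    ring
  smul_mem' := fun c φ hφ u v => by
    rw [LinearMap.smul_apply, LinearMap.smul_apply, map_smul, LinearMap.smul_apply, map_smul, hφ, smul_eq_mul,
      smul_eq_mul]
    ring

theorem finrank_adj (f : M →ₗ[F] M →ₗ[F] F) (hsym : ∀ u v, f u v = f v u) (hnd : ∀ x, (∀ y, f x y = 0) → x = 0)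
    (hdim : finrank F M = 4) : finrank F (Adj f 1) ≤ 10 := by
  let b : Basis (Fin 4) F M := finBasisOfFinrankEq F M hdim
  let I := {p : Fin 4 × Fin 4 // p.1 ≤ p.2}
  let Φ : Adj f 1 →ₗ[F] (I → F) :=
    { toFun := fun φ p => f ((φ : Module.End F M) (b p.1.1)) (b p.1.2)
      map_add' := fun φ ψ => by
        funext p
        simp
      map_smul' := fun c φ => by
        funext p
        simp }
  have hinj : Function.Injective Φ := by
    rw [← LinearMap.ker_eq_bot, LinearMap.ker_eq_bot']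
    rintro ⟨φ, hφ⟩ h0
    have h1 : ∀ i j : Fin 4, i ≤ j → f (φ (b i)) (b j) = 0 := fun i j hij => congrFun h0 ⟨(i, j), hij⟩
    have h2 : ∀ i j : Fin 4, f (φ (b i)) (b j) = 0 := by
      intro i j
      rcases le_total i j with h | h
      · exact h1 i j h
      · have h3 := hφ (b i) (b j)
        rw [one_mul, hsym (b i), h1 j i h] at h3
        exact h3
    apply Subtype.ext
    show φ = 0
    apply b.ext
    intro i
    rw [LinearMap.zero_apply]
    apply hnd
    intro v
    have h3 : f (φ (b i)) = 0 := b.ext fun j => by rw [h2, LinearMap.zero_apply]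
    rw [h3, LinearMap.zero_apply]
  have h1 := LinearMap.finrank_le_finrank_of_injective hinj
  rw [Module.finrank_pi] at h1
  exact h1.trans (by decide)

theorem finrank_skew (f : M →ₗ[F] M →ₗ[F] F) (hsym : ∀ u v, f u v = f v u) (hnd : ∀ x, (∀ y, f x y = 0) → x = 0)
    (h2 : (2 : F) ≠ 0) (hdim : finrank F M = 4) : finrank F (Adj f (-1)) ≤ 6 := by
  let b : Basis (Fin 4) F M := finBasisOfFinrankEq F M hdim
  let I := {p : Fin 4 × Fin 4 // p.1 < p.2}
  let Φ : Adj f (-1) →ₗ[F] (I → F) :=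
    { toFun := fun φ p => f ((φ : Module.End F M) (b p.1.1)) (b p.1.2)
      map_add' := fun φ ψ => by
        funext p
        simp
      map_smul' := fun c φ => by
        funext p
        simp }
  have hinj : Function.Injective Φ := by
    rw [← LinearMap.ker_eq_bot, LinearMap.ker_eq_bot']
    rintro ⟨φ, hφ⟩ h0
    have h1 : ∀ i j : Fin 4, i < j → f (φ (b i)) (b j) = 0 := fun i j hij => congrFun h0 ⟨(i, j), hij⟩
    have h2 : ∀ i j : Fin 4, f (φ (b i)) (b j) = 0 := by
      intro i j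
      rcases lt_trichotomy i j with h | h | h
      · exact h1 i j h
      · subst h
        have h3 := hφ (b i) (b i)
        rw [hsym (b i) (φ (b i))] at h3
        have h4 : (2 : F) * f (φ (b i)) (b i) = 0 := by linear_combination h3
        exact (mul_eq_zero.mp h4).resolve_left h2
      · have h3 := hφ (b i) (b j)
        rw [hsym (b i), h1 j i h, mul_zero] at h3
        exact h3
    apply Subtype.ext
    show φ = 0
    apply b.ext
    intro i
    rw [LinearMap.zero_apply]
    apply hnd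
    intro v
    have h3 : f (φ (b i)) = 0 := b.ext fun j => by rw [h2, LinearMap.zero_apply]
    rw [h3, LinearMap.zero_apply]
  have h1 := LinearMap.finrank_le_finrank_of_injective hinj
  rw [Module.finrank_pi] at h1
  exact h1.trans (by decide)

theorem trace_zero (ρ : Representation F G M) (hρ : Function.Injective ρ) (h2 : (2 : F) ≠ 0)
    (hdim : finrank F M ≤ 4) (h5 : 5 ≤ r) (h : MinD 2 r y D) {a b : G} (ha : a ∈ D) (hb : b ∈ D)
    (hab : a * b ≠ b * a) : LinearMap.trace F M (ρ a) = 0 := by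
  obtain ⟨-, -, h1⟩ := neg_of ρ hρ h2 hdim h5 h hb ha hab.symm
  have h3 : ρ b * ρ a * ρ b⁻¹ = -ρ a := by
    have h4 : b * a * b⁻¹ = (b * a * b⁻¹ * a⁻¹) * a := by group
    rw [← map_mul, ← map_mul, h4, map_mul, h1, neg_mul, one_mul]
  have h5 := congrArg (LinearMap.trace F M) h3
  rw [map_neg, LinearMap.trace_mul_comm, ← mul_assoc, ← map_mul, inv_mul_cancel, map_one, one_mul] at h5
  have h6 : (2 : F) * LinearMap.trace F M (ρ a) = 0 := by linear_combination h5
  exact (mul_eq_zero.mp h6).resolve_left h2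

/-- **no nonabelian minimal groups** -/
theorem abelian_of (ρ : Representation F G M) (hρ : Function.Injective ρ) (h2 : (2 : F) ≠ 0)
    (f : M →ₗ[F] M →ₗ[F] F) (hsym : ∀ u v, f u v = f v u) (hnd : ∀ x, (∀ y, f x y = 0) → x = 0)
    (hinv : ∀ g u v, f (ρ g u) (ρ g v) = f u v)
    (hdim : finrank F M ≤ 4) (h5 : 5 ≤ r) (h : MinD 2 r y D) : ∀ a ∈ D, ∀ b ∈ D, a * b = b * a := by
  classical
  by_contra hcon
  push Not at hcon
  obtain ⟨a0, ha0, b0, hb0, hab0⟩ := hcon
  have hnab : ∃ a ∈ D, ∃ b ∈ D, a * b ≠ b * a := ⟨a0, ha0, b0, hb0, hab0⟩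
  obtain ⟨hd4, hr, hneg0⟩ := neg_of ρ hρ h2 hdim h5 h ha0 hb0 hab0
  subst hr
  have h4 : (4 : F) ≠ 0 := by
    have : (4 : F) = 2 * 2 := by norm_num
    rw [this]
    exact mul_ne_zero h2 h2
  -- the centre
  let Z : Subgroup G := D ⊓ Subgroup.centralizer (D : Set G)
  have hZ : ∀ z, z ∈ Z ↔ z ∈ D ∧ ∀ d ∈ D, z * d = d * z := by
    intro z
    rw [Subgroup.mem_inf, Subgroup.mem_centralizer_iff]
    constructor
    · rintro ⟨h1, h3⟩
      exact ⟨h1, fun d hd => (h3 d hd).symm⟩
    · rintro ⟨h1, h3⟩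
      exact ⟨h1, fun d hd => (h3 d hd).symm⟩
  have hZn : Nrm y Z := by
    intro z hz
    have h1 := (hZ z).mp hz
    rw [h.cen_center hnab h1.1 h1.2, mul_inv_cancel_right]
    exact hz
  have hZc : ∀ a ∈ D, ∀ b ∈ D, a * b * a⁻¹ * b⁻¹ ∈ Z := by
    intro a ha b hb
    rw [hZ]
    exact ⟨D.mul_mem (D.mul_mem (D.mul_mem ha hb) (D.inv_mem ha)) (D.inv_mem hb),
      fun d hd => h.class_two ha hb hd⟩
  have hsqZ : ∀ a ∈ D, a * a ∈ Z := by
    intro a ha
    rw [hZ]
    exact ⟨D.mul_mem ha ha, fun b hb => sq_central h hnab a ha b hb⟩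
  have hnor : (Z.subgroupOf D).Normal := MinD.normal_subgroupOf Z hZc
  let T := D ⧸ Z.subgroupOf D
  have : Fintype T := Fintype.ofFinite T
  let v : T → Module.End F M := fun t => ρ ((t.out : D) : G)
  have hout : ∀ t : T, ((QuotientGroup.mk (t.out : D) : T)) = t := fun t => QuotientGroup.out_eq' t
  have hli : LinearIndependent F v := by
    rw [Fintype.linearIndependent_iff]
    intro g hg t0
    have h1 := congrArg (fun φ => LinearMap.trace F M (ρ ((t0.out : D) : G)⁻¹ * φ)) hg
    simp only [mul_zero, map_zero, Finset.mul_sum, map_sum] at h1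
    rw [Finset.sum_eq_single t0] at h1
    · simp only [v] at h1
      rw [mul_smul_comm, ← map_mul, inv_mul_cancel, map_one, map_smul, LinearMap.trace_one, hd4, smul_eq_mul] at h1
      refine (mul_eq_zero.mp h1).resolve_right ?_
      exact_mod_cast h4
    · intro t _ ht
      simp only [v]
      rw [mul_smul_comm, ← map_mul, map_smul]
      have h3 : ((t0.out : D) : G)⁻¹ * ((t.out : D) : G) ∈ D := D.mul_mem (D.inv_mem (t0.out : D).2) (t.out : D).2
      have h6 : ((t0.out : D) : G)⁻¹ * ((t.out : D) : G) ∉ Z := by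
        intro hz
        apply ht
        rw [← hout t, ← hout t0, eq_comm, QuotientGroup.eq, Subgroup.mem_subgroupOf]
        exact hz
      rw [hZ] at h6
      push Not at h6
      obtain ⟨b, hb, hne⟩ := h6 h3
      rw [trace_zero ρ hρ h2 hdim h5 h h3 hb hne, smul_zero]
    · intro h
      exact absurd (Finset.mem_univ t0) h
  have hfr : finrank F (Module.End F M) = 16 := by
    rw [Module.finrank_linearMap, hd4]
  have hcT : Fintype.card T = 16 := by
    have h1 : Fintype.card T ≤ 16 := by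
      rw [← hfr]
      exact hli.fintype_card_le_finrank
    have h3 := h.relIndex_modEq hZn hZc
    have h6 : Z.relIndex D = Fintype.card T := by
      rw [Subgroup.relIndex, Subgroup.index, Nat.card_eq_fintype_card]
    rw [h6] at h3
    have h7 : Fintype.card T ∣ Nat.card D := by
      rw [← h6]
      exact Subgroup.relIndex_dvd_card Z D
    have : Fact (Nat.Prime 2) := ⟨Nat.prime_two⟩
    obtain ⟨n, hn⟩ := h.isPGroup.exists_card_eq
    rw [hn] at h7
    obtain ⟨k, -, hk⟩ := (Nat.dvd_prime_pow Nat.prime_two).mp h7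
    have h8 : Fintype.card T ≠ 1 := by
      intro h1
      rw [← h6, Subgroup.relIndex_eq_one] at h1
      exact hab0 (((hZ a0).mp (h1 ha0)).2 b0 hb0)
    rw [hk] at h1 h3 h8 ⊢
    have hk4 : k ≤ 4 := by
      by_contra hc
      have : 2 ^ 5 ≤ 2 ^ k := Nat.pow_le_pow_right (by norm_num) (by omega)
      omega
    interval_cases k
    · exact absurd rfl h8
    · exact absurd h3 (by decide)
    · exact absurd h3 (by decide)
    · exact absurd h3 (by decide)
    · rfl
  have hspan : Submodule.span F (Set.range v) = ⊤ :=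
    hli.span_eq_top_of_card_eq_finrank' (by rw [hcT, hfr])
  -- central elements act as `±1`
  have hZpm : ∀ z ∈ Z, ρ z = 1 ∨ ρ z = -1 := by
    intro z hz
    have hz' := (hZ z).mp hz
    have hcomm : ∀ φ : Module.End F M, φ * ρ z = ρ z * φ := by
      intro φ
      have hφ : φ ∈ Submodule.span F (Set.range v) := by rw [hspan]; trivial
      induction hφ using Submodule.span_induction with
      | mem φ hφ =>
        obtain ⟨t, rfl⟩ := hφ
        show ρ ((t.out : D) : G) * ρ z = ρ z * ρ ((t.out : D) : G)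
        rw [← map_mul, ← map_mul, hz'.2 _ (t.out : D).2]
      | zero => rw [zero_mul, mul_zero]
      | add φ ψ _ _ h1 h3 => rw [add_mul, mul_add, h1, h3]
      | smul c φ _ h1 => rw [smul_mul_assoc, mul_smul_comm, h1]
    have h1 : ρ z ∈ Subalgebra.center F (Module.End F M) := by
      rw [Subalgebra.mem_center_iff]
      exact fun φ => hcomm φ
    have h3 := Algebra.IsCentral.out h1
    rw [Algebra.mem_bot] at h3
    obtain ⟨c, hc⟩ := h3
    have hc' : ∀ u, ρ z u = c • u := by
      intro u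
      rw [← hc]
      rfl
    have hnt : Nontrivial M := Module.nontrivial_of_finrank_pos (R := F) (by omega)
    obtain ⟨u, hu⟩ := exists_ne (0 : M)
    have h6 : ∃ w, f u w ≠ 0 := by
      by_contra hcon
      push Not at hcon
      exact hu (hnd u hcon)
    obtain ⟨w, hw⟩ := h6
    have h7 := hinv z u w
    rw [hc', hc', map_smul, map_smul, LinearMap.smul_apply, smul_eq_mul, smul_eq_mul, ← mul_assoc] at h7
    have h8 : c * c = 1 := by
      apply mul_right_cancel₀ hw
      rw [h7, one_mul]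
    rcases mul_self_eq_one_iff.mp h8 with h9 | h9
    · left
      apply LinearMap.ext
      intro u
      rw [hc', h9, one_smul, Module.End.one_apply]
    · right
      apply LinearMap.ext
      intro u
      rw [hc', h9, neg_smul, one_smul]
      rfl
  have hZ2 : ∀ z ∈ Z, ρ (z * z) = 1 := by
    intro z hz
    rw [map_mul]
    rcases hZpm z hz with h1 | h1
    · rw [h1, one_mul]
    · rw [h1, neg_mul_neg, one_mul]
  -- the cosets of self-adjoint elements
  let P : T → Prop := fun t => ρ (((t.out : D) : G) * ((t.out : D) : G)) = 1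
  have hPmk : ∀ d : D, P (QuotientGroup.mk d) ↔ ρ ((d : G) * d) = 1 := by
    intro d
    have h1 : (QuotientGroup.mk (((QuotientGroup.mk d : T)).out : D) : T) = QuotientGroup.mk d := hout _
    rw [QuotientGroup.eq, Subgroup.mem_subgroupOf] at h1
    set d' : D := ((QuotientGroup.mk d : T)).out
    have h3 : ((d'⁻¹ * d : D) : G) ∈ Z := h1
    have h3' := ((hZ _).mp h3).2
    have h6 : (d : G) * d = ((d' : G) * d') * (((d'⁻¹ * d : D) : G) * ((d'⁻¹ * d : D) : G)) := by
      have h7 := h3' (d' : G) d'.2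
      have h8 : (d : G) = (d' : G) * ((d'⁻¹ * d : D) : G) := by
        rw [Subgroup.coe_mul, Subgroup.coe_inv, mul_inv_cancel_left]
      calc (d : G) * d = ((d' : G) * ((d'⁻¹ * d : D) : G)) * ((d' : G) * ((d'⁻¹ * d : D) : G)) := by rw [← h8]
        _ = (d' : G) * (((d'⁻¹ * d : D) : G) * (d' : G)) * ((d'⁻¹ * d : D) : G) := by group
        _ = (d' : G) * ((d' : G) * ((d'⁻¹ * d : D) : G)) * ((d'⁻¹ * d : D) : G) := by rw [h7]
        _ = _ := by group
    show ρ ((d' : G) * d') = 1 ↔ _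
    rw [h6, map_mul ρ (((d' : G) * d')), hZ2 _ h3, mul_one]
  -- the bounds
  have hP10 : Fintype.card {t // P t} ≤ 10 := by
    have h1 : ∀ t : {t // P t}, v t.1 ∈ Adj f 1 := by
      rintro ⟨t, ht⟩ a b
      rw [one_mul]
      have h3 : ρ ((t.out : D) : G) * ρ ((t.out : D) : G) = 1 := by rw [← map_mul]; exact ht
      have h6 : ρ ((t.out : D) : G) (ρ ((t.out : D) : G) b) = b := by
        have := LinearMap.congr_fun h3 b
        exact this
      show f (ρ ((t.out : D) : G) a) b = f a (ρ ((t.out : D) : G) b)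
      conv_lhs => rw [← h6, hinv]
    have h3 : LinearIndependent F (fun t : {t // P t} => (⟨v t.1, h1 t⟩ : Adj f 1)) := by
      apply LinearIndependent.of_comp (Adj f 1).subtype
      exact hli.comp _ Subtype.val_injective
    exact h3.fintype_card_le_finrank.trans (finrank_adj f hsym hnd hd4)
  have hP6 : Fintype.card {t // ¬ P t} ≤ 6 := by
    have h1 : ∀ t : {t // ¬ P t}, v t.1 ∈ Adj f (-1) := by
      rintro ⟨t, ht⟩ a b
      have h3 : ρ ((t.out : D) : G) * ρ ((t.out : D) : G) = -1 := by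
        rw [← map_mul]
        exact (hZpm _ (hsqZ _ (t.out : D).2)).resolve_left ht
      have h6 : ρ ((t.out : D) : G) (ρ ((t.out : D) : G) b) = -b := by
        have := LinearMap.congr_fun h3 b
        exact this
      show f (ρ ((t.out : D) : G) a) b = -1 * f a (ρ ((t.out : D) : G) b)
      have h7 : b = -(ρ ((t.out : D) : G) (ρ ((t.out : D) : G) b)) := by rw [h6, neg_neg]
      conv_lhs => rw [h7, map_neg, hinv]
      ring
    have h3 : LinearIndependent F (fun t : {t // ¬ P t} => (⟨v t.1, h1 t⟩ : Adj f (-1))) := by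
      apply LinearIndependent.of_comp (Adj f (-1)).subtype
      exact hli.comp _ Subtype.val_injective
    exact h3.fintype_card_le_finrank.trans (finrank_skew f hsym hnd h2 hd4)
  have hsum : Fintype.card {t // P t} + Fintype.card {t // ¬ P t} = 16 := by
    rw [← hcT, ← Fintype.card_congr (Equiv.sumCompl P), Fintype.card_sum]
  have hP : Fintype.card {t // P t} = 10 := by omega
  -- the action of `y`
  have hker : Z.subgroupOf D ≤ (Z.subgroupOf D).comap h.al := by
    intro x hx
    rw [Subgroup.mem_comap, Subgroup.mem_subgroupOf]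
    rw [Subgroup.mem_subgroupOf] at hx
    exact hZn _ hx
  let γ : T →* T := QuotientGroup.map _ _ h.al hker
  have hγP : ∀ t, P t → P (γ t) := by
    intro t
    induction t using QuotientGroup.induction_on with
    | H d =>
      intro ht
      have h1 : γ (QuotientGroup.mk d) = QuotientGroup.mk (h.al d) := rfl
      rw [h1, hPmk]
      rw [hPmk] at ht
      have h3 : ((h.al d : D) : G) * ((h.al d : D) : G) = y * ((d : G) * d) * y⁻¹ := by
        rw [MinD.coe_al]
        group
      rw [h3, map_mul, map_mul, ht, mul_one, ← map_mul, mul_inv_cancel, map_one]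
  let g : Function.End {t // P t} := fun t => ⟨γ t.1, hγP _ t.2⟩
  have hit : ∀ (n : ℕ) (t : {t // P t}), ((g^[n] t : {t // P t}) : T) = (fun x => γ x)^[n] t.1 := by
    intro n t
    induction n with
    | zero => rfl
    | succ n ih =>
      rw [Function.iterate_succ_apply', Function.iterate_succ_apply', ← ih]
  have hit2 : ∀ (n : ℕ) (d : D), ((fun x => γ x)^[n] (QuotientGroup.mk d) : T) =
      QuotientGroup.mk ((fun x => h.al x)^[n] d) := by
    intro n d
    induction n with
    | zero => rfl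
    | succ n ih =>
      rw [Function.iterate_succ_apply', Function.iterate_succ_apply', ih]
      rfl
  obtain ⟨k, hk⟩ := h.hy
  have hg : g ^ 5 ^ k = 1 := by
    have h1 : ∀ n : ℕ, (g ^ n : Function.End {t // P t}) = g^[n] := by
      intro n
      induction n with
      | zero => rfl
      | succ n ih => rw [pow_succ, ih]; rfl
    refine (h1 (5 ^ k)).trans ?_
    funext t
    apply Subtype.ext
    rw [hit]
    show _ = t.1
    obtain ⟨t, ht⟩ := t
    induction t using QuotientGroup.induction_on with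
    | H d =>
      show ((fun x => γ x)^[5 ^ k] (QuotientGroup.mk d) : T) = QuotientGroup.mk d
      rw [hit2]
      congr 1
      apply Subtype.ext
      rw [MinD.coe_al_iterate, hk]
      simp
  have h5p : Fact (Nat.Prime 5) := ⟨by norm_num⟩
  have hmod := Equiv.Perm.card_fixedPoints_modEq (p := 5) hg
  have hfix : Fintype.card (Function.fixedPoints g) = 1 := by
    rw [Fintype.card_eq_one_iff]
    have hP1 : P 1 := by
      have h1 := (hPmk 1).mpr (by simp)
      exact h1
    refine ⟨⟨⟨1, hP1⟩, ?_⟩, ?_⟩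
    · show g ⟨1, hP1⟩ = ⟨1, hP1⟩
      exact Subtype.ext (map_one γ)
    · rintro ⟨⟨q, hqP⟩, hq⟩
      apply Subtype.ext
      apply Subtype.ext
      show q = 1
      rw [Function.mem_fixedPoints] at hq
      have hq' : γ q = q := congrArg Subtype.val hq
      clear hq
      induction q using QuotientGroup.induction_on with
      | H d =>
        have h3 : (QuotientGroup.mk (h.al d) : T) = QuotientGroup.mk d := hq'
        rw [eq_comm, QuotientGroup.eq, Subgroup.mem_subgroupOf] at h3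
        rw [QuotientGroup.eq_one_iff, Subgroup.mem_subgroupOf]
        refine h.mem_of_comm_mem hZn hZc d.2 ?_
        have h4 : (d : G) * (((d⁻¹ * h.al d : D) : G)) * (d : G)⁻¹ ∈ Z := by
          have := hnor.conj_mem (d⁻¹ * h.al d) (by rw [Subgroup.mem_subgroupOf]; exact h3) d
          rw [Subgroup.mem_subgroupOf] at this
          exact this
        have h5 : y * d * y⁻¹ * (d : G)⁻¹ = (d : G) * (((d⁻¹ * h.al d : D) : G)) * (d : G)⁻¹ := by
          rw [Subgroup.coe_mul, Subgroup.coe_inv, MinD.coe_al]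
          group
        rw [h5]
        exact h4
  rw [hfix, hP] at hmod
  exact absurd hmod (by decide)

/-- the faithful case -/
theorem no_minD (ρ : Representation F G M) (hρ : Function.Injective ρ) (h2 : (2 : F) ≠ 0)
    (f : M →ₗ[F] M →ₗ[F] F) (hsym : ∀ u v, f u v = f v u) (hnd : ∀ x, (∀ y, f x y = 0) → x = 0)
    (hinv : ∀ g u v, f (ρ g u) (ρ g v) = f u v)
    (hdim : finrank F M ≤ 4) (h5 : 5 ≤ r) (h : MinD 2 r y D) : False := by
  have hab := abelian_of ρ hρ h2 f hsym hnd hinv hdim h5 h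
  obtain ⟨a, ha, hya⟩ := h.exists_ncomm
  have h1 : ρ a ≠ 1 := by
    intro h0
    have : a = 1 := hρ (by rw [h0, map_one])
    rw [this, mul_one, one_mul] at hya
    exact hya rfl
  obtain ⟨E, -, -, hV, hle⟩ := alpha2 ρ h (by omega) (by exact_mod_cast h2) hab ⟨a, ha, h1⟩
  have h3 : 0 < finrank F (VE ρ E D) := by
    rw [Nat.pos_iff_ne_zero]
    intro h0
    exact hV (Submodule.finrank_eq_zero.mp h0)
  have h4 : finrank F (CV ρ D) ≤ finrank F M := Submodule.finrank_le _
  nlinarith

/-- **the small case** -/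
theorem partA (ρ : Representation F G M) (h2 : (2 : F) ≠ 0)
    (f : M →ₗ[F] M →ₗ[F] F) (hsym : ∀ u v, f u v = f v u) (hnd : ∀ x, (∀ y, f x y = 0) → x = 0)
    (hinv : ∀ g u v, f (ρ g u) (ρ g v) = f u v)
    (hdim : finrank F M ≤ 4) (hr : r.Prime) (h5 : 5 ≤ r) {n : ℕ} (hy : y ^ r ^ n = 1) (hD : IsPGroup 2 D)
    (hn : Nrm y D) : ∀ d ∈ D, ρ (y * d * y⁻¹ * d⁻¹) = 1 := by
  classical
  let μ : G →* (Module.End F M)ˣ := MonoidHom.toHomUnits ρ
  have hμ : ∀ g, ((μ g : (Module.End F M)ˣ) : Module.End F M) = ρ g := fun g => rfl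
  let R := μ.range
  have : Finite R := Finite.of_surjective _ μ.rangeRestrict_surjective
  let σ : Representation F R M := (Units.coeHom (Module.End F M)).comp R.subtype
  have hσ : ∀ g : G, σ (μ.rangeRestrict g) = ρ g := fun g => rfl
  have hσi : Function.Injective σ := by
    intro a b hab
    exact Subtype.ext (Units.ext hab)
  have hsurj := μ.rangeRestrict_surjective
  by_contra hcon
  push Not at hcon
  obtain ⟨d, hd, hne⟩ := hcon
  have hnR : Nrm (μ.rangeRestrict y) (D.map μ.rangeRestrict) := by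
    rintro _ ⟨e, he, rfl⟩
    refine ⟨y * e * y⁻¹, hn e he, ?_⟩
    rw [map_mul, map_mul, map_inv]
  have hc : ¬ Cen (μ.rangeRestrict y) (D.map μ.rangeRestrict) := by
    intro hcen
    apply hne
    have h1 := hcen (μ.rangeRestrict d) ⟨d, hd, rfl⟩
    rw [← hσ, map_mul μ.rangeRestrict, map_mul μ.rangeRestrict, map_mul μ.rangeRestrict, map_inv, map_inv, h1,
      mul_inv_cancel_right, mul_inv_cancel, map_one]
  have : Fact (Nat.Prime 2) := ⟨Nat.prime_two⟩
  obtain ⟨D', -, hmin⟩ := exists_minD (s := 2) (t := r) Nat.prime_two hr (by omega) (y := μ.rangeRestrict y)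
    (B := D.map μ.rangeRestrict) (by
      rintro _ ⟨e, he, rfl⟩
      obtain ⟨k, hk⟩ := hD ⟨e, he⟩
      refine ⟨k, ?_⟩
      have hk' : e ^ 2 ^ k = 1 := by simpa using congrArg Subtype.val hk
      rw [← map_pow, hk', map_one]) ⟨n, by rw [← map_pow, hy, map_one]⟩ hnR hc
  refine no_minD σ hσi h2 f hsym hnd ?_ hdim h5 hmin
  intro g u v
  obtain ⟨g, rfl⟩ := hsurj g
  rw [hσ]
  exact hinv g u v

end Cfsg.Agent.H556.OmSmall
end

-- part: H556/OmMax
section
/-!
# Maximal families of orthogonal 4-frames (helper556)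
-/

set_option autoImplicit false
set_option linter.unusedSectionVars false

namespace Cfsg.Agent.H556.Om

open Module QuadraticMap Cfsg.Agent.H167.OP Cfsg.Agent.H170.HL Cfsg.Agent.H170.HL.OmRow Cfsg.Agent.H170.Fl

variable {F : Type*} [Field F] {ι : Type} [Fintype ι] [DecidableEq ι] {Q : QuadraticForm F (ι → F)}
variable {J : Type*} [Fintype J] [DecidableEq J]

theorem exists_next (hnd : (polarBilin Q).Nondegenerate) (h2 : (2 : F) ≠ 0) {x : J → ι → F}
    (hx : ∀ j, polarBilin Q (x j) (x j) ≠ 0) (ho : ∀ i j, i ≠ j → polarBilin Q (x i) (x j) = 0)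
    (hc : Fintype.card J < Fintype.card ι) :
    ∃ w, (∀ j, polarBilin Q (x j) w = 0) ∧ polarBilin Q w w ≠ 0 := by
  by_contra hcon
  push Not at hcon
  let Φ : (ι → F) →ₗ[F] (J → F) := LinearMap.pi fun j => polarBilin Q (x j)
  have h1 : LinearMap.ker Φ ≠ ⊥ := by
    apply LinearMap.ker_ne_bot_of_finrank_lt
    rw [Module.finrank_pi, Module.finrank_pi]
    exact hc
  obtain ⟨w, hw, hw0⟩ := Submodule.exists_mem_ne_zero_of_ne_bot h1
  have hmem : ∀ v, v ∈ LinearMap.ker Φ ↔ ∀ j, polarBilin Q (x j) v = 0 := by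
    intro v
    rw [LinearMap.mem_ker]
    constructor
    · intro h j
      exact congrFun h j
    · intro h
      funext j
      exact h j
  have h3 : ∀ w', (∀ j, polarBilin Q (x j) w' = 0) → polarBilin Q w w' = 0 := by
    intro w' hw'
    have hw1 := (hmem w).mp hw
    have e1 := hcon w hw1
    have e2 := hcon w' hw'
    have e3 := hcon (w + w') fun j => by rw [map_add, hw1 j, hw' j, add_zero]
    rw [map_add, map_add, LinearMap.add_apply, LinearMap.add_apply, e1, e2, polar_symm w' w] at e3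
    have e4 : (2 : F) * polarBilin Q w w' = 0 := by linear_combination e3
    exact (mul_eq_zero.mp e4).resolve_left h2
  apply hw0
  apply hnd.1
  intro v
  let c : J → F := fun j => polarBilin Q (x j) v * (polarBilin Q (x j) (x j))⁻¹
  have h4 : ∀ j, polarBilin Q (x j) (v - ∑ k, c k • x k) = 0 := by
    intro j
    rw [map_sub, map_sum, Finset.sum_eq_single j]
    · rw [map_smul, smul_eq_mul]
      simp only [c]
      rw [mul_assoc, inv_mul_cancel₀ (hx j), mul_one, sub_self]
    · intro k _ hk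
      rw [map_smul, ho j k hk.symm, smul_zero]
    · intro h
      exact absurd (Finset.mem_univ j) h
  have h5 := h3 _ h4
  rw [map_sub, map_sum, Finset.sum_eq_zero, sub_zero] at h5
  · exact h5
  · intro k _
    rw [map_smul, polar_symm, (hmem w).mp hw k, smul_zero]

theorem exists_unit [Finite F] (hnd : (polarBilin Q).Nondegenerate) (h2 : (2 : F) ≠ 0) {e : J → ι → F}
    (hF : Frame (polarBilin Q) e) (hc : Fintype.card J + 2 ≤ Fintype.card ι) :
    ∃ w, (∀ j, polarBilin Q (e j) w = 0) ∧ polarBilin Q w w = 2 := by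
  classical
  have : Fintype F := Fintype.ofFinite F
  obtain ⟨x, hx, hx0⟩ := exists_next hnd h2 (x := e) (fun j => by rw [hF.self]; exact h2) hF.orth (by omega)
  obtain ⟨y, hy, hy0⟩ := exists_next hnd h2 (x := fun o : Option J => o.elim x e) (by
    rintro (_ | j)
    · exact hx0
    · show polarBilin Q (e j) (e j) ≠ 0
      rw [hF.self]; exact h2) (by
    rintro (_ | i) (_ | j) hij
    · exact absurd rfl hij
    · show polarBilin Q x (e j) = 0
      rw [polar_symm, hx]
    · exact hx i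
    · exact hF.orth i j fun h => hij (congrArg some h)) (by
    rw [Fintype.card_option]; omega)
  have hyx : polarBilin Q x y = 0 := hy none
  have hye : ∀ j, polarBilin Q (e j) y = 0 := fun j => hy (some j)
  obtain ⟨a, b, hab⟩ := FiniteField.exists_root_sum_quadratic (R := F)
    (f := Polynomial.C (polarBilin Q x x) * Polynomial.X ^ 2 + Polynomial.C 0 * Polynomial.X + Polynomial.C (-2))
    (g := Polynomial.C (polarBilin Q y y) * Polynomial.X ^ 2 + Polynomial.C 0 * Polynomial.X + Polynomial.C 0)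
    (Polynomial.degree_quadratic hx0) (Polynomial.degree_quadratic hy0) (by
      have hchar : ringChar F ≠ 2 := by
        intro h
        apply h2
        have := ringChar.Nat.cast_ringChar (R := F)
        rw [h] at this
        exact_mod_cast this
      exact FiniteField.odd_card_of_char_ne_two hchar)
  refine ⟨a • x + b • y, fun j => ?_, ?_⟩
  · rw [map_add, map_smul, map_smul, hx, hye, smul_zero, smul_zero, add_zero]
  · have e1 : polarBilin Q (a • x + b • y) (a • x + b • y) = a * (a * polarBilin Q x x) +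
        a * (b * polarBilin Q x y) + (b * (a * polarBilin Q y x) + b * (b * polarBilin Q y y)) := by
      simp only [map_add, map_smul, LinearMap.add_apply, LinearMap.smul_apply, smul_eq_mul]
      ring
    rw [e1, polar_symm y x, hyx]
    simp only [Polynomial.eval_add, Polynomial.eval_mul, Polynomial.eval_pow, Polynomial.eval_C, Polynomial.eval_X]
      at hab
    linear_combination hab

theorem frame_sum {e : J → ι → F} (hF : Frame (polarBilin Q) e) {K : Type*} [Fintype K] [DecidableEq K]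
    {x : K → ι → F} (hx : Frame (polarBilin Q) x) (ho : ∀ j k, polarBilin Q (e j) (x k) = 0) :
    Frame (polarBilin Q) (Sum.elim e x) := by
  refine ⟨?_, ?_⟩
  · rintro (i | i)
    · exact hF.self i
    · exact hx.self i
  · rintro (i | i) (j | j) hij
    · exact hF.orth i j fun h => hij (congrArg Sum.inl h)
    · exact ho i j
    · show polarBilin Q (x i) (e j) = 0
      rw [polar_symm, ho]
    · exact hx.orth i j fun h => hij (congrArg Sum.inr h)

theorem exists_frames [Finite F] (hnd : (polarBilin Q).Nondegenerate) (h2 : (2 : F) ≠ 0) {e : J → ι → F}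
    (hF : Frame (polarBilin Q) e) (m : ℕ) (hc : Fintype.card J + m + 1 ≤ Fintype.card ι) :
    ∃ x : Fin m → ι → F, Frame (polarBilin Q) x ∧ ∀ j k, polarBilin Q (e j) (x k) = 0 := by
  induction m with
  | zero => exact ⟨fun i => i.elim0, ⟨fun i => i.elim0, fun i => i.elim0⟩, fun _ k => k.elim0⟩
  | succ m ih =>
    obtain ⟨x, hx, ho⟩ := ih (by omega)
    obtain ⟨w, hw, hw2⟩ := exists_unit hnd h2 (frame_sum hF hx ho) (by
      rw [Fintype.card_sum, Fintype.card_fin]; omega)
    refine ⟨Fin.cons w x, ⟨?_, ?_⟩, ?_⟩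
    · intro i
      refine Fin.cases ?_ (fun i => ?_) i
      · rw [Fin.cons_zero, hw2]
      · rw [Fin.cons_succ, hx.self]
    · intro i j
      refine Fin.cases ?_ (fun i => ?_) i <;> refine Fin.cases ?_ (fun j => ?_) j
      · intro h; exact absurd rfl h
      · intro _
        rw [Fin.cons_zero, Fin.cons_succ, polar_symm]
        exact hw (Sum.inr j)
      · intro _
        rw [Fin.cons_zero, Fin.cons_succ]
        exact hw (Sum.inr i)
      · intro h
        rw [Fin.cons_succ, Fin.cons_succ]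
        exact hx.orth i j fun h' => h (congrArg Fin.succ h')
    · intro j k
      refine Fin.cases ?_ (fun k => ?_) k
      · rw [Fin.cons_zero]; exact hw (Sum.inl j)
      · rw [Fin.cons_succ]; exact ho j k

/-- adjoining a block -/
theorem exists_cons {m : ℕ} {E : Fin m × A4 → ι → F} (hE : Frame (polarBilin Q) E) {x : A4 → ι → F}
    (hx : Frame (polarBilin Q) x) (ho : ∀ j k, polarBilin Q (E j) (x k) = 0) :
    ∃ E' : Fin (m + 1) × A4 → ι → F, Frame (polarBilin Q) E' := by
  refine ⟨fun j => Fin.cases (x j.2) (fun k => E (k, j.2)) j.1, ⟨?_, ?_⟩⟩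
  · rintro ⟨i, a⟩
    refine Fin.cases ?_ (fun i => ?_) i
    · exact hx.self a
    · exact hE.self (i, a)
  · rintro ⟨i, a⟩ ⟨j, b⟩
    refine Fin.cases ?_ (fun i => ?_) i <;> refine Fin.cases ?_ (fun j => ?_) j
    · intro h
      exact hx.orth a b fun h' => h (by rw [h'])
    · intro _
      show polarBilin Q (x a) (E (j, b)) = 0
      rw [polar_symm, ho]
    · intro _
      exact ho _ _
    · intro h
      exact hE.orth (i, a) (j, b) fun h' => h (by
        rw [Prod.mk.injEq] at h' ⊢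
        exact ⟨congrArg Fin.succ h'.1, h'.2⟩)

theorem card_le {m : ℕ} (h2 : (2 : F) ≠ 0) {E : Fin m × A4 → ι → F} (hE : Frame (polarBilin Q) E) :
    4 * m ≤ Fintype.card ι := by
  have h1 := (hE.linearIndependent h2).fintype_card_le_finrank
  rw [Module.finrank_pi, Fintype.card_prod, Fintype.card_fin] at h1
  have h3 : Fintype.card A4 = 4 := rfl
  rw [h3] at h1
  omega

/-- maximal families -/
theorem exists_max [Finite F] (hnd : (polarBilin Q).Nondegenerate) (h2 : (2 : F) ≠ 0) :
    ∃ (m : ℕ) (E : Fin m × A4 → ι → F), Frame (polarBilin Q) E ∧ Fintype.card ι ≤ 4 * m + 4 ∧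
      ∀ E' : Fin (m + 1) × A4 → ι → F, ¬ Frame (polarBilin Q) E' := by
  classical
  have hex : ∃ m, ∀ E' : Fin (m + 1) × A4 → ι → F, ¬ Frame (polarBilin Q) E' := by
    refine ⟨Fintype.card ι, fun E' hE' => ?_⟩
    have := card_le h2 hE'
    omega
  have hm := Nat.find_spec hex
  set m := Nat.find hex with hmdef
  have hE : ∃ E : Fin m × A4 → ι → F, Frame (polarBilin Q) E := by
    rcases Nat.eq_zero_or_pos m with h0 | h0
    · rw [h0]
      exact ⟨fun j => j.1.elim0, ⟨fun j => j.1.elim0, fun j => j.1.elim0⟩⟩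
    · obtain ⟨k, hk⟩ := Nat.exists_eq_succ_of_ne_zero h0.ne'
      have h1 := Nat.find_min hex (m := k) (by omega)
      push Not at h1
      rw [hk]
      exact h1
  obtain ⟨E, hE⟩ := hE
  refine ⟨m, E, hE, ?_, hm⟩
  by_contra hcon
  push Not at hcon
  obtain ⟨x, hx, ho⟩ := exists_frames hnd h2 hE 4 (by
    rw [Fintype.card_prod, Fintype.card_fin]
    have h3 : Fintype.card A4 = 4 := rfl
    rw [h3]
    omega)
  let ε : A4 ≃ Fin 4 := Fintype.equivFinOfCardEq rfl
  obtain ⟨E', hE'⟩ := exists_cons hE (x := x ∘ ε) (hx.comp ε.injective) fun j k => ho j (ε k)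
  exact hm E' hE'

end Cfsg.Agent.H556.Om
end
end
end
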